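import Mathlib

/-!
# Integrality of the determinant of an integral endomorphism (helper6)

If an endomorphism `f` of a finite-dimensional vector space over a field `L` is annihilated by a
monic polynomial with coefficients in a subring `R`, then `det f` is integral over `R`.
-/

set_option autoImplicit false
set_option linter.unusedSectionVars false
set_option linter.unusedVariables false
set_option linter.unusedSimpArgs false
set_option linter.style.haveILetI false
set_option maxHeartbeats 400000
open scoped TensorProduct
open Polynomial

namespace Groth.Agent.Lib.Helper6.ZC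

theorem isIntegral_det_of_aeval_eq_zero {R L W : Type*} [CommRing R] [Field L] [Algebra R L]
    [AddCommGroup W] [Module L W] [Module.Finite L W] (f : Module.End L W) (p : R[X])
    (hp : p.Monic) (h : aeval f (p.map (algebraMap R L)) = 0) :
    IsIntegral R (LinearMap.det f) := by
  let Ω := AlgebraicClosure L
  let fΩ : Module.End Ω (Ω ⊗[L] W) := f.baseChange Ω
  have hdet : LinearMap.det fΩ = algebraMap L Ω (LinearMap.det f) := LinearMap.det_baseChange f
  have hann : aeval fΩ (p.map (algebraMap R Ω)) = 0 := by
    have h1 : aeval (Module.End.baseChangeHom L Ω W f) (p.map (algebraMap R L)) = 0 := by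
      rw [aeval_algHom_apply, h, map_zero]
    have h2 : (p.map (algebraMap R Ω)) = (p.map (algebraMap R L)).map (algebraMap L Ω) := by
      rw [Polynomial.map_map, ← IsScalarTower.algebraMap_eq]
    rw [h2, aeval_map_algebraMap]
    exact h1
  have hroot : ∀ μ ∈ fΩ.charpoly.roots, IsIntegral R μ := by
    intro μ hμ
    have hμ' : fΩ.charpoly.IsRoot μ := (Polynomial.mem_roots'.mp hμ).2
    rw [← Module.End.hasEigenvalue_iff_isRoot_charpoly] at hμ'
    obtain ⟨v, hv⟩ := hμ'.exists_hasEigenvector
    have h3 := Module.End.aeval_apply_of_hasEigenvector (p := p.map (algebraMap R Ω)) hv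
    rw [hann, LinearMap.zero_apply] at h3
    have h4 : eval μ (p.map (algebraMap R Ω)) = 0 := by
      rcases smul_eq_zero.mp h3.symm with h5 | h5
      · exact h5
      · exact absurd h5 hv.2
    refine ⟨p, hp, ?_⟩
    rw [← Polynomial.eval_map]
    exact h4
  have hprod : IsIntegral R (LinearMap.det fΩ) := by
    rw [Module.End.det_eq_prod_roots_charpoly_of_splits (IsAlgClosed.splits _)]
    exact IsIntegral.multiset_prod hroot
  rw [hdet] at hprod
  exact (isIntegral_algebraMap_iff (algebraMap L Ω).injective).mp hprod

end Groth.Agent.Lib.Helper6.ZC
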