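import Mathlib
import Groth.Prelude.Def_PolLaw

/-!
# Coefficients of a polynomial law on a free module (helper6)

For a polynomial law `F : B →ₚₗ[A] N` on a module with a basis `e : I → B` we extract the
coefficients `c J ν ∈ N` of `F (∑_{j ∈ J} X_j ⊗ e_j)` and prove the expansion formula
`F_S (∑_{j∈J} s_j ⊗ e_j) = ∑_ν s^ν ⊗ c J ν`.
-/

set_option autoImplicit false
set_option linter.unusedSectionVars false
set_option linter.unusedVariables false
set_option linter.unusedSimpArgs false
set_option linter.style.haveILetI false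
set_option maxHeartbeats 400000
universe u
open scoped TensorProduct
open MvPolynomial

namespace Groth.Agent.Lib.Helper6.ZC

section CoeffN

variable {A : Type*} [CommRing A] {σ : Type*} {N : Type*} [AddCommGroup N] [Module A N]

/-- The coefficient functional on `A[σ] ⊗ N`. -/
noncomputable def coeffN (ν : σ →₀ ℕ) : MvPolynomial σ A ⊗[A] N →ₗ[A] N :=
  (TensorProduct.lid A N).toLinearMap ∘ₗ (MvPolynomial.lcoeff A ν).rTensor N

@[simp] lemma coeffN_tmul (ν : σ →₀ ℕ) (p : MvPolynomial σ A) (n : N) :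
    coeffN ν (p ⊗ₜ[A] n) = MvPolynomial.coeff ν p • n := by
  simp [coeffN, MvPolynomial.lcoeff]

lemma coeffN_eq_equiv [DecidableEq σ] (z : MvPolynomial σ A ⊗[A] N) (ν : σ →₀ ℕ) :
    coeffN ν z = TensorProduct.equivFinsuppOfBasisLeft (basisMonomials σ A) z ν := by
  induction z using TensorProduct.induction_on with
  | zero => simp
  | tmul p n =>
    rw [coeffN_tmul, TensorProduct.equivFinsuppOfBasisLeft_apply_tmul_apply]
    rfl
  | add x y hx hy => rw [map_add, map_add, Finsupp.add_apply, hx, hy]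

lemma ext_coeffN {z z' : MvPolynomial σ A ⊗[A] N} (h : ∀ ν, coeffN ν z = coeffN ν z') : z = z' := by
  classical
  apply (TensorProduct.equivFinsuppOfBasisLeft (basisMonomials σ A)).injective
  ext ν
  rw [← coeffN_eq_equiv, ← coeffN_eq_equiv]
  exact h ν

/-- The finitely supported family of coefficients. -/
noncomputable def coeffs [DecidableEq σ] (z : MvPolynomial σ A ⊗[A] N) : (σ →₀ ℕ) →₀ N :=
  TensorProduct.equivFinsuppOfBasisLeft (basisMonomials σ A) z

lemma coeffs_apply [DecidableEq σ] (z : MvPolynomial σ A ⊗[A] N) (ν : σ →₀ ℕ) :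
    coeffs z ν = coeffN ν z := (coeffN_eq_equiv z ν).symm

lemma eq_sum_coeffs [DecidableEq σ] (z : MvPolynomial σ A ⊗[A] N) :
    z = ∑ ν ∈ (coeffs z).support, (monomial ν (1 : A)) ⊗ₜ[A] coeffs z ν := by
  have h := (TensorProduct.equivFinsuppOfBasisLeft (basisMonomials σ A)).symm_apply_apply z
  rw [TensorProduct.equivFinsuppOfBasisLeft_symm_apply] at h
  conv_lhs => rw [← h]
  rfl

lemma coeffN_monomial_tmul [DecidableEq σ] (ν μ : σ →₀ ℕ) (a : A) (n : N) :
    coeffN ν (monomial μ a ⊗ₜ[A] n) = if μ = ν then a • n else 0 := by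
  rw [coeffN_tmul, MvPolynomial.coeff_monomial]
  split_ifs <;> simp

end CoeffN

section KF

variable {A : Type u} [CommRing A] {B : Type u} [AddCommGroup B] [Module A B]
  {N : Type u} [AddCommGroup N] [Module A N]
variable {I : Type u} [DecidableEq I] (e : Module.Basis I A B) (F : B →ₚₗ[A] N)

/-- The generic element on the finite set `J` of basis vectors. -/
noncomputable def gen (J : Finset I) : MvPolynomial I A ⊗[A] B := ∑ j ∈ J, X j ⊗ₜ[A] e j

/-- The coefficients of the law `F` at the generic element on `J`. -/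
noncomputable def cJ (J : Finset I) : (I →₀ ℕ) →₀ N :=
  coeffs (F.toFun' (MvPolynomial I A) (gen e J))

lemma rTensor_aeval_gen {S : Type u} [CommSemiring S] [Algebra A S] (s : I → S) (J : Finset I) :
    (MvPolynomial.aeval s : MvPolynomial I A →ₐ[A] S).toLinearMap.rTensor B (gen e J) =
      ∑ j ∈ J, s j ⊗ₜ[A] e j := by
  rw [gen, map_sum]
  refine Finset.sum_congr rfl fun j _ => ?_
  rw [LinearMap.rTensor_tmul, AlgHom.toLinearMap_apply, aeval_X]

/-- The expansion formula. -/
theorem toFun'_sum_tmul {S : Type u} [CommSemiring S] [Algebra A S] (s : I → S) (J : Finset I) :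
    F.toFun' S (∑ j ∈ J, s j ⊗ₜ[A] e j) =
      ∑ ν ∈ (cJ e F J).support, (ν.prod fun i m => s i ^ m) ⊗ₜ[A] cJ e F J ν := by
  rw [← rTensor_aeval_gen e s J, ← PolynomialLaw.isCompat_apply']
  conv_lhs => rw [eq_sum_coeffs (F.toFun' (MvPolynomial I A) (gen e J))]
  rw [map_sum]
  refine Finset.sum_congr rfl fun ν _ => ?_
  rw [LinearMap.rTensor_tmul, AlgHom.toLinearMap_apply, aeval_monomial, map_one, one_mul]
  rfl

lemma prod_X_pow_eq_monomial {τ : Type*} (ν : τ →₀ ℕ) :
    (ν.prod fun i m => (X i : MvPolynomial τ A) ^ m) = monomial ν 1 := by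
  rw [MvPolynomial.monomial_eq, map_one, one_mul]

lemma prod_ite_X_pow (J₀ : Finset I) (ν : I →₀ ℕ) :
    (ν.prod fun i m => (if i ∈ J₀ then (X i : MvPolynomial I A) else 0) ^ m) =
      if ν.support ⊆ J₀ then monomial ν 1 else 0 := by
  split_ifs with h
  · rw [← prod_X_pow_eq_monomial]
    refine Finset.prod_congr rfl fun i hi => ?_
    show (if i ∈ J₀ then (X i : MvPolynomial I A) else 0) ^ (ν i) = X i ^ (ν i)
    rw [if_pos (h hi)]
  · rw [Finset.not_subset] at h
    obtain ⟨i, hi, hiJ⟩ := h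
    refine Finset.prod_eq_zero hi ?_
    show (if i ∈ J₀ then (X i : MvPolynomial I A) else 0) ^ (ν i) = 0
    rw [if_neg hiJ, zero_pow (Finsupp.mem_support_iff.mp hi)]

/-- Support and consistency of the coefficients. -/
theorem cJ_of_subset {J₀ J : Finset I} (h : J₀ ⊆ J) (μ : I →₀ ℕ) :
    cJ e F J₀ μ = if μ.support ⊆ J₀ then cJ e F J μ else 0 := by
  have h1 := toFun'_sum_tmul e F (fun i => if i ∈ J₀ then (X i : MvPolynomial I A) else 0) J
  have h2 : ∑ j ∈ J, (if j ∈ J₀ then (X j : MvPolynomial I A) else 0) ⊗ₜ[A] e j = gen e J₀ := by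
    rw [gen, ← Finset.sum_subset h]
    · refine Finset.sum_congr rfl fun j hj => ?_
      rw [if_pos hj]
    · intro j _ hj
      rw [if_neg hj, TensorProduct.zero_tmul]
  rw [h2] at h1
  rw [cJ, coeffs_apply, h1, map_sum]
  simp only [prod_ite_X_pow]
  by_cases hμ : μ.support ⊆ J₀
  · rw [if_pos hμ]
    by_cases hμs : μ ∈ (cJ e F J).support
    · rw [Finset.sum_eq_single μ]
      · rw [if_pos hμ, coeffN_monomial_tmul, if_pos rfl, one_smul]
      · intro ν _ hne
        split_ifs
        · rw [coeffN_monomial_tmul, if_neg hne]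
        · rw [TensorProduct.zero_tmul, map_zero]
      · intro hc; exact absurd hμs hc
    · rw [Finsupp.notMem_support_iff.mp hμs]
      refine Finset.sum_eq_zero fun ν hν => ?_
      split_ifs
      · rw [coeffN_monomial_tmul, if_neg]
        rintro rfl
        exact hμs hν
      · rw [TensorProduct.zero_tmul, map_zero]
  · rw [if_neg hμ]
    refine Finset.sum_eq_zero fun ν hν => ?_
    split_ifs with hνJ
    · rw [coeffN_monomial_tmul, if_neg]
      rintro rfl
      exact hμ hνJ
    · rw [TensorProduct.zero_tmul, map_zero]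

lemma cJ_eq_zero_of_not_subset (J : Finset I) (μ : I →₀ ℕ) (h : ¬ μ.support ⊆ J) :
    cJ e F J μ = 0 := by
  rw [cJ_of_subset e F (Finset.Subset.refl J) μ, if_neg h]

lemma cJ_eq_of_subset {J₀ J : Finset I} (h : J₀ ⊆ J) (μ : I →₀ ℕ) (hμ : μ.support ⊆ J₀) :
    cJ e F J₀ μ = cJ e F J μ := by
  rw [cJ_of_subset e F h μ, if_pos hμ]

/-- The coefficient of `F` at the type `ν`. -/
noncomputable def coef (ν : I →₀ ℕ) : N := cJ e F ν.support ν

lemma cJ_eq_coef (J : Finset I) (μ : I →₀ ℕ) (hμ : μ.support ⊆ J) : cJ e F J μ = coef e F μ :=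
  (cJ_eq_of_subset e F hμ μ (Finset.Subset.refl _)).symm

end KF

section Homog

variable {A : Type u} [CommRing A] {B : Type u} [AddCommGroup B] [Module A B]
  {N : Type u} [AddCommGroup N] [Module A N]
variable {I : Type u} [DecidableEq I] (e : Module.Basis I A B) (F : B →ₚₗ[A] N)

lemma prod_mul_X_pow (ν : I →₀ ℕ) :
    (ν.prod fun i m => ((X none : MvPolynomial (Option I) A) * X (some i)) ^ m) =
      monomial (ν.optionElim ν.degree) 1 := by
  rw [← prod_X_pow_eq_monomial, Finsupp.prod_option_index]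
  · rw [Finsupp.optionElim_apply_none, Finsupp.some_optionElim]
    simp only [mul_pow]
    rw [Finsupp.prod_mul]
    congr 1
    rw [Finsupp.prod, Finset.prod_pow_eq_pow_sum, Finsupp.degree_apply]
  · intro o; exact pow_zero _
  · intro o m₁ m₂; exact pow_add _ _ _

lemma prod_X_some_pow (ν : I →₀ ℕ) (k : ℕ) :
    (X none : MvPolynomial (Option I) A) ^ k * (ν.prod fun i m => (X (some i)) ^ m) =
      monomial (ν.optionElim k) 1 := by
  rw [← prod_X_pow_eq_monomial, Finsupp.prod_option_index]
  · rw [Finsupp.optionElim_apply_none, Finsupp.some_optionElim]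
  · intro o; exact pow_zero _
  · intro o m₁ m₂; exact pow_add _ _ _

/-- For a law homogeneous of degree `d`, the coefficients of degree `≠ d` vanish. -/
theorem cJ_eq_zero_of_degree_ne {d : ℕ} (hF : PolLaw.IsHomog F d) (J : Finset I) (μ : I →₀ ℕ)
    (hμ : μ.degree ≠ d) : cJ e F J μ = 0 := by
  by_contra hne
  have hμs : μ ∈ (cJ e F J).support := Finsupp.mem_support_iff.mpr hne
  have h1 := toFun'_sum_tmul e F
    (fun i => (X none : MvPolynomial (Option I) A) * X (some i)) J
  have h2 := toFun'_sum_tmul e F (fun i => (X (some i) : MvPolynomial (Option I) A)) J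
  have h3 : ∑ j ∈ J, ((X none : MvPolynomial (Option I) A) * X (some j)) ⊗ₜ[A] e j =
      (X none : MvPolynomial (Option I) A) • ∑ j ∈ J, (X (some j)) ⊗ₜ[A] e j := by
    rw [Finset.smul_sum]
    refine Finset.sum_congr rfl fun j _ => ?_
    rw [TensorProduct.smul_tmul', smul_eq_mul]
  rw [h3, hF, h2, Finset.smul_sum] at h1
  have h4 := congrArg (coeffN (μ.optionElim μ.degree)) h1
  rw [map_sum, map_sum] at h4
  simp only [prod_mul_X_pow, TensorProduct.smul_tmul', smul_eq_mul, prod_X_some_pow,
    coeffN_monomial_tmul, one_smul] at h4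
  rw [Finset.sum_eq_zero, Finset.sum_eq_single μ] at h4
  · rw [if_pos rfl] at h4
    exact hne h4.symm
  · intro ν _ hνμ
    rw [if_neg]
    intro heq
    apply hνμ
    have := congrArg Finsupp.some heq
    rwa [Finsupp.some_optionElim, Finsupp.some_optionElim] at this
  · intro hc; exact absurd hμs hc
  · intro ν _
    rw [if_neg]
    intro heq
    have h5 := DFunLike.congr_fun heq none
    rw [Finsupp.optionElim_apply_none, Finsupp.optionElim_apply_none] at h5
    exact hμ h5.symm

lemma coef_eq_zero_of_degree_ne {d : ℕ} (hF : PolLaw.IsHomog F d) (μ : I →₀ ℕ)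
    (hμ : μ.degree ≠ d) : coef e F μ = 0 :=
  cJ_eq_zero_of_degree_ne e F hF _ μ hμ

end Homog

end Groth.Agent.Lib.Helper6.ZC
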