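import Mathlib

/-!
# Types of tuples and chosen representatives (helper6)

Combinatorics for symmetric tensors of a free module: each type (multiset) of degree `d` has a
chosen representative tuple, and sums over tuples of functions supported on representatives can be
regrouped by type.
-/

set_option autoImplicit false
set_option linter.unusedSectionVars false
set_option linter.unusedVariables false
set_option linter.unusedSimpArgs false
set_option linter.style.haveILetI false
set_option maxHeartbeats 400000
universe u

namespace Groth.Agent.Lib.Helper6.ZC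

section Typ

variable {κ : Type*} [DecidableEq κ] {d : ℕ}

/-- the type (multiset of values, as a finitely supported function) of a tuple
(as in helper4's `SymTenOrbit1`, copied here to keep this library self-contained) -/
noncomputable def typ (J : Fin d → κ) : κ →₀ ℕ := ∑ l, Finsupp.single (J l) 1

theorem typ_apply (J : Fin d → κ) (a : κ) :
    typ J a = (Finset.univ.filter fun l => J l = a).card := by
  classical
  rw [typ, Finsupp.finsetSum_apply, Finset.card_filter]
  refine Finset.sum_congr rfl fun l _ => ?_
  rw [Finsupp.single_apply]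

theorem typ_comp_perm (J : Fin d → κ) (σ : Equiv.Perm (Fin d)) : typ (J ∘ σ) = typ J := by
  rw [typ, typ]
  exact Equiv.sum_comp σ (fun l => Finsupp.single (J l) (1 : ℕ))

/-- tuples with the same type differ by a permutation -/
theorem exists_perm_of_typ_eq (J J' : Fin d → κ) (h : typ J = typ J') :
    ∃ σ : Equiv.Perm (Fin d), J' = J ∘ σ := by
  classical
  have hcard : ∀ a : κ, Fintype.card {l // J' l = a} = Fintype.card {l // J l = a} := by
    intro a
    rw [Fintype.card_subtype, Fintype.card_subtype, ← typ_apply, ← typ_apply, h]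
  let e : ∀ a : κ, {l // J' l = a} ≃ {l // J l = a} := fun a => Fintype.equivOfCardEq (hcard a)
  let σ : Equiv.Perm (Fin d) :=
    ((Equiv.sigmaFiberEquiv J').symm.trans (Equiv.sigmaCongrRight e)).trans (Equiv.sigmaFiberEquiv J)
  refine ⟨σ, funext fun l => ?_⟩
  have : J (σ l) = J' l := by
    change J ((e (J' l) ⟨l, rfl⟩ : {l' // J l' = J' l}) : Fin d) = J' l
    exact (e (J' l) ⟨l, rfl⟩).2
  exact this.symm

lemma degree_typ (c : Fin d → κ) : (typ c).degree = d := by
  rw [typ, map_sum]
  simp

lemma typ_snoc (c : Fin d → κ) (i : κ) :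
    typ (Fin.snoc (α := fun _ => κ) c i) = typ c + Finsupp.single i 1 := by
  rw [typ, typ, Fin.sum_univ_castSucc]
  simp

lemma exists_typ_eq : ∀ (d : ℕ) (ν : κ →₀ ℕ), ν.degree = d → ∃ c : Fin d → κ, typ c = ν := by
  intro d
  induction d with
  | zero =>
    intro ν hν
    refine ⟨Fin.elim0, ?_⟩
    have : ν = 0 := by
      rw [← Finsupp.degree_eq_zero_iff]
      exact hν
    rw [this, typ]
    simp
  | succ d ih =>
    intro ν hν
    have hne : ν ≠ 0 := by
      intro h
      rw [h, map_zero] at hν
      exact Nat.succ_ne_zero d hν.symm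
    obtain ⟨i, hi⟩ := Finsupp.support_nonempty_iff.mpr hne
    have hi' : ν i ≠ 0 := Finsupp.mem_support_iff.mp hi
    have hdecomp : ν = (ν - Finsupp.single i 1) + Finsupp.single i 1 := by
      ext j
      by_cases hj : j = i
      · subst hj
        simp only [Finsupp.coe_add, Finsupp.coe_tsub, Pi.add_apply, Pi.sub_apply,
          Finsupp.single_eq_same]
        omega
      · simp [Finsupp.single_apply, Ne.symm hj]
    have hdeg : (ν - Finsupp.single i 1).degree = d := by
      have h1 := congrArg Finsupp.degree hdecomp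
      rw [map_add, Finsupp.degree_single, hν] at h1
      omega
    obtain ⟨c, hc⟩ := ih _ hdeg
    refine ⟨Fin.snoc (α := fun _ => κ) c i, ?_⟩
    rw [typ_snoc, hc, ← hdecomp]

/-- The chosen representative of a type of degree `d`. -/
noncomputable def rep (ν : κ →₀ ℕ) (hν : ν.degree = d) : Fin d → κ :=
  (exists_typ_eq d ν hν).choose

lemma typ_rep (ν : κ →₀ ℕ) (hν : ν.degree = d) : typ (rep ν hν) = ν :=
  (exists_typ_eq d ν hν).choose_spec

lemma rep_congr {ν ν' : κ →₀ ℕ} (h : ν = ν') (hν : ν.degree = d) (hν' : ν'.degree = d) :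
    rep ν hν = rep ν' hν' := by
  subst h
  rfl

/-- The chosen representative in the orbit of a tuple. -/
noncomputable def crep (c : Fin d → κ) : Fin d → κ := rep (typ c) (degree_typ c)

lemma typ_crep (c : Fin d → κ) : typ (crep c) = typ c := typ_rep _ _

lemma crep_eq_of_typ_eq {c c' : Fin d → κ} (h : typ c = typ c') : crep c = crep c' :=
  rep_congr h _ _

lemma crep_crep (c : Fin d → κ) : crep (crep c) = crep c := crep_eq_of_typ_eq (typ_crep c)

/-- `c` is the chosen representative of its orbit. -/
def IsRep (c : Fin d → κ) : Prop := crep c = c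

lemma isRep_crep (c : Fin d → κ) : IsRep (crep c) := crep_crep c

lemma crep_comp_perm (c : Fin d → κ) (σ : Equiv.Perm (Fin d)) : crep (c ∘ σ) = crep c :=
  crep_eq_of_typ_eq (typ_comp_perm c σ)

lemma exists_perm_crep (c : Fin d → κ) : ∃ σ : Equiv.Perm (Fin d), crep c = c ∘ σ :=
  exists_perm_of_typ_eq c (crep c) (typ_crep c).symm

lemma crep_mem_piFinset {J : Finset κ} {c : Fin d → κ}
    (hc : c ∈ Fintype.piFinset (fun _ : Fin d => J)) :
    crep c ∈ Fintype.piFinset (fun _ : Fin d => J) := by
  obtain ⟨σ, hσ⟩ := exists_perm_crep c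
  rw [Fintype.mem_piFinset] at hc ⊢
  intro k
  rw [hσ]
  exact hc (σ k)

/-- Regrouping by type a sum over tuples of a function supported on chosen representatives. -/
theorem sum_piFinset_isRep {N : Type*} [AddCommMonoid N] (J : Finset κ)
    (H : (κ →₀ ℕ) → N) [DecidablePred (IsRep (κ := κ) (d := d))] :
    ∑ c ∈ Fintype.piFinset (fun _ : Fin d => J), (if IsRep c then H (typ c) else 0) =
      ∑ ν ∈ (Fintype.piFinset (fun _ : Fin d => J)).image typ, H ν := by
  classical
  rw [← Finset.sum_fiberwise_of_maps_to (t := (Fintype.piFinset (fun _ : Fin d => J)).image typ)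
    (g := typ) (fun c hc => Finset.mem_image_of_mem _ hc)]
  refine Finset.sum_congr rfl fun ν hν => ?_
  obtain ⟨c₀, hc₀, rfl⟩ := Finset.mem_image.mp hν
  rw [Finset.sum_eq_single (crep c₀)]
  · rw [if_pos (isRep_crep c₀), typ_crep]
  · intro c hc hne
    rw [Finset.mem_filter] at hc
    rw [if_neg]
    intro hrep
    apply hne
    rw [← hrep]
    exact crep_eq_of_typ_eq hc.2
  · intro hnot
    exfalso
    apply hnot
    rw [Finset.mem_filter]
    exact ⟨crep_mem_piFinset hc₀, typ_crep c₀⟩

lemma prod_eq_prod_typ {S : Type*} [CommMonoid S] (s : κ → S) (c : Fin d → κ) :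
    ∏ k, s (c k) = (typ c).prod fun i m => s i ^ m := by
  rw [typ, ← Finsupp.prod_finsetSum_index]
  · simp
  · intro i; exact pow_zero _
  · intro i m n; exact pow_add _ _ _

end Typ

end Groth.Agent.Lib.Helper6.ZC
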