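import Mathlib
import Groth.Prelude.Def_PolLaw
import Groth.Agent.Lib.Helper6.ZC.Typ
import Groth.Agent.Lib.Helper6.ZC.Coeff

/-!
# The `d`-th tensor power law and factorisation of homogeneous laws on a free algebra (helper6)

For an `A`-algebra `B` we define the law `pw : B → T^d(B)`, `x ↦ ∏_k ι_k(x)`, and show that for `B`
free as a module every polynomial law `F : B → N` homogeneous of degree `d` factors as
`F = f̃ ∘ pw` for an `A`-linear map `f̃ : T^d(B) → N`.
-/

set_option autoImplicit false
set_option linter.unusedSectionVars false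
set_option linter.unusedVariables false
set_option linter.unusedSimpArgs false
set_option linter.style.haveILetI false
set_option maxHeartbeats 400000
universe u
open scoped TensorProduct
open MvPolynomial

namespace Groth.Agent.Lib.Helper6.ZC

section Pw

variable (A : Type u) [CommRing A] (B : Type u) [CommRing B] [Algebra A B] (d : ℕ)

/-- The `d`-fold tensor power. -/
abbrev Tp : Type u := ⨂[A] _ : Fin d, B

/-- The `k`-th inclusion `B → T^d(B)`. -/
noncomputable def ιk (k : Fin d) : B →ₐ[A] Tp A B d :=
  PiTensorProduct.singleAlgHom (R := A) (A := fun _ : Fin d => B) k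

lemma prod_ιk (b : Fin d → B) : ∏ k, ιk A B d k (b k) = PiTensorProduct.tprod A b := by
  simp only [ιk, PiTensorProduct.singleAlgHom_apply]
  rw [← PiTensorProduct.tprod_prod]
  congr 1
  exact Finset.univ_prod_mulSingle b

/-- The base change of `ιk` to a test algebra. -/
noncomputable def ιS (S : Type u) [CommSemiring S] [Algebra A S] (k : Fin d) :
    S ⊗[A] B →ₐ[A] S ⊗[A] Tp A B d :=
  Algebra.TensorProduct.map (AlgHom.id A S) (ιk A B d k)

lemma ιS_tmul (S : Type u) [CommSemiring S] [Algebra A S] (k : Fin d) (s : S) (b : B) :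
    ιS A B d S k (s ⊗ₜ[A] b) = s ⊗ₜ[A] ιk A B d k b := by
  simp [ιS]

lemma rTensor_eq_map {S S' : Type u} [CommSemiring S] [Algebra A S] [CommSemiring S'] [Algebra A S']
    (φ : S →ₐ[A] S') (C : Type u) [CommRing C] [Algebra A C] (z : S ⊗[A] C) :
    φ.toLinearMap.rTensor C z = Algebra.TensorProduct.map φ (AlgHom.id A C) z := by
  induction z using TensorProduct.induction_on with
  | zero => simp
  | tmul a b => rfl
  | add a b ha hb => simp [ha, hb]

/-- The `d`-th tensor power law `x ↦ ∏_k ι_k(x)`. -/
noncomputable def pw : B →ₚₗ[A] Tp A B d where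
  toFun' S _ _ := fun x => ∏ k, ιS A B d S k x
  isCompat' {S} _ _ {S'} _ _ φ := by
    funext x
    simp only [Function.comp_apply]
    rw [rTensor_eq_map, map_prod]
    refine Finset.prod_congr rfl fun k _ => ?_
    rw [rTensor_eq_map]
    have h : (Algebra.TensorProduct.map φ (AlgHom.id A (Tp A B d))).comp (ιS A B d S k) =
        (ιS A B d S' k).comp (Algebra.TensorProduct.map φ (AlgHom.id A B)) := by
      apply Algebra.TensorProduct.ext'
      intro s b
      simp [ιS]
    exact DFunLike.congr_fun h x

lemma pw_toFun' (S : Type u) [CommSemiring S] [Algebra A S] (x : S ⊗[A] B) :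
    (pw A B d).toFun' S x = ∏ k, ιS A B d S k x := rfl

lemma ιS_smul (S : Type u) [CommSemiring S] [Algebra A S] (k : Fin d) (s : S) (x : S ⊗[A] B) :
    ιS A B d S k (s • x) = s • ιS A B d S k x := by
  induction x using TensorProduct.induction_on with
  | zero => simp
  | tmul a b => rw [TensorProduct.smul_tmul', ιS_tmul, ιS_tmul, TensorProduct.smul_tmul']
  | add a b ha hb => rw [smul_add, map_add, ha, hb, map_add, smul_add]

lemma pw_isMult : PolLaw.IsMult (pw A B d) := by
  intro S _ _
  refine ⟨?_, fun x y => ?_⟩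
  · rw [pw_toFun']
    simp
  · rw [pw_toFun', pw_toFun', pw_toFun', ← Finset.prod_mul_distrib]
    refine Finset.prod_congr rfl fun k _ => ?_
    rw [map_mul]

lemma pw_isHomog : PolLaw.IsHomog (pw A B d) d := by
  intro S _ _ s x
  rw [pw_toFun', pw_toFun']
  simp only [ιS_smul]
  rw [Finset.prod_smul, Finset.prod_const, Finset.card_univ, Fintype.card_fin]

end Pw

section Free

variable {A : Type u} [CommRing A] {B : Type u} [CommRing B] [Algebra A B] (d : ℕ)
variable {I : Type u} [DecidableEq I] (e : Module.Basis I A B)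

/-- The basis of `T^d(B)` induced by a basis of `B`. -/
noncomputable def Eb : Module.Basis (Fin d → I) A (Tp A B d) :=
  Basis.piTensorProduct (fun _ : Fin d => e)

lemma Eb_apply (c : Fin d → I) : Eb d e c = PiTensorProduct.tprod A (fun k => e (c k)) :=
  Basis.piTensorProduct_apply _ _

/-- Expansion of the tensor power law on a linear combination of basis vectors. -/
theorem pw_sum_tmul {S : Type u} [CommSemiring S] [Algebra A S] (s : I → S) (J : Finset I) :
    (pw A B d).toFun' S (∑ j ∈ J, s j ⊗ₜ[A] e j) =
      ∑ c ∈ Fintype.piFinset (fun _ : Fin d => J), (∏ k, s (c k)) ⊗ₜ[A] Eb d e c := by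
  rw [pw_toFun']
  simp only [map_sum, ιS_tmul]
  rw [Finset.prod_univ_sum]
  refine Finset.sum_congr rfl fun c _ => ?_
  rw [Eb_apply, ← prod_ιk]
  have : ∀ (t : Finset (Fin d)), ∏ k ∈ t, (s (c k) ⊗ₜ[A] ιk A B d k (e (c k))) =
      (∏ k ∈ t, s (c k)) ⊗ₜ[A] (∏ k ∈ t, ιk A B d k (e (c k))) := by
    intro t
    induction t using Finset.induction_on with
    | empty => simp [Algebra.TensorProduct.one_def]
    | insert a t ha ih =>
      rw [Finset.prod_insert ha, Finset.prod_insert ha, Finset.prod_insert ha, ih,
        Algebra.TensorProduct.tmul_mul_tmul]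
  exact this Finset.univ

/-- Every element of `S ⊗ B` is a finite combination of the basis vectors. -/
lemma exists_sum_tmul {S : Type u} [CommSemiring S] [Algebra A S] (x : S ⊗[A] B) :
    ∃ (J : Finset I) (s : I → S), x = ∑ j ∈ J, s j ⊗ₜ[A] e j := by
  classical
  induction x using TensorProduct.induction_on with
  | zero => exact ⟨∅, fun _ => 0, by simp⟩
  | tmul r b =>
    refine ⟨(e.repr b).support, fun j => (e.repr b j) • r, ?_⟩
    conv_lhs => rw [← e.linearCombination_repr b, Finsupp.linearCombination_apply, Finsupp.sum,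
      TensorProduct.tmul_sum]
    refine Finset.sum_congr rfl fun j _ => ?_
    rw [TensorProduct.tmul_smul, TensorProduct.smul_tmul']
  | add x y hx hy =>
    obtain ⟨J₁, s₁, rfl⟩ := hx
    obtain ⟨J₂, s₂, rfl⟩ := hy
    refine ⟨J₁ ∪ J₂, fun j => (if j ∈ J₁ then s₁ j else 0) + (if j ∈ J₂ then s₂ j else 0), ?_⟩
    simp only [TensorProduct.add_tmul, Finset.sum_add_distrib]
    congr 1
    · rw [← Finset.sum_subset Finset.subset_union_left]
      · refine Finset.sum_congr rfl fun j hj => ?_
        rw [if_pos hj]
      · intro j _ hj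
        rw [if_neg hj, TensorProduct.zero_tmul]
    · rw [← Finset.sum_subset Finset.subset_union_right]
      · refine Finset.sum_congr rfl fun j hj => ?_
        rw [if_pos hj]
      · intro j _ hj
        rw [if_neg hj, TensorProduct.zero_tmul]

variable {N : Type u} [AddCommGroup N] [Module A N] (F : B →ₚₗ[A] N)

lemma mem_support_of_typ_eq {c : Fin d → I} {ν : I →₀ ℕ} (h : typ c = ν) (k : Fin d) :
    c k ∈ ν.support := by
  rw [Finsupp.mem_support_iff, ← h, typ_apply]
  apply Finset.card_ne_zero_of_mem (a := k)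
  rw [Finset.mem_filter]
  exact ⟨Finset.mem_univ _, rfl⟩

/-- The expansion formula for a law homogeneous of degree `d`. -/
theorem toFun'_sum_tmul_homog (hF : PolLaw.IsHomog F d) {S : Type u} [CommSemiring S] [Algebra A S]
    (s : I → S) (J : Finset I) :
    F.toFun' S (∑ j ∈ J, s j ⊗ₜ[A] e j) =
      ∑ ν ∈ (Fintype.piFinset (fun _ : Fin d => J)).image typ,
        (ν.prod fun i m => s i ^ m) ⊗ₜ[A] coef e F ν := by
  rw [toFun'_sum_tmul]
  have hsub : (cJ e F J).support ⊆ (Fintype.piFinset (fun _ : Fin d => J)).image typ := by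
    intro ν hν
    have hne : cJ e F J ν ≠ 0 := Finsupp.mem_support_iff.mp hν
    have hdeg : ν.degree = d := by
      by_contra h
      exact hne (cJ_eq_zero_of_degree_ne e F hF J ν h)
    have hsupp : ν.support ⊆ J := by
      by_contra h
      exact hne (cJ_eq_zero_of_not_subset e F J ν h)
    obtain ⟨c, hc⟩ := exists_typ_eq d ν hdeg
    rw [Finset.mem_image]
    refine ⟨c, ?_, hc⟩
    rw [Fintype.mem_piFinset]
    intro k
    exact hsupp (mem_support_of_typ_eq d hc k)
  rw [Finset.sum_subset hsub]
  · refine Finset.sum_congr rfl fun ν hν => ?_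
    obtain ⟨c, hc, rfl⟩ := Finset.mem_image.mp hν
    rw [cJ_eq_coef]
    intro i hi
    rw [Finsupp.mem_support_iff, typ_apply] at hi
    obtain ⟨k, hk⟩ := Finset.card_pos.mp (Nat.pos_of_ne_zero hi)
    rw [Finset.mem_filter] at hk
    rw [← hk.2]
    exact Fintype.mem_piFinset.mp hc k
  · intro ν _ hν
    rw [Finsupp.notMem_support_iff.mp hν, TensorProduct.tmul_zero]

/-- The linear form on `T^d(B)` attached to a law homogeneous of degree `d`. -/
noncomputable def ftil : Tp A B d →ₗ[A] N := by
  classical
  exact (Eb d e).constr A (fun c => if IsRep c then coef e F (typ c) else 0)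

lemma ftil_Eb [DecidablePred (IsRep (κ := I) (d := d))] (c : Fin d → I) :
    ftil d e F (Eb d e c) = if IsRep c then coef e F (typ c) else 0 := by
  rw [ftil, Module.Basis.constr_basis]
  congr

/-- A polynomial law homogeneous of degree `d` on a free algebra factors through the tensor power
law. -/
theorem toFun'_eq_ftil_pw (hF : PolLaw.IsHomog F d) (S : Type u) [CommSemiring S] [Algebra A S]
    (x : S ⊗[A] B) :
    F.toFun' S x = (ftil d e F).lTensor S ((pw A B d).toFun' S x) := by
  classical
  obtain ⟨J, s, rfl⟩ := exists_sum_tmul e x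
  rw [toFun'_sum_tmul_homog d e F hF, pw_sum_tmul, map_sum]
  simp only [LinearMap.lTensor_tmul, ftil_Eb]
  rw [← sum_piFinset_isRep J (fun ν => (ν.prod fun i m => s i ^ m) ⊗ₜ[A] coef e F ν)]
  refine Finset.sum_congr rfl fun c _ => ?_
  split_ifs
  · rw [prod_eq_prod_typ]
  · rw [TensorProduct.tmul_zero]

end Free

end Groth.Agent.Lib.Helper6.ZC
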