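import Mathlib
import Groth.Prelude.Def_PolLaw
import Groth.Agent.Lib.Helper6.PolyLawFam
import Groth.Agent.Lib.Helper6.ZC.FreeT

/-!
# A subalgebra criterion for the divided power algebra (helper6)

If `(C, γ)` is the degree `d` divided power algebra of `B` and `C₀ ⊆ C` is a subalgebra through
which `γ` factors over all polynomial rings, then `C₀ = C`.
-/

set_option autoImplicit false
set_option linter.unusedSectionVars false
set_option linter.unusedVariables false
set_option linter.unusedSimpArgs false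
set_option linter.style.haveILetI false
set_option maxHeartbeats 400000
universe u
open scoped TensorProduct

namespace Groth.Agent.Lib.Helper6.ZC

open Groth.Agent.Lib.Helper6

section Lift

variable {R : Type u} [CommSemiring R] {M : Type*} [AddCommMonoid M] [Module R M]
  {S : Type*} [CommSemiring S] [Algebra R S]

/-- Two elements of a tensor product can be lifted simultaneously to a polynomial ring. -/
theorem exists_lift_pair (x y : S ⊗[R] M) :
    ∃ (n : ℕ) (ψ : MvPolynomial (Fin n) R →ₐ[R] S) (p q : MvPolynomial (Fin n) R ⊗[R] M),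
      ψ.toLinearMap.rTensor M p = x ∧ ψ.toLinearMap.rTensor M q = y := by
  obtain ⟨A₁, hA₁, hx⟩ := TensorProduct.Algebra.exists_of_fg x
  obtain ⟨A₂, hA₂, hy⟩ := TensorProduct.Algebra.exists_of_fg y
  have hB : (A₁ ⊔ A₂).FG := hA₁.sup hA₂
  obtain ⟨gen, hgen⟩ := PolynomialLaw.exists_range_φ_eq_of_fg hB
  have h1 : A₁ ≤ (PolynomialLaw.φ R gen).range := by rw [hgen]; exact le_sup_left
  have h2 : A₂ ≤ (PolynomialLaw.φ R gen).range := by rw [hgen]; exact le_sup_right
  obtain ⟨p, hp⟩ := PolynomialLaw.exists_lift_of_mem_range_rTensor _ h1 hx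
  obtain ⟨q, hq⟩ := PolynomialLaw.exists_lift_of_mem_range_rTensor _ h2 hy
  exact ⟨gen.card, PolynomialLaw.φ R gen, p, q, hp, hq⟩

end Lift

section Criterion

variable {A : Type u} [CommRing A] {B C : Type u} [CommRing B] [Algebra A B] [CommRing C]
  [Algebra A C] {d : ℕ}
variable (γ : PolLaw.MulLaw A B C d) (C₀ : Subalgebra A C)

/-- The hypothesis: over polynomial rings, `γ` takes values in `C₀`. -/
def FactorsOnPoly : Prop :=
  ∀ (n : ℕ) (p : MvPolynomial (Fin n) A ⊗[A] B),
    γ.law.toFun' (MvPolynomial (Fin n) A) p ∈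
      LinearMap.range (C₀.val.toLinearMap.lTensor (MvPolynomial (Fin n) A))

variable {γ C₀}

lemma jn_injective (n : ℕ) :
    Function.Injective (C₀.val.toLinearMap.lTensor (MvPolynomial (Fin n) A)) :=
  Module.Flat.lTensor_preserves_injective_linearMap _ Subtype.val_injective

lemma jn_eq_map (S : Type u) [CommSemiring S] [Algebra A S] (z : S ⊗[A] C₀) :
    C₀.val.toLinearMap.lTensor S z = Algebra.TensorProduct.map (AlgHom.id A S) C₀.val z := by
  induction z using TensorProduct.induction_on with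
  | zero => simp
  | tmul a b => rfl
  | add a b ha hb => simp [ha, hb]

variable (h : FactorsOnPoly γ C₀)

/-- The family of restricted maps on polynomial rings. -/
noncomputable def Tfam (n : ℕ) (p : MvPolynomial (Fin n) A ⊗[A] B) :
    MvPolynomial (Fin n) A ⊗[A] C₀ := Classical.choose (h n p)

lemma jn_Tfam (n : ℕ) (p : MvPolynomial (Fin n) A ⊗[A] B) :
    C₀.val.toLinearMap.lTensor (MvPolynomial (Fin n) A) (Tfam h n p) =
      γ.law.toFun' (MvPolynomial (Fin n) A) p := Classical.choose_spec (h n p)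

lemma Tfam_compat (n m : ℕ) (φ : MvPolynomial (Fin n) A →ₐ[A] MvPolynomial (Fin m) A) :
    φ.toLinearMap.rTensor C₀ ∘ Tfam h n = Tfam h m ∘ φ.toLinearMap.rTensor B := by
  funext p
  simp only [Function.comp_apply]
  apply jn_injective (C₀ := C₀) m
  rw [jn_Tfam, ← LinearMap.comp_apply, LinearMap.lTensor_comp_rTensor,
    ← LinearMap.rTensor_comp_lTensor, LinearMap.comp_apply, jn_Tfam]
  exact γ.law.isCompat_apply' φ p

/-- The law with values in `C₀`. -/
noncomputable def law₀ : B →ₚₗ[A] C₀ := PolyLawFam.law (Tfam h) (Tfam_compat h)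

lemma law₀_poly (n : ℕ) : (law₀ h).toFun' (MvPolynomial (Fin n) A) = Tfam h n :=
  PolyLawFam.law_toFun' (Tfam h) (Tfam_compat h) n

lemma postcomp_law₀ : PolLaw.postcomp C₀.val.toLinearMap (law₀ h) = γ.law := by
  apply PolyLawFam.law_ext
  intro n
  funext p
  show C₀.val.toLinearMap.lTensor _ ((law₀ h).toFun' _ p) = _
  rw [law₀_poly, jn_Tfam]

lemma smul_eq_tmul_one_mul {S : Type u} [CommSemiring S] [Algebra A S] {X : Type u} [CommRing X]
    [Algebra A X] (s : S) (z : S ⊗[A] X) : s • z = (s ⊗ₜ[A] (1 : X)) * z := by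
  rw [Algebra.smul_def, Algebra.TensorProduct.algebraMap_apply]
  rfl

lemma jn_smul (S : Type u) [CommSemiring S] [Algebra A S] (s : S) (z : S ⊗[A] C₀) :
    C₀.val.toLinearMap.lTensor S (s • z) = s • C₀.val.toLinearMap.lTensor S z := by
  rw [jn_eq_map, jn_eq_map, smul_eq_tmul_one_mul, smul_eq_tmul_one_mul, map_mul,
    Algebra.TensorProduct.map_tmul, map_one, AlgHom.id_apply]

lemma Tfam_one (n : ℕ) : Tfam h n 1 = 1 := by
  apply jn_injective (C₀ := C₀) n
  rw [jn_Tfam, (γ.mult _).1, jn_eq_map, map_one]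

lemma Tfam_mul (n : ℕ) (p q : MvPolynomial (Fin n) A ⊗[A] B) :
    Tfam h n (p * q) = Tfam h n p * Tfam h n q := by
  apply jn_injective (C₀ := C₀) n
  rw [jn_Tfam, (γ.mult _).2, jn_eq_map, map_mul, ← jn_eq_map, ← jn_eq_map, jn_Tfam, jn_Tfam]

lemma Tfam_smul (n : ℕ) (s : MvPolynomial (Fin n) A) (p : MvPolynomial (Fin n) A ⊗[A] B) :
    Tfam h n (s • p) = s ^ d • Tfam h n p := by
  apply jn_injective (C₀ := C₀) n
  rw [jn_Tfam, γ.homog, jn_smul, jn_Tfam]

/-- The value of `law₀` on a lifted element. -/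
lemma law₀_lift (S : Type u) [CommSemiring S] [Algebra A S] {n : ℕ}
    (ψ : MvPolynomial (Fin n) A →ₐ[A] S) (p : MvPolynomial (Fin n) A ⊗[A] B) :
    (law₀ h).toFun' S (ψ.toLinearMap.rTensor B p) = ψ.toLinearMap.rTensor C₀ (Tfam h n p) := by
  rw [← (law₀ h).isCompat_apply' ψ p, law₀_poly]

lemma rTensor_smul' {S S' : Type u} [CommSemiring S] [Algebra A S] [CommSemiring S'] [Algebra A S']
    (φ : S →ₐ[A] S') (X : Type u) [CommRing X] [Algebra A X] (s : S) (z : S ⊗[A] X) :
    φ.toLinearMap.rTensor X (s • z) = φ s • φ.toLinearMap.rTensor X z := by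
  rw [rTensor_eq_map, rTensor_eq_map, smul_eq_tmul_one_mul, smul_eq_tmul_one_mul, map_mul,
    Algebra.TensorProduct.map_tmul, map_one]

lemma law₀_isMult : PolLaw.IsMult (law₀ h) := by
  intro S _ _
  refine ⟨?_, fun x y => ?_⟩
  · let ψ₀ : MvPolynomial (Fin 0) A →ₐ[A] S := MvPolynomial.aeval Fin.elim0
    have h1 : (1 : S ⊗[A] B) = ψ₀.toLinearMap.rTensor B 1 := by
      rw [rTensor_eq_map, map_one]
    rw [h1, law₀_lift, Tfam_one, rTensor_eq_map, map_one]
  · obtain ⟨n, ψ, p, q, rfl, rfl⟩ := exists_lift_pair (R := A) x y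
    have h1 : ψ.toLinearMap.rTensor B p * ψ.toLinearMap.rTensor B q =
        ψ.toLinearMap.rTensor B (p * q) := by
      rw [rTensor_eq_map, rTensor_eq_map, rTensor_eq_map, map_mul]
    rw [h1, law₀_lift, law₀_lift, law₀_lift, Tfam_mul, rTensor_eq_map, rTensor_eq_map,
      rTensor_eq_map, map_mul]

lemma law₀_isHomog : PolLaw.IsHomog (law₀ h) d := by
  intro S _ _ s x
  obtain ⟨n, ψ, p, q, rfl, rfl⟩ := PolynomialLaw.exists_lift' (R := A) x s
  rw [← rTensor_smul', law₀_lift, law₀_lift, Tfam_smul, rTensor_smul', map_pow]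

/-- The law with values in `C₀`, as a multiplicative law. -/
noncomputable def mulLaw₀ : PolLaw.MulLaw A B C₀ d where
  law := law₀ h
  homog := law₀_isHomog h
  mult := law₀_isMult h

lemma postcomp_comp {C₁ C₂ C₃ : Type u} [CommRing C₁] [Algebra A C₁] [CommRing C₂] [Algebra A C₂]
    [CommRing C₃] [Algebra A C₃] (f : C₁ →ₐ[A] C₂) (g : C₂ →ₐ[A] C₃) (G : B →ₚₗ[A] C₁) :
    PolLaw.postcomp (g.comp f).toLinearMap G =
      PolLaw.postcomp g.toLinearMap (PolLaw.postcomp f.toLinearMap G) := by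
  ext S _ _ x
  show (g.comp f).toLinearMap.lTensor S (G.toFun' S x) =
    g.toLinearMap.lTensor S (f.toLinearMap.lTensor S (G.toFun' S x))
  rw [AlgHom.comp_toLinearMap, LinearMap.lTensor_comp, LinearMap.comp_apply]

lemma postcomp_id (G : B →ₚₗ[A] C) : PolLaw.postcomp (AlgHom.id A C).toLinearMap G = G := by
  ext S _ _ x
  show (AlgHom.id A C).toLinearMap.lTensor S (G.toFun' S x) = _
  rw [AlgHom.toLinearMap_id, LinearMap.lTensor_id, LinearMap.id_apply]

include h in
/-- The subalgebra criterion. -/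
theorem eq_top_of_factorsOnPoly (hγ : PolLaw.IsGammaD γ) : C₀ = ⊤ := by
  obtain ⟨f, hf, _⟩ := hγ C₀ (mulLaw₀ h)
  obtain ⟨g, _, hguniq⟩ := hγ C γ
  have h1 : C₀.val.comp f = g := by
    apply hguniq
    show PolLaw.postcomp (C₀.val.comp f).toLinearMap γ.law = γ.law
    rw [postcomp_comp]
    have : PolLaw.postcomp f.toLinearMap γ.law = law₀ h := hf
    rw [this, postcomp_law₀]
  have h2 : AlgHom.id A C = g := by
    apply hguniq
    exact postcomp_id γ.law
  rw [eq_top_iff]
  intro c _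
  have h3 : c = C₀.val (f c) := by
    have := DFunLike.congr_fun (h1.trans h2.symm) c
    exact this.symm
  rw [h3]
  exact (f c).2

end Criterion

end Groth.Agent.Lib.Helper6.ZC
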