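import Mathlib
import Groth.Prelude.Def_PolLaw
import Groth.Agent.Lib.Helper6.ZC.GenG

/-!
# Surjectivity of `Γ^d(B) → Γ^d(B')` for a surjection `B → B'` (helper6)
-/

set_option autoImplicit false
set_option linter.unusedSectionVars false
set_option linter.unusedVariables false
set_option linter.unusedSimpArgs false
set_option linter.style.haveILetI false
set_option maxHeartbeats 400000
universe u
open scoped TensorProduct

namespace Groth.Agent.Lib.Helper6.ZC

section Surj

variable {A : Type u} [CommRing A] {B B' C C' : Type u} [CommRing B] [Algebra A B]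
  [CommRing B'] [Algebra A B'] [CommRing C] [Algebra A C] [CommRing C'] [Algebra A C'] {d : ℕ}

/-- If `γ' ∘ π = φ ∘ γ` with `π` surjective and `γ'` universal, then `φ` is surjective
(no universality of `γ` is needed). -/
theorem surjective_of_postcomp_eq_precomp (γ : B →ₚₗ[A] C) (γ' : PolLaw.MulLaw A B' C' d)
    (hγ' : PolLaw.IsGammaD γ') (π : B →ₐ[A] B') (hπ : Function.Surjective π) (φ : C →ₐ[A] C')
    (hφ : PolLaw.postcomp φ.toLinearMap γ = (γ'.precomp π).law) :
    Function.Surjective φ := by
  have hfac : FactorsOnPoly γ' φ.range := by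
    intro n p
    obtain ⟨p', rfl⟩ := LinearMap.lTensor_surjective (MvPolynomial (Fin n) A)
      (g := π.toLinearMap) hπ p
    have h1 : γ'.law.toFun' (MvPolynomial (Fin n) A)
        (π.toLinearMap.lTensor (MvPolynomial (Fin n) A) p') =
        φ.toLinearMap.lTensor (MvPolynomial (Fin n) A)
          (γ.toFun' (MvPolynomial (Fin n) A) p') := by
      have h2 := congrArg (fun G : B →ₚₗ[A] C' => G.toFun' (MvPolynomial (Fin n) A) p') hφ
      exact h2.symm
    rw [h1]
    have h3 : φ.toLinearMap = φ.range.val.toLinearMap ∘ₗ φ.rangeRestrict.toLinearMap := by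
      ext c
      rfl
    rw [h3, LinearMap.lTensor_comp, LinearMap.comp_apply]
    exact LinearMap.mem_range_self _ _
  have htop := eq_top_of_factorsOnPoly hfac hγ'
  exact (AlgHom.range_eq_top φ).mp htop

end Surj

end Groth.Agent.Lib.Helper6.ZC
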