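import Mathlib
import Groth.Prelude.Def_PolLaw
import Groth.Prelude.Def_SymTen
import Groth.Agent.Lib.Helper6.ZC.FreeT

/-!
# Symmetric tensors of a free algebra: orbit sums, retraction, the universal law (helper6)
-/

set_option autoImplicit false
set_option linter.unusedSectionVars false
set_option linter.unusedVariables false
set_option linter.unusedSimpArgs false
set_option linter.style.haveILetI false
set_option maxHeartbeats 400000
universe u
open scoped TensorProduct
open MvPolynomial

namespace Groth.Agent.Lib.Helper6.ZC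

section Orbit

variable {A : Type u} [CommRing A] {B : Type u} [CommRing B] [Algebra A B] (d : ℕ)
variable {I : Type u} [DecidableEq I] (e : Module.Basis I A B)

/-- The orbit of a tuple under permutations. -/
noncomputable def orb (c : Fin d → I) : Finset (Fin d → I) :=
  Finset.univ.image (fun σ : Equiv.Perm (Fin d) => c ∘ σ)

lemma mem_orb {c c' : Fin d → I} : c' ∈ orb d c ↔ typ c' = typ c := by
  rw [orb, Finset.mem_image]
  constructor
  · rintro ⟨σ, _, rfl⟩
    exact typ_comp_perm c σ
  · intro h
    obtain ⟨σ, hσ⟩ := exists_perm_of_typ_eq c c' h.symm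
    exact ⟨σ, Finset.mem_univ _, hσ.symm⟩

lemma orb_eq_of_typ_eq {c c' : Fin d → I} (h : typ c = typ c') : orb d c = orb d c' := by
  ext c''
  rw [mem_orb, mem_orb, h]

lemma self_mem_orb (c : Fin d → I) : c ∈ orb d c := (mem_orb d).mpr rfl

/-- The orbit sum. -/
noncomputable def osum (c : Fin d → I) : Tp A B d := ∑ c' ∈ orb d c, Eb d e c'

lemma osum_eq_of_typ_eq {c c' : Fin d → I} (h : typ c = typ c') : osum d e c = osum d e c' := by
  rw [osum, osum, orb_eq_of_typ_eq d h]

lemma reindex_Eb (σ : Equiv.Perm (Fin d)) (c : Fin d → I) :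
    PiTensorProduct.reindex A (fun _ : Fin d => B) σ (Eb d e c) = Eb d e (c ∘ σ.symm) := by
  rw [Eb_apply, Eb_apply, PiTensorProduct.reindex_tprod]
  rfl

lemma osum_mem_TS (c : Fin d → I) : osum d e c ∈ SymTen.TS A B d := by
  intro σ
  rw [osum, map_sum]
  simp only [reindex_Eb]
  refine Finset.sum_nbij' (fun c' => c' ∘ σ.symm) (fun c' => c' ∘ σ) ?_ ?_ ?_ ?_ ?_
  · intro c' hc'
    rw [mem_orb] at hc' ⊢
    rw [typ_comp_perm, hc']
  · intro c' hc'
    rw [mem_orb] at hc' ⊢
    rw [typ_comp_perm, hc']
  · intro c' _
    funext k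
    simp
  · intro c' _
    funext k
    simp
  · intro c' _
    rfl

theorem repr_reindex (σ : Equiv.Perm (Fin d)) (x : Tp A B d) (c : Fin d → I) :
    (Eb d e).repr (PiTensorProduct.reindex A (fun _ : Fin d => B) σ x) c =
      (Eb d e).repr x (fun l => c (σ l)) := by
  induction x using PiTensorProduct.induction_on with
  | smul_tprod r x =>
    simp only [map_smul, PiTensorProduct.reindex_tprod, Finsupp.smul_apply, Eb,
      Basis.piTensorProduct_repr_tprod_apply]
    congr 1
    exact (Equiv.prod_comp σ (fun l => e.repr (x (σ.symm l)) (c l))).symm.trans (by simp)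
  | add x y hx hy => simp only [map_add, Finsupp.add_apply, hx, hy]

/-- The coefficient function of a symmetric tensor is constant on types. -/
theorem repr_eq_of_typ_eq (x : Tp A B d) (hx : x ∈ SymTen.TS A B d) (c c' : Fin d → I)
    (h : typ c = typ c') : (Eb d e).repr x c = (Eb d e).repr x c' := by
  obtain ⟨σ, rfl⟩ := exists_perm_of_typ_eq c c' h
  have := repr_reindex d e σ x c
  rw [hx σ] at this
  exact this

/-- Symmetric tensors are spanned by the orbit sums. -/
theorem mem_span_osum (x : Tp A B d) (hx : x ∈ SymTen.TS A B d) :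
    x ∈ Submodule.span A (Set.range (osum d e)) := by
  classical
  set a := (Eb d e).repr x with ha
  have hx' : x = ∑ c ∈ a.support, a c • Eb d e c := by
    conv_lhs => rw [← (Eb d e).linearCombination_repr x, Finsupp.linearCombination_apply,
      Finsupp.sum]
  rw [hx', ← Finset.sum_fiberwise_of_maps_to (t := a.support.image typ) (g := typ)
    (fun c hc => Finset.mem_image_of_mem _ hc)]
  refine Submodule.sum_mem _ fun ν hν => ?_
  obtain ⟨c₀, hc₀, rfl⟩ := Finset.mem_image.mp hν
  have hfil : a.support.filter (fun c => typ c = typ c₀) = orb d c₀ := by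
    ext c
    rw [Finset.mem_filter, mem_orb]
    constructor
    · exact fun h => h.2
    · intro h
      refine ⟨?_, h⟩
      rw [Finsupp.mem_support_iff, ha, repr_eq_of_typ_eq d e x hx c c₀ h]
      exact Finsupp.mem_support_iff.mp hc₀
  rw [hfil]
  have : ∑ c ∈ orb d c₀, a c • Eb d e c = a c₀ • osum d e c₀ := by
    rw [osum, Finset.smul_sum]
    refine Finset.sum_congr rfl fun c hc => ?_
    rw [ha, repr_eq_of_typ_eq d e x hx c c₀ ((mem_orb d).mp hc)]
  rw [this]
  exact Submodule.smul_mem _ _ (Submodule.subset_span (Set.mem_range_self c₀))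

/-- The orbit sums as elements of `TS`. -/
noncomputable def osumTS (c : Fin d → I) : SymTen.TS A B d := ⟨osum d e c, osum_mem_TS d e c⟩

lemma span_osumTS : Submodule.span A (Set.range (osumTS d e)) = ⊤ := by
  rw [eq_top_iff]
  rintro ⟨x, hx⟩ _
  have h1 := mem_span_osum d e x hx
  have h2 : Submodule.span A (Set.range (osum d e)) =
      Submodule.map (SymTen.TS A B d).val.toLinearMap
        (Submodule.span A (Set.range (osumTS d e))) := by
    rw [Submodule.map_span, ← Set.range_comp]
    rfl
  rw [h2] at h1
  obtain ⟨y, hy, hyx⟩ := h1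
  have : y = ⟨x, hx⟩ := Subtype.ext hyx
  rw [← this]
  exact hy

/-- The retraction of `T^d(B)` onto `TS^d(B)`. -/
noncomputable def ρ : Tp A B d →ₗ[A] SymTen.TS A B d := by
  classical
  exact (Eb d e).constr A (fun c => if IsRep c then osumTS d e c else 0)

lemma ρ_Eb [DecidablePred (IsRep (κ := I) (d := d))] (c : Fin d → I) :
    ρ d e (Eb d e c) = if IsRep c then osumTS d e c else 0 := by
  rw [ρ, Module.Basis.constr_basis]
  congr

lemma ρ_osum (c : Fin d → I) : ρ d e (osum d e c) = osumTS d e c := by
  classical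
  rw [osum, map_sum]
  simp only [ρ_Eb]
  rw [Finset.sum_eq_single (crep c)]
  · rw [if_pos (isRep_crep c)]
    apply Subtype.ext
    exact osum_eq_of_typ_eq d e (typ_crep c)
  · intro c' hc' hne
    rw [if_neg]
    intro hrep
    apply hne
    rw [← hrep]
    exact crep_eq_of_typ_eq ((mem_orb d).mp hc')
  · intro h
    exfalso
    apply h
    rw [mem_orb]
    exact typ_crep c

lemma ρ_val (t : SymTen.TS A B d) : ρ d e (t : Tp A B d) = t := by
  have h : ∀ t ∈ Submodule.span A (Set.range (osumTS d e)),
      ρ d e ((t : SymTen.TS A B d) : Tp A B d) = t := by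
    intro t ht
    refine Submodule.span_induction ?_ ?_ ?_ ?_ ht
    · rintro _ ⟨c, rfl⟩
      exact ρ_osum d e c
    · simp
    · intro x y _ _ hx hy
      rw [Subalgebra.coe_add, map_add, hx, hy]
    · intro a x _ hx
      rw [Subalgebra.coe_smul, map_smul, hx]
  exact h t (by rw [span_osumTS]; exact Submodule.mem_top)

include e in
lemma lTensor_val_injective (S : Type u) [CommSemiring S] [Algebra A S] :
    Function.Injective ((SymTen.TS A B d).val.toLinearMap.lTensor S) := by
  have h : (ρ d e).lTensor S ∘ₗ (SymTen.TS A B d).val.toLinearMap.lTensor S = LinearMap.id := by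
    rw [← LinearMap.lTensor_comp]
    have : ρ d e ∘ₗ (SymTen.TS A B d).val.toLinearMap = LinearMap.id := by
      ext t
      exact congrArg Subtype.val (ρ_val d e t)
    rw [this, LinearMap.lTensor_id]
  intro x y hxy
  have := congrArg ((ρ d e).lTensor S) hxy
  rw [← LinearMap.comp_apply, ← LinearMap.comp_apply, h] at this
  exact this

end Orbit

end Groth.Agent.Lib.Helper6.ZC
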