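import Mathlib
import Groth.Prelude.Def_PolLaw
import Groth.Prelude.Def_SymTen
import Groth.Agent.Lib.Helper6.ZC.TS

/-!
# The universal multiplicative law of degree `d` on a free algebra (helper6)

For an `A`-algebra `B` which is free as a module, `TS^d_A(B)` with the law `x ↦ x ⊗ ⋯ ⊗ x` is the
degree-`d` divided power algebra of `B`.
-/

set_option autoImplicit false
set_option linter.unusedSectionVars false
set_option linter.unusedVariables false
set_option linter.unusedSimpArgs false
set_option linter.style.haveILetI false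
set_option maxHeartbeats 400000
universe u
open scoped TensorProduct
open MvPolynomial

namespace Groth.Agent.Lib.Helper6.ZC

section Tau

variable {A : Type u} [CommRing A] {B : Type u} [CommRing B] [Algebra A B] (d : ℕ)
variable {I : Type u} [DecidableEq I] (e : Module.Basis I A B)

/-- The universal law `B → TS^d(B)`. -/
noncomputable def τlaw : B →ₚₗ[A] SymTen.TS A B d := PolLaw.postcomp (ρ d e) (pw A B d)

lemma τlaw_toFun' (S : Type u) [CommSemiring S] [Algebra A S] (x : S ⊗[A] B) :
    (τlaw d e).toFun' S x = (ρ d e).lTensor S ((pw A B d).toFun' S x) := rfl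

/-- The orbit sum of a type. -/
noncomputable def O (ν : I →₀ ℕ) : SymTen.TS A B d :=
  if h : ν.degree = d then osumTS d e (rep ν h) else 0

lemma O_typ (c : Fin d → I) : O d e (typ c) = osumTS d e c := by
  rw [O, dif_pos (degree_typ c)]
  apply Subtype.ext
  exact osum_eq_of_typ_eq d e (typ_rep _ _)

/-- The value of the universal law on a combination of basis vectors. -/
theorem τlaw_sum_tmul {S : Type u} [CommSemiring S] [Algebra A S] (s : I → S) (J : Finset I) :
    (τlaw d e).toFun' S (∑ j ∈ J, s j ⊗ₜ[A] e j) =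
      ∑ ν ∈ (Fintype.piFinset (fun _ : Fin d => J)).image typ,
        (ν.prod fun i m => s i ^ m) ⊗ₜ[A] O d e ν := by
  classical
  rw [τlaw_toFun', pw_sum_tmul, map_sum]
  simp only [LinearMap.lTensor_tmul, ρ_Eb]
  rw [← sum_piFinset_isRep J (fun ν => (ν.prod fun i m => s i ^ m) ⊗ₜ[A] O d e ν)]
  refine Finset.sum_congr rfl fun c _ => ?_
  split_ifs
  · rw [prod_eq_prod_typ, O_typ]
  · rw [TensorProduct.tmul_zero]

lemma filter_typ_eq_orb {J : Finset I} {c₀ : Fin d → I}
    (hc₀ : c₀ ∈ Fintype.piFinset (fun _ : Fin d => J)) :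
    (Fintype.piFinset (fun _ : Fin d => J)).filter (fun c => typ c = typ c₀) = orb d c₀ := by
  ext c
  rw [Finset.mem_filter, mem_orb]
  constructor
  · exact fun h => h.2
  · intro h
    refine ⟨?_, h⟩
    obtain ⟨σ, rfl⟩ := exists_perm_of_typ_eq c₀ c h.symm
    rw [Fintype.mem_piFinset] at hc₀ ⊢
    intro k
    exact hc₀ (σ k)

/-- The universal law lifts the tensor power law. -/
theorem val_τlaw (S : Type u) [CommSemiring S] [Algebra A S] (x : S ⊗[A] B) :
    (SymTen.TS A B d).val.toLinearMap.lTensor S ((τlaw d e).toFun' S x) =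
      (pw A B d).toFun' S x := by
  classical
  obtain ⟨J, s, rfl⟩ := exists_sum_tmul e x
  rw [τlaw_sum_tmul, pw_sum_tmul, map_sum,
    ← Finset.sum_fiberwise_of_maps_to (s := Fintype.piFinset (fun _ : Fin d => J))
      (t := (Fintype.piFinset (fun _ : Fin d => J)).image typ)
      (g := typ) (fun c hc => Finset.mem_image_of_mem _ hc)]
  refine Finset.sum_congr rfl fun ν hν => ?_
  obtain ⟨c₀, hc₀, rfl⟩ := Finset.mem_image.mp hν
  rw [filter_typ_eq_orb d hc₀, LinearMap.lTensor_tmul, O_typ]
  show _ ⊗ₜ[A] osum d e c₀ = _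
  rw [osum, TensorProduct.tmul_sum]
  refine Finset.sum_congr rfl fun c hc => ?_
  rw [prod_eq_prod_typ, (mem_orb d).mp hc]

lemma lTensor_smul {M N : Type u} [AddCommGroup M] [Module A M] [AddCommGroup N] [Module A N]
    (g : M →ₗ[A] N) (S : Type u) [CommSemiring S] [Algebra A S] (s : S) (z : S ⊗[A] M) :
    g.lTensor S (s • z) = s • g.lTensor S z := by
  induction z using TensorProduct.induction_on with
  | zero => simp
  | tmul a m => rw [TensorProduct.smul_tmul', LinearMap.lTensor_tmul, LinearMap.lTensor_tmul,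
      TensorProduct.smul_tmul']
  | add a b ha hb => rw [smul_add, map_add, ha, hb, map_add, smul_add]

/-- The universal law as a multiplicative law homogeneous of degree `d`. -/
noncomputable def τ : PolLaw.MulLaw A B (SymTen.TS A B d) d where
  law := τlaw d e
  homog := by
    intro S _ _ s x
    apply lTensor_val_injective d e S
    rw [val_τlaw, lTensor_smul, val_τlaw]
    exact pw_isHomog A B d S s x
  mult := by
    intro S _ _
    refine ⟨?_, fun x y => ?_⟩
    · apply lTensor_val_injective d e S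
      rw [val_τlaw, (pw_isMult A B d S).1, PolLaw.lTensor_algHom_apply, map_one]
    · apply lTensor_val_injective d e S
      rw [val_τlaw, (pw_isMult A B d S).2, PolLaw.lTensor_algHom_apply, map_mul,
        ← PolLaw.lTensor_algHom_apply, ← PolLaw.lTensor_algHom_apply, val_τlaw, val_τlaw]

variable {N : Type u} [AddCommGroup N] [Module A N] (F : B →ₚₗ[A] N)

/-- The linear map on `TS^d(B)` attached to a law homogeneous of degree `d`. -/
noncomputable def fL : SymTen.TS A B d →ₗ[A] N := ftil d e F ∘ₗ (SymTen.TS A B d).val.toLinearMap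

/-- Factorisation of a law homogeneous of degree `d` through the universal law. -/
theorem toFun'_eq_fL_τ (hF : PolLaw.IsHomog F d) (S : Type u) [CommSemiring S] [Algebra A S]
    (x : S ⊗[A] B) : F.toFun' S x = (fL d e F).lTensor S ((τlaw d e).toFun' S x) := by
  rw [toFun'_eq_ftil_pw d e F hF, ← val_τlaw d e, fL, LinearMap.lTensor_comp, LinearMap.comp_apply]

end Tau

section Mult

variable {A : Type u} [CommRing A] {B : Type u} [CommRing B] [Algebra A B] (d : ℕ)
variable {I : Type u} [DecidableEq I] (e : Module.Basis I A B)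
variable {C' : Type u} [CommRing C'] [Algebra A C'] (F : PolLaw.MulLaw A B C' d)

lemma prod_X_inl_pow (ν : I →₀ ℕ) :
    (ν.prod fun i m => (X (Sum.inl i) : MvPolynomial (I ⊕ I) A) ^ m) =
      monomial (ν.mapDomain Sum.inl) 1 := by
  rw [← prod_X_pow_eq_monomial, Finsupp.prod_mapDomain_index_inj Sum.inl_injective]

lemma prod_X_inr_pow (ν : I →₀ ℕ) :
    (ν.prod fun i m => (X (Sum.inr i) : MvPolynomial (I ⊕ I) A) ^ m) =
      monomial (ν.mapDomain Sum.inr) 1 := by
  rw [← prod_X_pow_eq_monomial, Finsupp.prod_mapDomain_index_inj Sum.inr_injective]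

lemma inl_add_inr_inj {ν ν₀ ν' ν₀' : I →₀ ℕ}
    (h : ν.mapDomain Sum.inl + ν'.mapDomain Sum.inr =
      (ν₀.mapDomain Sum.inl + ν₀'.mapDomain Sum.inr : I ⊕ I →₀ ℕ)) : ν = ν₀ ∧ ν' = ν₀' := by
  constructor
  · ext i
    have := DFunLike.congr_fun h (Sum.inl i)
    simp only [Finsupp.add_apply, Finsupp.mapDomain_apply Sum.inl_injective] at this
    rw [Finsupp.mapDomain_of_notMem_range, Finsupp.mapDomain_of_notMem_range] at this
    · simpa using this
    · simp
    · simp
  · ext i
    have := DFunLike.congr_fun h (Sum.inr i)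
    simp only [Finsupp.add_apply, Finsupp.mapDomain_apply Sum.inr_injective] at this
    rw [Finsupp.mapDomain_of_notMem_range, Finsupp.mapDomain_of_notMem_range] at this
    · simpa using this
    · simp
    · simp

lemma coeffN_double_sum {N : Type u} [AddCommGroup N] [Module A N] (P P' : Finset (I →₀ ℕ))
    (g : (I →₀ ℕ) → (I →₀ ℕ) → N) {ν₀ ν₀' : I →₀ ℕ} (h₀ : ν₀ ∈ P) (h₀' : ν₀' ∈ P') :
    coeffN (ν₀.mapDomain Sum.inl + ν₀'.mapDomain Sum.inr : I ⊕ I →₀ ℕ)
      (∑ ν ∈ P, ∑ ν' ∈ P', (monomial (ν.mapDomain Sum.inl + ν'.mapDomain Sum.inr) (1 : A)) ⊗ₜ[A]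
        g ν ν') = g ν₀ ν₀' := by
  classical
  rw [map_sum, Finset.sum_eq_single ν₀]
  · rw [map_sum, Finset.sum_eq_single ν₀']
    · rw [coeffN_monomial_tmul, if_pos rfl, one_smul]
    · intro ν' _ hne
      rw [coeffN_monomial_tmul, if_neg]
      intro h
      exact hne (inl_add_inr_inj h).2
    · intro h; exact absurd h₀' h
  · intro ν _ hne
    rw [map_sum]
    refine Finset.sum_eq_zero fun ν' _ => ?_
    rw [coeffN_monomial_tmul, if_neg]
    intro h
    exact hne (inl_add_inr_inj h).1
  · intro h; exact absurd h₀ h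

lemma typ_mem_image (c : Fin d → I) :
    typ c ∈ (Fintype.piFinset (fun _ : Fin d => Finset.univ.image c)).image typ := by
  refine Finset.mem_image_of_mem _ ?_
  rw [Fintype.mem_piFinset]
  intro k
  exact Finset.mem_image_of_mem _ (Finset.mem_univ k)

/-- Multiplicativity of `fL` on orbit sums. -/
lemma fL_osumTS_mul (c c' : Fin d → I) :
    fL d e F.law (osumTS d e c * osumTS d e c') =
      fL d e F.law (osumTS d e c) * fL d e F.law (osumTS d e c') := by
  classical
  set S := MvPolynomial (I ⊕ I) A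
  set J := Finset.univ.image c
  set J' := Finset.univ.image c'
  set x : S ⊗[A] B := ∑ j ∈ J, (X (Sum.inl j) : S) ⊗ₜ[A] e j with hx
  set x' : S ⊗[A] B := ∑ j ∈ J', (X (Sum.inr j) : S) ⊗ₜ[A] e j with hx'
  have h1 := (F.mult S).2 x x'
  have hm : (τlaw d e).toFun' S (x * x') = (τlaw d e).toFun' S x * (τlaw d e).toFun' S x' :=
    ((τ d e).mult S).2 x x'
  rw [toFun'_eq_fL_τ d e F.law F.homog, toFun'_eq_fL_τ d e F.law F.homog S x,
    toFun'_eq_fL_τ d e F.law F.homog S x', hm] at h1
  have e1 : (τlaw d e).toFun' S x = ∑ ν ∈ (Fintype.piFinset (fun _ : Fin d => J)).image typ,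
      (monomial (ν.mapDomain Sum.inl) (1 : A)) ⊗ₜ[A] O d e ν := by
    rw [hx, τlaw_sum_tmul]
    refine Finset.sum_congr rfl fun ν _ => ?_
    rw [← prod_X_inl_pow]
  have e2 : (τlaw d e).toFun' S x' = ∑ ν ∈ (Fintype.piFinset (fun _ : Fin d => J')).image typ,
      (monomial (ν.mapDomain Sum.inr) (1 : A)) ⊗ₜ[A] O d e ν := by
    rw [hx', τlaw_sum_tmul]
    refine Finset.sum_congr rfl fun ν _ => ?_
    rw [← prod_X_inr_pow]
  have hL : (fL d e F.law).lTensor S ((τlaw d e).toFun' S x * (τlaw d e).toFun' S x') =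
      ∑ ν ∈ (Fintype.piFinset (fun _ : Fin d => J)).image typ,
        ∑ ν' ∈ (Fintype.piFinset (fun _ : Fin d => J')).image typ,
          (monomial (ν.mapDomain Sum.inl + ν'.mapDomain Sum.inr : I ⊕ I →₀ ℕ) (1 : A)) ⊗ₜ[A]
            fL d e F.law (O d e ν * O d e ν') := by
    rw [e1, e2, Finset.sum_mul_sum, map_sum]
    refine Finset.sum_congr rfl fun ν _ => ?_
    rw [map_sum]
    refine Finset.sum_congr rfl fun ν' _ => ?_
    rw [Algebra.TensorProduct.tmul_mul_tmul, LinearMap.lTensor_tmul, monomial_mul, one_mul]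
  have hR : (fL d e F.law).lTensor S ((τlaw d e).toFun' S x) *
      (fL d e F.law).lTensor S ((τlaw d e).toFun' S x') =
      ∑ ν ∈ (Fintype.piFinset (fun _ : Fin d => J)).image typ,
        ∑ ν' ∈ (Fintype.piFinset (fun _ : Fin d => J')).image typ,
          (monomial (ν.mapDomain Sum.inl + ν'.mapDomain Sum.inr : I ⊕ I →₀ ℕ) (1 : A)) ⊗ₜ[A]
            (fL d e F.law (O d e ν) * fL d e F.law (O d e ν')) := by
    rw [e1, e2, map_sum, map_sum, Finset.sum_mul_sum]
    refine Finset.sum_congr rfl fun ν _ => ?_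
    refine Finset.sum_congr rfl fun ν' _ => ?_
    rw [LinearMap.lTensor_tmul, LinearMap.lTensor_tmul, Algebra.TensorProduct.tmul_mul_tmul,
      monomial_mul, one_mul]
  rw [hL, hR] at h1
  have h2 := congrArg (coeffN ((typ c).mapDomain Sum.inl + (typ c').mapDomain Sum.inr :
    I ⊕ I →₀ ℕ)) h1
  rw [coeffN_double_sum _ _ (fun ν ν' => fL d e F.law (O d e ν * O d e ν'))
    (typ_mem_image d c) (typ_mem_image d c'),
    coeffN_double_sum _ _ (fun ν ν' => fL d e F.law (O d e ν) * fL d e F.law (O d e ν'))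
    (typ_mem_image d c) (typ_mem_image d c')] at h2
  rw [O_typ, O_typ] at h2
  exact h2

lemma fL_one : fL d e F.law 1 = 1 := by
  have h1 := (F.mult A).1
  rw [toFun'_eq_fL_τ d e F.law F.homog] at h1
  have hm : (τlaw d e).toFun' A 1 = 1 := ((τ d e).mult A).1
  rw [hm, Algebra.TensorProduct.one_def, LinearMap.lTensor_tmul] at h1
  have h2 := congrArg (TensorProduct.lid A C') h1
  rw [TensorProduct.lid_tmul, one_smul, Algebra.TensorProduct.one_def, TensorProduct.lid_tmul,
    one_smul] at h2
  exact h2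

lemma fL_mul (t t' : SymTen.TS A B d) :
    fL d e F.law (t * t') = fL d e F.law t * fL d e F.law t' := by
  have ht : t ∈ Submodule.span A (Set.range (osumTS d e)) := by
    rw [span_osumTS]; exact Submodule.mem_top
  have ht' : t' ∈ Submodule.span A (Set.range (osumTS d e)) := by
    rw [span_osumTS]; exact Submodule.mem_top
  refine Submodule.span_induction (p := fun t _ => fL d e F.law (t * t') =
    fL d e F.law t * fL d e F.law t') ?_ ?_ ?_ ?_ ht
  · rintro _ ⟨c, rfl⟩
    refine Submodule.span_induction (p := fun t' _ => fL d e F.law (osumTS d e c * t') =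
      fL d e F.law (osumTS d e c) * fL d e F.law t') ?_ ?_ ?_ ?_ ht'
    · rintro _ ⟨c', rfl⟩
      exact fL_osumTS_mul d e F c c'
    · simp
    · intro x y _ _ hx hy
      rw [mul_add, map_add, hx, hy, map_add, mul_add]
    · intro a x _ hx
      rw [mul_smul_comm, map_smul, hx, map_smul, mul_smul_comm]
  · simp
  · intro x y _ _ hx hy
    rw [add_mul, map_add, hx, hy, map_add, add_mul]
  · intro a x _ hx
    rw [smul_mul_assoc, map_smul, hx, map_smul, smul_mul_assoc]

/-- The algebra map `TS^d(B) → C'` attached to a multiplicative law of degree `d`. -/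
noncomputable def fA : SymTen.TS A B d →ₐ[A] C' :=
  AlgHom.ofLinearMap (fL d e F.law) (fL_one d e F) (fL_mul d e F)

lemma fA_toLinearMap : (fA d e F).toLinearMap = fL d e F.law := rfl

theorem postcomp_fA : PolLaw.postcomp (fA d e F).toLinearMap (τ d e).law = F.law := by
  ext S _ _ x
  rw [fA_toLinearMap]
  exact (toFun'_eq_fL_τ d e F.law F.homog S x).symm

lemma coeffN_sum_monomial {N : Type u} [AddCommGroup N] [Module A N] (P : Finset (I →₀ ℕ))
    (g : (I →₀ ℕ) → N) {ν₀ : I →₀ ℕ} (h₀ : ν₀ ∈ P) :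
    coeffN ν₀ (∑ ν ∈ P, (monomial ν (1 : A)) ⊗ₜ[A] g ν) = g ν₀ := by
  classical
  rw [map_sum, Finset.sum_eq_single ν₀]
  · rw [coeffN_monomial_tmul, if_pos rfl, one_smul]
  · intro ν _ hne
    rw [coeffN_monomial_tmul, if_neg hne]
  · intro h; exact absurd h₀ h

/-- Two linear maps on `TS^d(B)` inducing the same law agree. -/
theorem linearMap_ext_of_postcomp {N : Type u} [AddCommGroup N] [Module A N]
    (g g' : SymTen.TS A B d →ₗ[A] N)
    (h : PolLaw.postcomp g (τlaw d e) = PolLaw.postcomp g' (τlaw d e)) : g = g' := by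
  have hc : ∀ c : Fin d → I, g (osumTS d e c) = g' (osumTS d e c) := by
    intro c
    set J := Finset.univ.image c
    have h1 : (PolLaw.postcomp g (τlaw d e)).toFun' (MvPolynomial I A) (gen e J) =
        (PolLaw.postcomp g' (τlaw d e)).toFun' (MvPolynomial I A) (gen e J) := by rw [h]
    have e1 : (τlaw d e).toFun' (MvPolynomial I A) (gen e J) =
        ∑ ν ∈ (Fintype.piFinset (fun _ : Fin d => J)).image typ,
          (monomial ν (1 : A)) ⊗ₜ[A] O d e ν := by
      rw [gen, τlaw_sum_tmul]
      refine Finset.sum_congr rfl fun ν _ => ?_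
      rw [← prod_X_pow_eq_monomial]
    have h2 : g.lTensor (MvPolynomial I A) ((τlaw d e).toFun' (MvPolynomial I A) (gen e J)) =
        g'.lTensor (MvPolynomial I A) ((τlaw d e).toFun' (MvPolynomial I A) (gen e J)) := h1
    rw [e1, map_sum, map_sum] at h2
    simp only [LinearMap.lTensor_tmul] at h2
    have h3 := congrArg (coeffN (typ c)) h2
    rw [coeffN_sum_monomial _ (fun ν => g (O d e ν)) (typ_mem_image d c),
      coeffN_sum_monomial _ (fun ν => g' (O d e ν)) (typ_mem_image d c), O_typ] at h3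
    exact h3
  apply LinearMap.ext_on_range (v := osumTS d e) (span_osumTS d e)
  exact hc

/-- For an algebra `B` free as a module, `TS^d(B)` with its universal law is the degree-`d`
divided power algebra of `B`. -/
theorem isGammaD_τ : PolLaw.IsGammaD (τ d e) := by
  intro C' _ _ F
  refine ⟨fA d e F, postcomp_fA d e F, ?_⟩
  intro g hg
  apply AlgHom.toLinearMap_injective
  apply linearMap_ext_of_postcomp d e
  show PolLaw.postcomp g.toLinearMap (τ d e).law = PolLaw.postcomp (fA d e F).toLinearMap (τ d e).law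
  rw [hg, postcomp_fA]

end Mult

end Groth.Agent.Lib.Helper6.ZC
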