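import Mathlib
import Groth.Prelude.Def_PolLaw
import Groth.Prelude.Def_SymTen
import Groth.Agent.Lib.Helper6.ZC.GammaSurj
import Groth.Agent.Lib.Helper6.ZC.Univ

/-!
# Finiteness and integrality of the divided power algebra (helper6)
-/

set_option autoImplicit false
set_option linter.unusedSectionVars false
set_option linter.unusedVariables false
set_option linter.unusedSimpArgs false
set_option linter.style.haveILetI false
set_option maxHeartbeats 400000
universe u
open scoped TensorProduct

namespace Groth.Agent.Lib.Helper6.ZC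

section Aux

variable {A : Type u} [CommRing A] {M N : Type u} [AddCommGroup M] [Module A M]
  [AddCommGroup N] [Module A N]

lemma exists_fin_sum_tmul' (x : M ⊗[A] N) :
    ∃ (n : ℕ) (m : Fin n → M) (b : Fin n → N), x = ∑ i, m i ⊗ₜ[A] b i := by
  obtain ⟨S, h⟩ := TensorProduct.exists_finset x
  refine ⟨S.card, fun i => (S.equivFin.symm i).1.1, fun i => (S.equivFin.symm i).1.2, ?_⟩
  rw [h, ← Finset.sum_coe_sort S]
  exact (Equiv.sum_comp S.equivFin.symm (fun i : S => i.1.1 ⊗ₜ[A] i.1.2)).symm

end Aux

section FF

variable {A : Type u} [CommRing A] {B : Type u} [CommRing B] [Algebra A B]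

/-- Finitely many integral elements lie in the image of a finite free algebra. -/
theorem exists_finite_free_algHom (s : Finset B) (hs : ∀ b ∈ s, IsIntegral A b) :
    ∃ (P : Type u) (_ : CommRing P) (_ : Algebra A P) (_ : Module.Free A P)
      (_ : Module.Finite A P) (π : P →ₐ[A] B), ∀ b ∈ s, b ∈ π.range := by
  classical
  induction s using Finset.induction_on with
  | empty =>
    exact ⟨A, inferInstance, inferInstance, inferInstance, inferInstance, Algebra.ofId A B,
      fun b hb => absurd hb (Finset.notMem_empty b)⟩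
  | insert x s hx ih =>
    obtain ⟨P, _, _, _, _, π, hπ⟩ := ih (fun b hb => hs b (Finset.mem_insert_of_mem hb))
    obtain ⟨f, hf, hfx⟩ := hs x (Finset.mem_insert_self x s)
    have hmonic : (f.map (algebraMap A P)).Monic := hf.map _
    haveI : Module.Free P (AdjoinRoot (f.map (algebraMap A P))) := hmonic.free_adjoinRoot
    haveI : Module.Finite P (AdjoinRoot (f.map (algebraMap A P))) := hmonic.finite_adjoinRoot
    have h0 : (f.map (algebraMap A P)).eval₂ (π : P →+* B) x = 0 := by
      rw [Polynomial.eval₂_map]
      have : (π : P →+* B).comp (algebraMap A P) = algebraMap A B := by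
        ext a
        simp
      rw [this]
      exact hfx
    refine ⟨AdjoinRoot (f.map (algebraMap A P)), inferInstance, inferInstance,
      Module.Free.trans (R := A) (S := P), Module.Finite.trans P _,
      AdjoinRoot.liftAlgHom (f.map (algebraMap A P)) π x h0, ?_⟩
    intro b hb
    rcases Finset.mem_insert.mp hb with rfl | hb
    · exact ⟨AdjoinRoot.root _, AdjoinRoot.liftAlgHom_root _ _ _ _⟩
    · obtain ⟨p, rfl⟩ := hπ b hb
      exact ⟨AdjoinRoot.of _ p, AdjoinRoot.liftAlgHom_of _ _ _ _ _⟩

end FF

section TSFinite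

variable {A : Type u} [CommRing A] {P : Type u} [CommRing P] [Algebra A P]
  [Module.Free A P] [Module.Finite A P] (d : ℕ)

instance finite_TS : Module.Finite A (SymTen.TS A P d) := by
  classical
  let e := Module.Free.chooseBasis A P
  rw [Module.finite_def, ← span_osumTS d e]
  exact Submodule.fg_span (Set.finite_range _)

end TSFinite

section Main

variable {A : Type u} [CommRing A] {B C : Type u} [CommRing B] [Algebra A B] [CommRing C]
  [Algebra A C] {d : ℕ} (γ : PolLaw.MulLaw A B C d)

/-- The map `TS^d(P) → C` induced by a map `P → B` from a finite free algebra. -/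
lemma exists_TS_hom (P : Type u) [CommRing P] [Algebra A P] [Module.Free A P]
    [Module.Finite A P] (π : P →ₐ[A] B) :
    ∃ (τ₀ : PolLaw.MulLaw A P (SymTen.TS A P d) d) (f : SymTen.TS A P d →ₐ[A] C),
      PolLaw.postcomp f.toLinearMap τ₀.law = (γ.precomp π).law := by
  classical
  let e := Module.Free.chooseBasis A P
  obtain ⟨f, hf, _⟩ := isGammaD_τ d e C (γ.precomp π)
  exact ⟨τ d e, f, hf⟩

/-- `S13715`. -/
theorem moduleFinite_of_isGammaD (hγ : PolLaw.IsGammaD γ) [Module.Finite A B] :
    Module.Finite A C := by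
  classical
  obtain ⟨s, hs⟩ := (Module.Finite.fg_top : (⊤ : Submodule A B).FG)
  have hint : ∀ b ∈ s, IsIntegral A b := fun b _ => IsIntegral.of_finite A b
  obtain ⟨P, _, _, _, _, π, hπ⟩ := exists_finite_free_algHom s hint
  have hsurj : Function.Surjective π := by
    have h1 : (⊤ : Submodule A B) ≤ LinearMap.range π.toLinearMap := by
      rw [← hs, Submodule.span_le]
      intro b hb
      exact hπ b hb
    intro b
    exact h1 Submodule.mem_top
  obtain ⟨τ₀, f, hf⟩ := exists_TS_hom γ P π
  have hfs := surjective_of_postcomp_eq_precomp τ₀.law γ hγ π hsurj f hf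
  exact Module.Finite.of_surjective f.toLinearMap hfs

/-- `S13716`. -/
theorem isIntegral_of_isGammaD (hγ : PolLaw.IsGammaD γ) [Algebra.IsIntegral A B] :
    Algebra.IsIntegral A C := by
  classical
  rw [← integralClosure_eq_top_iff]
  refine eq_top_of_factorsOnPoly (γ := γ) ?_ hγ
  intro n p
  -- finitely many elements of `B` occur in `p`
  obtain ⟨m, t, b, rfl⟩ := exists_fin_sum_tmul' p
  obtain ⟨P, _, _, _, _, π, hπ⟩ := exists_finite_free_algHom (Finset.univ.image b)
    (fun x _ => Algebra.IsIntegral.isIntegral (R := A) x)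
  choose b' hb' using fun j : Fin m => hπ (b j) (Finset.mem_image_of_mem b (Finset.mem_univ j))
  obtain ⟨τ₀, f, hf⟩ := exists_TS_hom γ P π
  have h1 : γ.law.toFun' (MvPolynomial (Fin n) A) (∑ j, t j ⊗ₜ[A] b j) =
      f.toLinearMap.lTensor (MvPolynomial (Fin n) A)
        (τ₀.law.toFun' (MvPolynomial (Fin n) A) (∑ j, t j ⊗ₜ[A] b' j)) := by
    have h2 := congrArg (fun G : P →ₚₗ[A] C => G.toFun' (MvPolynomial (Fin n) A)
      (∑ j, t j ⊗ₜ[A] b' j)) hf
    refine Eq.trans ?_ h2.symm
    show _ = γ.law.toFun' _ (π.toLinearMap.lTensor _ (∑ j, t j ⊗ₜ[A] b' j))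
    rw [map_sum]
    congr 1
    refine Finset.sum_congr rfl fun j _ => ?_
    rw [LinearMap.lTensor_tmul]
    exact congrArg _ (hb' j).symm
  rw [h1]
  -- the range of `f` is integral
  have hle : f.range ≤ integralClosure A C := by
    rintro _ ⟨x, rfl⟩
    exact (IsIntegral.of_finite A x).map f
  have h3 : f.toLinearMap = (integralClosure A C).val.toLinearMap ∘ₗ
      ((Subalgebra.inclusion hle).comp f.rangeRestrict).toLinearMap := by
    ext c
    rfl
  rw [h3, LinearMap.lTensor_comp, LinearMap.comp_apply]
  exact LinearMap.mem_range_self _ _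

end Main

end Groth.Agent.Lib.Helper6.ZC
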