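import Mathlib

/-!
# The comparison map `S[X] ⊗ C → (S ⊗ C)[X]` (helper6)
-/

set_option autoImplicit false
set_option linter.unusedSectionVars false
set_option linter.unusedVariables false
set_option linter.unusedSimpArgs false
set_option linter.style.haveILetI false
set_option maxHeartbeats 400000
universe u
open scoped TensorProduct
open Polynomial

namespace Groth.Agent.Lib.Helper6.ZC

section Xi

variable {A : Type u} [CommRing A] (S : Type u) [CommRing S] [Algebra A S]
variable (C : Type u) [CommRing C] [Algebra A C]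

/-- The natural map `S[X] ⊗ C → (S ⊗ C)[X]`. -/
noncomputable def Xi : Polynomial S ⊗[A] C →ₐ[A] Polynomial (S ⊗[A] C) :=
  Algebra.TensorProduct.lift
    (Polynomial.mapAlgHom (Algebra.TensorProduct.includeLeft : S →ₐ[A] S ⊗[A] C))
    ((Polynomial.CAlgHom (R := A) (A := S ⊗[A] C)).comp
      (Algebra.TensorProduct.includeRight : C →ₐ[A] S ⊗[A] C))
    (fun _ _ => Commute.all _ _)

@[simp] lemma Xi_tmul (q : Polynomial S) (c : C) :
    Xi S C (q ⊗ₜ[A] c) = Polynomial.map (algebraMap S (S ⊗[A] C)) q * Polynomial.C (1 ⊗ₜ[A] c) := by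
  simp [Xi]
  rfl

lemma Xi_C_tmul (s : S) (c : C) : Xi S C (Polynomial.C s ⊗ₜ[A] c) = Polynomial.C (s ⊗ₜ[A] c) := by
  rw [Xi_tmul, Polynomial.map_C, ← Polynomial.C_mul, Algebra.TensorProduct.algebraMap_apply,
    Algebra.TensorProduct.tmul_mul_tmul]
  simp

lemma Xi_X_tmul_one : Xi S C ((Polynomial.X : Polynomial S) ⊗ₜ[A] (1 : C)) = Polynomial.X := by
  rw [Xi_tmul, Polynomial.map_X, ← Algebra.TensorProduct.one_def, Polynomial.C_1, mul_one]

variable {C} {C' : Type u} [CommRing C'] [Algebra A C']

/-- Naturality of `Xi` in the algebra. -/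
lemma Xi_natural (h : C →ₐ[A] C') (z : Polynomial S ⊗[A] C) :
    Polynomial.map (Algebra.TensorProduct.map (AlgHom.id A S) h : S ⊗[A] C →+* S ⊗[A] C')
      (Xi S C z) = Xi S C' (Algebra.TensorProduct.map (AlgHom.id A (Polynomial S)) h z) := by
  induction z using TensorProduct.induction_on with
  | zero => simp
  | tmul q c =>
    rw [Algebra.TensorProduct.map_tmul, Xi_tmul, Xi_tmul, Polynomial.map_mul, Polynomial.map_C,
      Polynomial.map_map]
    congr 2
    · ext s
      simp
  | add x y hx hy => rw [map_add, Polynomial.map_add, hx, hy, map_add, map_add]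

/-- For `C = A`, `Xi` is compatible with the right unitors. -/
lemma Xi_rid (z : Polynomial S ⊗[A] A) :
    Polynomial.map (Algebra.TensorProduct.rid A S S : S ⊗[A] A →+* S) (Xi S A z) =
      Algebra.TensorProduct.rid A (Polynomial S) (Polynomial S) z := by
  induction z using TensorProduct.induction_on with
  | zero => simp
  | tmul q a =>
    rw [Xi_tmul, Polynomial.map_mul, Polynomial.map_C, Polynomial.map_map]
    have h1 : ((Algebra.TensorProduct.rid A S S : S ⊗[A] A →+* S).comp
        (algebraMap S (S ⊗[A] A))) = RingHom.id S := by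
      ext s
      simp
    rw [h1, Polynomial.map_id]
    simp [Algebra.smul_def, mul_comm]
  | add x y hx hy => rw [map_add, Polynomial.map_add, hx, hy, map_add]

end Xi

end Groth.Agent.Lib.Helper6.ZC
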