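import Mathlib
import Groth.Prelude.Def_PolLaw
import Groth.Prelude.Def_SymTen
import Groth.Agent.Lib.Helper6.ZC.Univ
import Groth.Agent.Lib.Helper6.ZC.Xi

/-!
# The Cayley–Hamilton theorem for multiplicative laws on a free algebra (helper6)
-/

set_option autoImplicit false
set_option linter.unusedSectionVars false
set_option linter.unusedVariables false
set_option linter.unusedSimpArgs false
set_option linter.style.haveILetI false
set_option maxHeartbeats 400000
universe u
open scoped TensorProduct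
open Polynomial

namespace Groth.Agent.Lib.Helper6.ZC

section General

variable {A : Type u} [CommRing A] {B : Type u} [CommRing B] [Algebra A B]

/-- The value of a law `B → A` on a test algebra, as an element of the test algebra. -/
noncomputable def Fh (F : B →ₚₗ[A] A) (S : Type u) [CommSemiring S] [Algebra A S] (z : S ⊗[A] B) : S :=
  Algebra.TensorProduct.rid A A S (F.toFun' S z)

lemma Fh_eq_iff (F : B →ₚₗ[A] A) (S : Type u) [CommSemiring S] [Algebra A S] (z z' : S ⊗[A] B) :
    Fh F S z = Fh F S z' ↔ F.toFun' S z = F.toFun' S z' :=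
  (Algebra.TensorProduct.rid A A S).injective.eq_iff

lemma Fh_natural (F : B →ₚₗ[A] A) {S S' : Type u} [CommSemiring S] [Algebra A S]
    [CommSemiring S'] [Algebra A S'] (φ : S →ₐ[A] S') (z : S ⊗[A] B) :
    φ (Fh F S z) = Fh F S' (Algebra.TensorProduct.map φ (AlgHom.id A B) z) := by
  have h1 := F.isCompat_apply' φ z
  have h2 : ∀ w : S ⊗[A] A, φ (Algebra.TensorProduct.rid A A S w) =
      Algebra.TensorProduct.rid A A S' (φ.toLinearMap.rTensor A w) := by
    intro w
    induction w using TensorProduct.induction_on with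
    | zero => simp
    | tmul s a => simp
    | add x y hx hy => rw [map_add, map_add, hx, hy, map_add, map_add]
  have h3 : ∀ w : S ⊗[A] B, φ.toLinearMap.rTensor B w =
      Algebra.TensorProduct.map φ (AlgHom.id A B) w := by
    intro w
    induction w using TensorProduct.induction_on with
    | zero => simp
    | tmul s a => rfl
    | add x y hx hy => simp [hx, hy]
  rw [Fh, h2, h1, h3]
  rfl

/-- Compatibility of `aeval` with change of the coefficient ring. -/
lemma map_aeval_tensor {R₁ R₂ : Type u} [CommRing R₁] [Algebra A R₁] [CommRing R₂] [Algebra A R₂]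
    (φ : R₁ →ₐ[A] R₂) (Y : R₁ ⊗[A] B) (Q : Polynomial R₁) :
    Algebra.TensorProduct.map φ (AlgHom.id A B) (Polynomial.aeval Y Q) =
      Polynomial.aeval (Algebra.TensorProduct.map φ (AlgHom.id A B) Y)
        (Polynomial.map (φ : R₁ →+* R₂) Q) := by
  rw [Polynomial.aeval_def, Polynomial.aeval_def, Polynomial.eval₂_map]
  have h := Polynomial.hom_eval₂ Q (algebraMap R₁ (R₁ ⊗[A] B))
    ((Algebra.TensorProduct.map φ (AlgHom.id A B) : R₁ ⊗[A] B →ₐ[A] R₂ ⊗[A] B) :
      R₁ ⊗[A] B →+* R₂ ⊗[A] B) Y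
  refine h.trans ?_
  congr 1

end General

section FreeCase

variable {A : Type u} [CommRing A] {P : Type u} [CommRing P] [Algebra A P] (d : ℕ)
variable {I : Type u} [DecidableEq I] (e : Module.Basis I A P) (F : PolLaw.MulLaw A P A d)

section Maps

variable (S : Type u) [CommRing S] [Algebra A S]

variable (A P) in
/-- `S ⊗ TS → S ⊗ T`. -/
noncomputable def jR : S ⊗[A] SymTen.TS A P d →ₐ[A] S ⊗[A] Tp A P d :=
  Algebra.TensorProduct.map (AlgHom.id A S) (SymTen.TS A P d).val

lemma jR_apply (z : S ⊗[A] SymTen.TS A P d) :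
    jR A P d S z = (SymTen.TS A P d).val.toLinearMap.lTensor S z := by
  induction z using TensorProduct.induction_on with
  | zero => simp
  | tmul a b => rfl
  | add a b ha hb => simp [ha, hb]

include e in
lemma jR_injective : Function.Injective (jR A P d S) := by
  intro x y hxy
  apply lTensor_val_injective d e S
  rw [← jR_apply, ← jR_apply, hxy]

lemma jR_τlaw (z : S ⊗[A] P) : jR A P d S ((τlaw d e).toFun' S z) = (pw A P d).toFun' S z := by
  rw [jR_apply, val_τlaw]

/-- `S ⊗ TS → S`, `s ⊗ t ↦ s f(t)`. -/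
noncomputable def gS : S ⊗[A] SymTen.TS A P d →ₐ[A] S :=
  Algebra.TensorProduct.lift (AlgHom.id A S) ((Algebra.ofId A S).comp (fA d e F))
    (fun _ _ => Commute.all _ _)

@[simp] lemma gS_tmul (s : S) (t : SymTen.TS A P d) :
    gS d e F S (s ⊗ₜ[A] t) = s * algebraMap A S (fA d e F t) := by
  simp [gS, Algebra.ofId_apply]

lemma gS_eq (z : S ⊗[A] SymTen.TS A P d) :
    gS d e F S z = Algebra.TensorProduct.rid A A S ((fL d e F.law).lTensor S z) := by
  induction z using TensorProduct.induction_on with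
  | zero => simp
  | tmul s t =>
    rw [gS_tmul, LinearMap.lTensor_tmul, Algebra.TensorProduct.rid_tmul, Algebra.smul_def,
      mul_comm]
    rfl
  | add x y hx hy => rw [map_add, hx, hy, map_add, map_add]

/-- The value of the law in terms of the universal law. -/
lemma Fh_eq_gS (z : S ⊗[A] P) : Fh F.law S z = gS d e F S ((τlaw d e).toFun' S z) := by
  rw [gS_eq, Fh, toFun'_eq_fL_τ d e F.law F.homog]

end Maps

section Char

variable {B : Type u} [CommRing B] [Algebra A B] (S : Type u) [CommRing S] [Algebra A S]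

/-- The image of `y ∈ S ⊗ B` in `S[X] ⊗ B`. -/
noncomputable def toX (y : S ⊗[A] B) : Polynomial S ⊗[A] B :=
  Algebra.TensorProduct.map (Polynomial.CAlgHom (R := A) (A := S)) (AlgHom.id A B) y

/-- `y - X ∈ S[X] ⊗ B`. -/
noncomputable def yX (y : S ⊗[A] B) : Polynomial S ⊗[A] B :=
  toX S y - (Polynomial.X : Polynomial S) ⊗ₜ[A] (1 : B)

/-- The characteristic polynomial of `y` with respect to a law `B → A`. -/
noncomputable def chi (G : B →ₚₗ[A] A) (y : S ⊗[A] B) : Polynomial S :=
  Fh G (Polynomial S) (yX S y)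

end Char

section Coeffs

variable (S : Type u) [CommRing S] [Algebra A S] (y : S ⊗[A] P)

/-- The universal characteristic polynomial, with coefficients in `S ⊗ TS`. -/
noncomputable def Epol : Polynomial (S ⊗[A] SymTen.TS A P d) :=
  Xi S (SymTen.TS A P d) ((τlaw d e).toFun' (Polynomial S) (yX S y))

lemma gS_eq_comp :
    (gS d e F S : S ⊗[A] SymTen.TS A P d →+* S) =
      ((Algebra.TensorProduct.rid A A S : S ⊗[A] A →ₐ[A] S) : S ⊗[A] A →+* S).comp
        (Algebra.TensorProduct.map (AlgHom.id A S) (fA d e F) :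
          S ⊗[A] SymTen.TS A P d →ₐ[A] S ⊗[A] A) := by
  apply RingHom.ext
  intro z
  induction z using TensorProduct.induction_on with
  | zero => simp
  | tmul s t =>
    simp [Algebra.smul_def, mul_comm]
  | add x y hx hy =>
    simp only [map_add] at hx hy ⊢
    rw [hx, hy]

/-- The universal characteristic polynomial specialises to the characteristic polynomial. -/
lemma map_gS_Epol : Polynomial.map (gS d e F S : S ⊗[A] SymTen.TS A P d →+* S) (Epol d e S y) =
    chi S F.law y := by
  rw [gS_eq_comp, ← Polynomial.map_map, Epol]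
  have h1 := Xi_natural S (fA d e F) ((τlaw d e).toFun' (Polynomial S) (yX S y))
  rw [h1]
  have h2 := Xi_rid S (Algebra.TensorProduct.map (AlgHom.id A (Polynomial S)) (fA d e F)
    ((τlaw d e).toFun' (Polynomial S) (yX S y)))
  have h3 : (Algebra.TensorProduct.rid A S S : S ⊗[A] A →+* S) =
      ((Algebra.TensorProduct.rid A A S : S ⊗[A] A →ₐ[A] S) : S ⊗[A] A →+* S) := by
    apply RingHom.ext
    intro z
    induction z using TensorProduct.induction_on with
    | zero => simp
    | tmul s t => simp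
    | add x y hx hy =>
      simp only [map_add] at hx hy ⊢
      rw [hx, hy]
  rw [← h3, h2, chi, Fh, toFun'_eq_fL_τ d e F.law F.homog]
  have h4 : ∀ z : Polynomial S ⊗[A] SymTen.TS A P d,
      Algebra.TensorProduct.map (AlgHom.id A (Polynomial S)) (fA d e F) z =
        (fL d e F.law).lTensor (Polynomial S) z := by
    intro z
    induction z using TensorProduct.induction_on with
    | zero => simp
    | tmul s t => rfl
    | add x y hx hy => rw [map_add, hx, hy, map_add]
  rw [h4]
  have h5 : ∀ z : Polynomial S ⊗[A] A,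
      Algebra.TensorProduct.rid A (Polynomial S) (Polynomial S) z =
        Algebra.TensorProduct.rid A A (Polynomial S) z := by
    intro z
    induction z using TensorProduct.induction_on with
    | zero => simp
    | tmul s t => simp
    | add x y hx hy => rw [map_add, hx, hy, map_add]
  rw [h5]

lemma Xi_ιS_toX (l : Fin d) :
    Xi S (Tp A P d) (ιS A P d (Polynomial S) l (toX S y)) = Polynomial.C (ιS A P d S l y) := by
  induction y using TensorProduct.induction_on with
  | zero => simp [toX]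
  | tmul s b =>
    rw [toX, Algebra.TensorProduct.map_tmul, ιS_tmul, ιS_tmul, Polynomial.CAlgHom_apply, Xi_C_tmul]
    rfl
  | add x y hx hy =>
    rw [toX] at hx hy ⊢
    rw [map_add, map_add, map_add, hx, hy, map_add, Polynomial.C_add]

lemma Xi_ιS_yX (l : Fin d) :
    Xi S (Tp A P d) (ιS A P d (Polynomial S) l (yX S y)) =
      Polynomial.C (ιS A P d S l y) - Polynomial.X := by
  rw [yX, map_sub, map_sub, Xi_ιS_toX, ιS_tmul, map_one, Xi_X_tmul_one]

/-- Over `S ⊗ T` the universal characteristic polynomial splits. -/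
lemma map_jR_Epol : Polynomial.map (jR A P d S : S ⊗[A] SymTen.TS A P d →+* S ⊗[A] Tp A P d)
    (Epol d e S y) = ∏ l, (Polynomial.C (ιS A P d S l y) - Polynomial.X) := by
  rw [Epol]
  have h1 := Xi_natural S (SymTen.TS A P d).val ((τlaw d e).toFun' (Polynomial S) (yX S y))
  have h2 : Algebra.TensorProduct.map (AlgHom.id A (Polynomial S)) (SymTen.TS A P d).val
      ((τlaw d e).toFun' (Polynomial S) (yX S y)) = (pw A P d).toFun' (Polynomial S) (yX S y) :=
    jR_τlaw d e (Polynomial S) (yX S y)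
  rw [h2, pw_toFun', map_prod] at h1
  simp only [Xi_ιS_yX] at h1
  exact h1

end Coeffs

section Main

variable (S : Type u) [CommRing S] [Algebra A S] (y p w : S ⊗[A] P)

variable (A P) in
/-- The lift of `u ∈ S ⊗ P` to `(S ⊗ TS) ⊗ P`. -/
noncomputable def up (u : S ⊗[A] P) : (S ⊗[A] SymTen.TS A P d) ⊗[A] P :=
  Algebra.TensorProduct.map
    (Algebra.TensorProduct.includeLeft : S →ₐ[A] S ⊗[A] SymTen.TS A P d) (AlgHom.id A P) u

/-- The universal Cayley–Hamilton element. -/
noncomputable def cE : (S ⊗[A] SymTen.TS A P d) ⊗[A] P :=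
  Polynomial.aeval (up A P d S y) (Epol d e S y)

/-- The universal perturbed element. -/
noncomputable def zE : (S ⊗[A] SymTen.TS A P d) ⊗[A] P :=
  up A P d S p + up A P d S w * cE d e S y

lemma gS_comp_includeLeft :
    (gS d e F S).comp (Algebra.TensorProduct.includeLeft : S →ₐ[A] S ⊗[A] SymTen.TS A P d) =
      AlgHom.id A S := by
  apply AlgHom.ext
  intro s
  simp

lemma map_gS_up (u : S ⊗[A] P) :
    Algebra.TensorProduct.map (gS d e F S) (AlgHom.id A P) (up A P d S u) = u := by
  rw [up, ← AlgHom.comp_apply, ← Algebra.TensorProduct.map_comp, gS_comp_includeLeft,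
    AlgHom.comp_id, Algebra.TensorProduct.map_id, AlgHom.id_apply]

lemma map_gS_cE :
    Algebra.TensorProduct.map (gS d e F S) (AlgHom.id A P) (cE d e S y) =
      Polynomial.aeval y (chi S F.law y) := by
  rw [cE, map_aeval_tensor, map_gS_up, map_gS_Epol]

lemma map_gS_zE :
    Algebra.TensorProduct.map (gS d e F S) (AlgHom.id A P) (zE d e S y p w) =
      p + w * Polynomial.aeval y (chi S F.law y) := by
  rw [zE, map_add, map_mul, map_gS_up, map_gS_up, map_gS_cE]

variable (A P) in
/-- `μ' : (S ⊗ TS) ⊗ TS → S ⊗ TS`. -/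
noncomputable def μ₁ :
    (S ⊗[A] SymTen.TS A P d) ⊗[A] SymTen.TS A P d →ₐ[A] S ⊗[A] SymTen.TS A P d :=
  Algebra.TensorProduct.lift (AlgHom.id A _)
    (Algebra.TensorProduct.includeRight : SymTen.TS A P d →ₐ[A] S ⊗[A] SymTen.TS A P d)
    (fun _ _ => Commute.all _ _)

variable (A P) in
/-- `μ'' : (S ⊗ TS) ⊗ T → S ⊗ T`. -/
noncomputable def μ₂ : (S ⊗[A] SymTen.TS A P d) ⊗[A] Tp A P d →ₐ[A] S ⊗[A] Tp A P d :=
  Algebra.TensorProduct.lift (jR A P d S)
    (Algebra.TensorProduct.includeRight : Tp A P d →ₐ[A] S ⊗[A] Tp A P d)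
    (fun _ _ => Commute.all _ _)

variable (A P) in
/-- `λ_i : (S ⊗ TS) ⊗ P → S ⊗ T`. -/
noncomputable def lam (i : Fin d) : (S ⊗[A] SymTen.TS A P d) ⊗[A] P →ₐ[A] S ⊗[A] Tp A P d :=
  Algebra.TensorProduct.lift (jR A P d S)
    ((Algebra.TensorProduct.includeRight : Tp A P d →ₐ[A] S ⊗[A] Tp A P d).comp (ιk A P d i))
    (fun _ _ => Commute.all _ _)

lemma μ₁_tmul (r : S ⊗[A] SymTen.TS A P d) (t : SymTen.TS A P d) :
    μ₁ A P d S (r ⊗ₜ[A] t) = r * (1 : S) ⊗ₜ[A] t := by
  simp [μ₁]

lemma μ₂_tmul (r : S ⊗[A] SymTen.TS A P d) (t : Tp A P d) :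
    μ₂ A P d S (r ⊗ₜ[A] t) = jR A P d S r * (1 : S) ⊗ₜ[A] t := by
  simp [μ₂]

lemma lam_tmul (i : Fin d) (r : S ⊗[A] SymTen.TS A P d) (b : P) :
    lam A P d S i (r ⊗ₜ[A] b) = jR A P d S r * (1 : S) ⊗ₜ[A] ιk A P d i b := by
  simp [lam]

lemma gS_gS (W : (S ⊗[A] SymTen.TS A P d) ⊗[A] SymTen.TS A P d) :
    gS d e F S (gS d e F (S ⊗[A] SymTen.TS A P d) W) = gS d e F S (μ₁ A P d S W) := by
  have h : (gS d e F S).comp (gS d e F (S ⊗[A] SymTen.TS A P d)) =
      (gS d e F S).comp (μ₁ A P d S) := by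
    apply Algebra.TensorProduct.ext'
    intro r t
    rw [AlgHom.comp_apply, AlgHom.comp_apply, gS_tmul, μ₁_tmul, map_mul, map_mul, AlgHom.commutes,
      gS_tmul, one_mul]
  exact DFunLike.congr_fun h W

lemma jR_μ₁ (W : (S ⊗[A] SymTen.TS A P d) ⊗[A] SymTen.TS A P d) :
    jR A P d S (μ₁ A P d S W) = μ₂ A P d S (jR A P d (S ⊗[A] SymTen.TS A P d) W) := by
  have h : (jR A P d S).comp (μ₁ A P d S) =
      (μ₂ A P d S).comp (jR A P d (S ⊗[A] SymTen.TS A P d)) := by
    apply Algebra.TensorProduct.ext'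
    intro r t
    rw [AlgHom.comp_apply, AlgHom.comp_apply, μ₁_tmul, map_mul]
    have h1 : jR A P d (S ⊗[A] SymTen.TS A P d) (r ⊗ₜ[A] t) = r ⊗ₜ[A] (t : Tp A P d) := by
      simp [jR]
    have h2 : jR A P d S ((1 : S) ⊗ₜ[A] t) = (1 : S) ⊗ₜ[A] (t : Tp A P d) := by
      simp [jR]
    rw [h1, μ₂_tmul, h2]
  exact DFunLike.congr_fun h W

lemma μ₂_ιS (i : Fin d) (v : (S ⊗[A] SymTen.TS A P d) ⊗[A] P) :
    μ₂ A P d S (ιS A P d (S ⊗[A] SymTen.TS A P d) i v) = lam A P d S i v := by
  have h : (μ₂ A P d S).comp (ιS A P d (S ⊗[A] SymTen.TS A P d) i) = lam A P d S i := by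
    apply Algebra.TensorProduct.ext'
    intro r b
    rw [AlgHom.comp_apply, ιS_tmul, μ₂_tmul, lam_tmul]
  exact DFunLike.congr_fun h v

lemma lam_up (i : Fin d) (u : S ⊗[A] P) : lam A P d S i (up A P d S u) = ιS A P d S i u := by
  have h : (lam A P d S i).comp (Algebra.TensorProduct.map
      (Algebra.TensorProduct.includeLeft : S →ₐ[A] S ⊗[A] SymTen.TS A P d) (AlgHom.id A P)) =
      ιS A P d S i := by
    apply Algebra.TensorProduct.ext'
    intro s b
    rw [AlgHom.comp_apply, Algebra.TensorProduct.map_tmul, lam_tmul, ιS_tmul]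
    simp [jR]
  exact DFunLike.congr_fun h u

lemma lam_cE (i : Fin d) : lam A P d S i (cE d e S y) = 0 := by
  rw [cE, Polynomial.aeval_def]
  have h := Polynomial.hom_eval₂ (Epol d e S y)
    (algebraMap (S ⊗[A] SymTen.TS A P d) ((S ⊗[A] SymTen.TS A P d) ⊗[A] P))
    (lam A P d S i).toRingHom (up A P d S y)
  have h2 : (lam A P d S i).toRingHom.comp
      (algebraMap (S ⊗[A] SymTen.TS A P d) ((S ⊗[A] SymTen.TS A P d) ⊗[A] P)) =
      (jR A P d S : S ⊗[A] SymTen.TS A P d →+* S ⊗[A] Tp A P d) := by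
    apply RingHom.ext
    intro r
    rw [RingHom.comp_apply, Algebra.TensorProduct.algebraMap_apply]
    show lam A P d S i (_ ⊗ₜ[A] (1 : P)) = _
    rw [lam_tmul, map_one, ← Algebra.TensorProduct.one_def, mul_one]
    rfl
  refine h.trans ?_
  rw [h2]
  have h3 : (lam A P d S i).toRingHom (up A P d S y) = ιS A P d S i y := lam_up d S i y
  rw [h3, ← Polynomial.eval_map, map_jR_Epol, Polynomial.eval_prod]
  refine Finset.prod_eq_zero (Finset.mem_univ i) ?_
  simp

lemma lam_zE (i : Fin d) : lam A P d S i (zE d e S y p w) = ιS A P d S i p := by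
  rw [zE, map_add, map_mul, lam_cE, mul_zero, add_zero, lam_up]

/-- The key identity: after multiplying out, the universal law does not see the perturbation. -/
lemma μ₁_τlaw_zE :
    μ₁ A P d S ((τlaw d e).toFun' (S ⊗[A] SymTen.TS A P d) (zE d e S y p w)) =
      (τlaw d e).toFun' S p := by
  apply jR_injective d e S
  rw [jR_μ₁, jR_τlaw, jR_τlaw, pw_toFun', pw_toFun']
  have hprod : ∀ f : Fin d → (S ⊗[A] SymTen.TS A P d) ⊗[A] Tp A P d,
      μ₂ A P d S (∏ i, f i) = ∏ i, μ₂ A P d S (f i) := fun f =>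
    map_prod (μ₂ A P d S).toRingHom f Finset.univ
  rw [hprod]
  refine Finset.prod_congr rfl fun i _ => ?_
  rw [μ₂_ιS, lam_zE]

include e in
/-- The Cayley–Hamilton theorem for a multiplicative law on a free algebra. -/
theorem CH_free :
    F.law.toFun' S (p + w * Polynomial.aeval y (chi S F.law y)) = F.law.toFun' S p := by
  rw [← Fh_eq_iff, ← map_gS_zE d e F S y p w, ← Fh_natural, Fh_eq_gS d e F, gS_gS, μ₁_τlaw_zE,
    ← Fh_eq_gS]

end Main

end FreeCase

end Groth.Agent.Lib.Helper6.ZC
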