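import Mathlib
import Groth.Prelude.Def_PolLaw
import Groth.Agent.Lib.Helper6.ZC.CH

/-!
# The Cayley–Hamilton theorem for multiplicative laws `B → A` on an arbitrary algebra (helper6)
-/

set_option autoImplicit false
set_option linter.unusedSectionVars false
set_option linter.unusedVariables false
set_option linter.unusedSimpArgs false
set_option linter.style.haveILetI false
set_option maxHeartbeats 400000
universe u
open scoped TensorProduct
open Polynomial

namespace Groth.Agent.Lib.Helper6.ZC

section CoeffFree

variable {A : Type u} [CommRing A] {P : Type u} [CommRing P] [Algebra A P] (d : ℕ)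
variable {I : Type u} [DecidableEq I] (e : Module.Basis I A P) (F : PolLaw.MulLaw A P A d)
variable (S : Type u) [CommRing S] [Algebra A S] (y : S ⊗[A] P)

lemma prod_C_sub_X_natDegree_le {R : Type*} [CommRing R] (r : Fin d → R) :
    (∏ l, (Polynomial.C (r l) - Polynomial.X)).natDegree ≤ d := by
  refine (Polynomial.natDegree_prod_le _ _).trans ?_
  calc ∑ l : Fin d, (Polynomial.C (r l) - Polynomial.X).natDegree ≤ ∑ l : Fin d, 1 := by
        refine Finset.sum_le_sum fun l _ => ?_
        refine (Polynomial.natDegree_sub_le _ _).trans ?_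
        rw [Polynomial.natDegree_C]
        exact max_le (Nat.zero_le _) Polynomial.natDegree_X_le
    _ = d := by simp

lemma prod_C_sub_X_coeff {R : Type*} [CommRing R] (r : Fin d → R) :
    (∏ l, (Polynomial.C (r l) - Polynomial.X)).coeff d = (-1) ^ d := by
  by_cases hR : Nontrivial R
  · have h : ∀ l, (Polynomial.C (r l) - Polynomial.X) =
        (-1 : Polynomial R) * (Polynomial.X - Polynomial.C (r l)) := by
      intro l; ring
    simp only [h]
    rw [Finset.prod_mul_distrib, Finset.prod_const, Finset.card_univ, Fintype.card_fin]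
    have h2 : ((-1 : Polynomial R)) ^ d = Polynomial.C ((-1 : R) ^ d) := by
      rw [Polynomial.C_pow, Polynomial.C_neg, Polynomial.C_1]
    rw [h2, Polynomial.coeff_C_mul]
    have h3 : (∏ l : Fin d, (Polynomial.X - Polynomial.C (r l))).Monic :=
      Polynomial.monic_prod_of_monic _ _ fun l _ => Polynomial.monic_X_sub_C (r l)
    have h4 : (∏ l : Fin d, (Polynomial.X - Polynomial.C (r l))).natDegree = d := by
      rw [Polynomial.natDegree_prod_of_monic _ _ fun l _ => Polynomial.monic_X_sub_C (r l)]
      simp
    have h5 := h3.coeff_natDegree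
    rw [h4] at h5
    rw [h5, mul_one]
  · rw [not_nontrivial_iff_subsingleton] at hR
    exact Subsingleton.elim _ _

include e in
lemma Epol_coeff (k : ℕ) (hk : d < k) : (Epol d e S y).coeff k = 0 := by
  apply jR_injective d e S
  rw [map_zero]
  have h1 := congrArg (fun q => Polynomial.coeff q k) (map_jR_Epol d e S y)
  simp only [Polynomial.coeff_map] at h1
  rw [Polynomial.coeff_eq_zero_of_natDegree_lt
    (lt_of_le_of_lt (prod_C_sub_X_natDegree_le d _) hk)] at h1
  exact h1

lemma Epol_coeff_d : (Epol d e S y).coeff d = (-1) ^ d := by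
  apply jR_injective d e S
  have h1 := congrArg (fun q => Polynomial.coeff q d) (map_jR_Epol d e S y)
  simp only [Polynomial.coeff_map] at h1
  rw [prod_C_sub_X_coeff] at h1
  rw [map_pow, map_neg, map_one]
  exact h1

include e in
lemma chi_coeff_free (k : ℕ) (hk : d < k) : (chi S F.law y).coeff k = 0 := by
  rw [← map_gS_Epol d e F S y, Polynomial.coeff_map, Epol_coeff d e S y k hk, map_zero]

include e in
lemma chi_coeff_d_free : (chi S F.law y).coeff d = (-1) ^ d := by
  rw [← map_gS_Epol d e F S y, Polynomial.coeff_map, Epol_coeff_d d e S y, map_pow, map_neg,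
    map_one]

end CoeffFree

section General

variable (A : Type u) [CommRing A] (B : Type u) [CommRing B] [Algebra A B]

/-- The canonical surjection from a polynomial ring onto `B`. -/
noncomputable def πB : MvPolynomial B A →ₐ[A] B := MvPolynomial.aeval id

lemma πB_surjective : Function.Surjective (πB A B) := fun b =>
  ⟨MvPolynomial.X b, by simp [πB]⟩

variable (S : Type u) [CommRing S] [Algebra A S]

/-- The base change of `πB`. -/
noncomputable def πS : S ⊗[A] MvPolynomial B A →ₐ[S] S ⊗[A] B :=
  Algebra.TensorProduct.map (AlgHom.id S S) (πB A B)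

lemma πS_tmul (s : S) (q : MvPolynomial B A) : πS A B S (s ⊗ₜ[A] q) = s ⊗ₜ[A] πB A B q := by
  simp [πS]

lemma πS_surjective : Function.Surjective (πS A B S) := by
  intro z
  obtain ⟨w, hw⟩ := LinearMap.lTensor_surjective S (g := (πB A B).toLinearMap)
    (πB_surjective A B) z
  refine ⟨w, ?_⟩
  rw [← hw, πS, ← PolLaw.lTensor_algHom_apply]

variable {A B} {d : ℕ} (F : PolLaw.MulLaw A B A d)

lemma precomp_toFun' (z : S ⊗[A] MvPolynomial B A) :
    (F.precomp (πB A B)).law.toFun' S z = F.law.toFun' S (πS A B S z) := by
  show F.law.toFun' S ((πB A B).toLinearMap.lTensor S z) = _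
  rw [PolLaw.lTensor_algHom_apply]
  rfl

lemma πS_toX (y' : S ⊗[A] MvPolynomial B A) :
    πS A B (Polynomial S) (toX S y') = toX S (πS A B S y') := by
  induction y' using TensorProduct.induction_on with
  | zero => simp [toX]
  | tmul s q => simp [toX, πS]
  | add x y hx hy =>
    rw [toX] at hx hy ⊢
    rw [map_add, map_add, hx, hy, map_add]
    simp only [toX, map_add]

lemma πS_yX (y' : S ⊗[A] MvPolynomial B A) :
    πS A B (Polynomial S) (yX S y') = yX S (πS A B S y') := by
  rw [yX, yX, map_sub, πS_toX]
  congr 1
  simp [πS]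

lemma chi_precomp (y' : S ⊗[A] MvPolynomial B A) :
    chi S (F.precomp (πB A B)).law y' = chi S F.law (πS A B S y') := by
  rw [chi, chi, Fh, Fh, precomp_toFun', πS_yX]

/-- The Cayley–Hamilton theorem for a multiplicative law `B → A`. -/
theorem CH_general (y p w : S ⊗[A] B) :
    F.law.toFun' S (p + w * Polynomial.aeval y (chi S F.law y)) = F.law.toFun' S p := by
  classical
  obtain ⟨y', rfl⟩ := πS_surjective A B S y
  obtain ⟨p', rfl⟩ := πS_surjective A B S p
  obtain ⟨w', rfl⟩ := πS_surjective A B S w
  have h := CH_free d (MvPolynomial.basisMonomials B A) (F.precomp (πB A B)) S y' p' w'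
  rw [precomp_toFun', precomp_toFun', chi_precomp, map_add, map_mul,
    ← Polynomial.aeval_algHom_apply] at h
  exact h

lemma chi_coeff_of_lt (y : S ⊗[A] B) (k : ℕ) (hk : d < k) : (chi S F.law y).coeff k = 0 := by
  classical
  obtain ⟨y', rfl⟩ := πS_surjective A B S y
  rw [← chi_precomp]
  exact chi_coeff_free d (MvPolynomial.basisMonomials B A) _ S y' k hk

lemma chi_coeff_d (y : S ⊗[A] B) : (chi S F.law y).coeff d = (-1) ^ d := by
  classical
  obtain ⟨y', rfl⟩ := πS_surjective A B S y
  rw [← chi_precomp]
  exact chi_coeff_d_free d (MvPolynomial.basisMonomials B A) _ S y'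

lemma chi_natDegree_le (y : S ⊗[A] B) : (chi S F.law y).natDegree ≤ d := by
  rw [Polynomial.natDegree_le_iff_coeff_eq_zero]
  intro k hk
  exact chi_coeff_of_lt S F y k hk

end General

end Groth.Agent.Lib.Helper6.ZC
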