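import Mathlib
import Groth.Prelude.Def_PolLaw
import Groth.Agent.Lib.Helper6.ZC.CHGen

/-!
# The Cayley–Hamilton ideal and the kernel of a multiplicative law (helper6)
-/

set_option autoImplicit false
set_option linter.unusedSectionVars false
set_option linter.unusedVariables false
set_option linter.unusedSimpArgs false
set_option linter.style.haveILetI false
set_option maxHeartbeats 400000
universe u
open scoped TensorProduct
open Polynomial

namespace Groth.Agent.Lib.Helper6.ZC

section Ring

variable (A : Type u) [CommRing A] (S : Type u) [inst : CommSemiring S] [Algebra A S]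

/-- A commutative semiring which is an algebra over a commutative ring is a commutative ring. -/
@[reducible] noncomputable def commRingOfAlgebra : CommRing S :=
  { Algebra.semiringToRing A, inst with }

end Ring

section KerTest

variable {A : Type u} [CommRing A] {B C : Type u} [CommRing B] [Algebra A B] [CommRing C]
  [Algebra A C]

lemma mem_ker_of_commRing (F : B →ₚₗ[A] C) (b : B)
    (h : ∀ (S : Type u) [CommRing S] [Algebra A S] (x w : S ⊗[A] B),
      F.toFun' S (x + w * (1 ⊗ₜ[A] b)) = F.toFun' S x) : b ∈ PolLaw.ker F := by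
  intro S _ instA x w
  exact @h S (commRingOfAlgebra A S) instA x w

lemma mem_ker_iff (F : B →ₚₗ[A] C) (b : B) :
    b ∈ PolLaw.ker F ↔ ∀ (S : Type u) [CommSemiring S] [Algebra A S] (x w : S ⊗[A] B),
      F.toFun' S (x + w * (1 ⊗ₜ[A] b)) = F.toFun' S x := Iff.rfl

end KerTest

section CHIdeal

variable {A : Type u} [CommRing A] {B : Type u} [CommRing B] [Algebra A B] {d : ℕ}
variable (F : PolLaw.MulLaw A B A d)

/-- The characteristic polynomial of `b ∈ B` with respect to `F`. -/
noncomputable def chiA (b : B) : Polynomial A :=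
  Fh F.law (Polynomial A) ((1 : Polynomial A) ⊗ₜ[A] b - Polynomial.X ⊗ₜ[A] (1 : B))

lemma chiA_eq_rid (b : B) : chiA F b = TensorProduct.rid A (Polynomial A)
    (F.law.toFun' (Polynomial A) ((1 : Polynomial A) ⊗ₜ[A] b - Polynomial.X ⊗ₜ[A] (1 : B))) := by
  rfl

lemma chiA_eq_chi (b : B) : chiA F b = chi A F.law ((1 : A) ⊗ₜ[A] b) := by
  rw [chiA, chi, yX, toX]
  simp

variable (S : Type u) [CommRing S] [Algebra A S]

lemma chi_one_tmul (b : B) :
    chi S F.law ((1 : S) ⊗ₜ[A] b) = Polynomial.map (algebraMap A S) (chiA F b) := by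
  have h := Fh_natural F.law (Polynomial.mapAlgHom (Algebra.ofId A S))
    ((1 : Polynomial A) ⊗ₜ[A] b - Polynomial.X ⊗ₜ[A] (1 : B))
  rw [chiA, chi, yX, toX]
  have h2 : (Polynomial.mapAlgHom (Algebra.ofId A S)) (Fh F.law (Polynomial A)
      ((1 : Polynomial A) ⊗ₜ[A] b - Polynomial.X ⊗ₜ[A] (1 : B))) =
      Polynomial.map (algebraMap A S) (Fh F.law (Polynomial A)
      ((1 : Polynomial A) ⊗ₜ[A] b - Polynomial.X ⊗ₜ[A] (1 : B))) := rfl
  rw [← h2, h]
  congr 1
  simp

lemma aeval_one_tmul (b : B) (p : Polynomial A) :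
    Polynomial.aeval ((1 : S) ⊗ₜ[A] b) (Polynomial.map (algebraMap A S) p) =
      (1 : S) ⊗ₜ[A] Polynomial.aeval b p := by
  rw [Polynomial.aeval_map_algebraMap]
  have := Polynomial.aeval_algHom_apply (Algebra.TensorProduct.includeRight : B →ₐ[A] S ⊗[A] B) b p
  simpa using this

lemma aeval_chiA_mem_ker (b : B) : Polynomial.aeval b (chiA F b) ∈ PolLaw.ker F.law := by
  apply mem_ker_of_commRing
  intro S _ _ x w
  have h := CH_general S F ((1 : S) ⊗ₜ[A] b) x w
  rw [chi_one_tmul, aeval_one_tmul] at h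
  exact h

lemma chiA_of_mem_ker (b : B) (hb : b ∈ PolLaw.ker F.law) :
    chiA F b = (-Polynomial.X) ^ d := by
  have h1 := hb (Polynomial A) (-((Polynomial.X : Polynomial A) ⊗ₜ[A] (1 : B))) 1
  have h2 : -((Polynomial.X : Polynomial A) ⊗ₜ[A] (1 : B)) + 1 * ((1 : Polynomial A) ⊗ₜ[A] b) =
      (1 : Polynomial A) ⊗ₜ[A] b - Polynomial.X ⊗ₜ[A] (1 : B) := by ring
  rw [h2] at h1
  rw [chiA, Fh, h1]
  have h3 : -((Polynomial.X : Polynomial A) ⊗ₜ[A] (1 : B)) =
      (-(Polynomial.X : Polynomial A)) • (1 : Polynomial A ⊗[A] B) := by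
    rw [Algebra.TensorProduct.one_def, TensorProduct.smul_tmul', smul_eq_mul, mul_one,
      TensorProduct.neg_tmul]
  rw [h3, F.homog (Polynomial A), (F.mult (Polynomial A)).1, Algebra.TensorProduct.one_def,
    TensorProduct.smul_tmul', smul_eq_mul, mul_one, Algebra.TensorProduct.rid_tmul, one_smul]

lemma ker_le_radical (b : B) (hb : b ∈ PolLaw.ker F.law) :
    b ∈ (Ideal.span (Set.range fun b : B => Polynomial.aeval b (chiA F b))).radical := by
  refine ⟨d, ?_⟩
  have h1 : Polynomial.aeval b (chiA F b) ∈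
      Ideal.span (Set.range fun b : B => Polynomial.aeval b (chiA F b)) :=
    Ideal.subset_span ⟨b, rfl⟩
  rw [chiA_of_mem_ker F b hb, map_pow, map_neg, Polynomial.aeval_X] at h1
  have h2 : b ^ d = (-1) ^ d * (-b) ^ d := by
    rw [← mul_pow]; simp
  rw [h2]
  exact Ideal.mul_mem_left _ _ h1

/-- The Cayley–Hamilton ideal is contained in the kernel, and the kernel in its radical. -/
theorem chIdeal_le_ker_le_radical :
    Ideal.span (Set.range fun b : B => Polynomial.aeval b (chiA F b)) ≤ PolLaw.ker F.law ∧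
      PolLaw.ker F.law ≤
        (Ideal.span (Set.range fun b : B => Polynomial.aeval b (chiA F b))).radical := by
  refine ⟨?_, fun b hb => ker_le_radical F b hb⟩
  rw [Ideal.span_le]
  rintro _ ⟨b, rfl⟩
  exact aeval_chiA_mem_ker F b

lemma chiA_natDegree_le (b : B) : (chiA F b).natDegree ≤ d := by
  rw [chiA_eq_chi]; exact chi_natDegree_le A F _

lemma chiA_coeff_d (b : B) : (chiA F b).coeff d = (-1) ^ d := by
  rw [chiA_eq_chi]; exact chi_coeff_d A F _

/-- The monic version of the characteristic polynomial. -/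
noncomputable def chiM (b : B) : Polynomial A := Polynomial.C ((-1 : A) ^ d) * chiA F b

lemma chiM_monic (b : B) : (chiM F b).Monic := by
  apply Polynomial.monic_of_natDegree_le_of_coeff_eq_one d
  · rw [chiM]
    exact (Polynomial.natDegree_C_mul_le _ _).trans (chiA_natDegree_le F b)
  · rw [chiM, Polynomial.coeff_C_mul, chiA_coeff_d, ← mul_pow]
    simp

lemma aeval_chiM_mem_ker (b : B) : Polynomial.aeval b (chiM F b) ∈ PolLaw.ker F.law := by
  rw [chiM, map_mul]
  exact Ideal.mul_mem_left _ _ (aeval_chiA_mem_ker F b)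

theorem image_isIntegral : Algebra.IsIntegral A (PolLaw.image F.law) := by
  constructor
  intro x
  obtain ⟨b, rfl⟩ := Ideal.Quotient.mk_surjective x
  refine ⟨chiM F b, chiM_monic F b, ?_⟩
  have h := Polynomial.aeval_algHom_apply (Ideal.Quotient.mkₐ A (PolLaw.ker F.law)) b (chiM F b)
  rw [← Polynomial.aeval_def]
  show Polynomial.aeval ((Ideal.Quotient.mkₐ A (PolLaw.ker F.law)) b) (chiM F b) = 0
  rw [h]
  exact Ideal.Quotient.eq_zero_iff_mem.mpr (aeval_chiM_mem_ker F b)

end CHIdeal

end Groth.Agent.Lib.Helper6.ZC
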