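import Mathlib

/-!
# Tensor powers of a flat module as a colimit of tensor powers of finite free modules (helper6)

Part 1: the splitting `N ⊗ T^{d+1}(X) ≃ (N ⊗ T^d(X)) ⊗ X` and its naturality.
-/

set_option autoImplicit false
set_option linter.unusedSectionVars false
set_option linter.unusedVariables false
set_option linter.unusedSimpArgs false
set_option linter.style.haveILetI false
set_option maxHeartbeats 400000
universe u
open scoped TensorProduct

namespace Groth.Agent.Lib.Helper6.ZC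

section Split

variable (A : Type u) [CommRing A] (N : Type u) [AddCommGroup N] [Module A N]

/-- The `d`-fold tensor power of a module. -/
abbrev Tmod (d : ℕ) (X : Type u) [AddCommGroup X] [Module A X] : Type u := ⨂[A] _ : Fin d, X

variable {X Y Z : Type u} [AddCommGroup X] [Module A X] [AddCommGroup Y] [Module A Y]
  [AddCommGroup Z] [Module A Z]

/-- The `d`-fold tensor power of a linear map. -/
noncomputable def Tm (d : ℕ) (g : X →ₗ[A] Y) : Tmod A d X →ₗ[A] Tmod A d Y :=
  PiTensorProduct.map (fun _ => g)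

@[simp]
lemma Tm_tprod (d : ℕ) (g : X →ₗ[A] Y) (f : Fin d → X) :
    Tm A d g (PiTensorProduct.tprod A f) = PiTensorProduct.tprod A (fun i => g (f i)) :=
  PiTensorProduct.map_tprod _ _

lemma Tm_comp (d : ℕ) (g : X →ₗ[A] Y) (h : Y →ₗ[A] Z) :
    Tm A d (h ∘ₗ g) = Tm A d h ∘ₗ Tm A d g :=
  PiTensorProduct.map_comp (fun _ => h) (fun _ => g)

lemma Tm_comp_apply (d : ℕ) (g : X →ₗ[A] Y) (h : Y →ₗ[A] Z) (t : Tmod A d X) :
    Tm A d (h ∘ₗ g) t = Tm A d h (Tm A d g t) := by
  rw [Tm_comp]; rfl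

lemma Tm_reindex (d : ℕ) (g : X →ₗ[A] Y) (σ : Equiv.Perm (Fin d)) (t : Tmod A d X) :
    Tm A d g (PiTensorProduct.reindex A (fun _ : Fin d => X) σ t) =
      PiTensorProduct.reindex A (fun _ : Fin d => Y) σ (Tm A d g t) := by
  induction t using PiTensorProduct.induction_on with
  | smul_tprod r f => simp [PiTensorProduct.reindex_tprod]
  | add x y hx hy => simp only [map_add, hx, hy]

/-- The tensor power of a linear map with coefficients in `N`. -/
noncomputable def NTm (d : ℕ) (g : X →ₗ[A] Y) : N ⊗[A] Tmod A d X →ₗ[A] N ⊗[A] Tmod A d Y :=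
  (Tm A d g).lTensor N

@[simp]
lemma NTm_tmul (d : ℕ) (g : X →ₗ[A] Y) (n : N) (t : Tmod A d X) :
    NTm A N d g (n ⊗ₜ[A] t) = n ⊗ₜ[A] Tm A d g t := rfl

lemma NTm_comp_apply (d : ℕ) (g : X →ₗ[A] Y) (h : Y →ₗ[A] Z) (z : N ⊗[A] Tmod A d X) :
    NTm A N d (h ∘ₗ g) z = NTm A N d h (NTm A N d g z) := by
  unfold NTm
  rw [Tm_comp, LinearMap.lTensor_comp]
  rfl

variable (X) in
/-- `T^{d+1}(X) ≃ T^d(X) ⊗ X`. -/
noncomputable def splitT (d : ℕ) : Tmod A (d + 1) X ≃ₗ[A] Tmod A d X ⊗[A] X :=
  (PiTensorProduct.reindex A (fun _ : Fin (d + 1) => X) finSumFinEquiv.symm) ≪≫ₗ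
    (PiTensorProduct.tmulEquiv A X).symm ≪≫ₗ
    (TensorProduct.congr (LinearEquiv.refl A _)
      (PiTensorProduct.subsingletonEquiv (R := A) (s := fun _ : Fin 1 => X) (0 : Fin 1)))

lemma splitT_tprod (d : ℕ) (f : Fin (d + 1) → X) :
    splitT A X d (PiTensorProduct.tprod A f) =
      PiTensorProduct.tprod A (fun i : Fin d => f (Fin.castAdd 1 i)) ⊗ₜ[A] f (Fin.natAdd d 0) := by
  unfold splitT
  simp only [LinearEquiv.trans_apply, PiTensorProduct.reindex_tprod, Equiv.symm_symm]
  rw [PiTensorProduct.tmulEquiv_symm_apply]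
  simp only [TensorProduct.congr_tmul, LinearEquiv.refl_apply,
    PiTensorProduct.subsingletonEquiv_apply_tprod]
  rfl

lemma splitT_natural (d : ℕ) (g : X →ₗ[A] Y) (t : Tmod A (d + 1) X) :
    splitT A Y d (Tm A (d + 1) g t) = TensorProduct.map (Tm A d g) g (splitT A X d t) := by
  induction t using PiTensorProduct.induction_on with
  | smul_tprod r f =>
    simp only [map_smul, Tm_tprod, splitT_tprod, TensorProduct.map_tmul]
  | add x y hx hy => simp only [map_add, hx, hy]

variable (X) in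
/-- `N ⊗ T^{d+1}(X) ≃ (N ⊗ T^d(X)) ⊗ X`. -/
noncomputable def splitN (d : ℕ) : N ⊗[A] Tmod A (d + 1) X ≃ₗ[A] (N ⊗[A] Tmod A d X) ⊗[A] X :=
  (TensorProduct.congr (LinearEquiv.refl A N) (splitT A X d)) ≪≫ₗ
    (TensorProduct.assoc A N (Tmod A d X) X).symm

lemma splitN_tmul (d : ℕ) (n : N) (t : Tmod A (d + 1) X) :
    splitN A N X d (n ⊗ₜ[A] t) =
      (TensorProduct.assoc A N (Tmod A d X) X).symm (n ⊗ₜ[A] splitT A X d t) := rfl

lemma splitN_natural (d : ℕ) (g : X →ₗ[A] Y) (z : N ⊗[A] Tmod A (d + 1) X) :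
    splitN A N Y d (NTm A N (d + 1) g z) =
      TensorProduct.map (NTm A N d g) g (splitN A N X d z) := by
  induction z using TensorProduct.induction_on with
  | zero => simp
  | tmul n t =>
    rw [NTm_tmul, splitN_tmul, splitN_tmul, splitT_natural]
    generalize splitT A X d t = s
    induction s using TensorProduct.induction_on with
    | zero => simp
    | tmul t' x =>
      rw [TensorProduct.map_tmul, TensorProduct.assoc_symm_tmul, TensorProduct.assoc_symm_tmul,
        TensorProduct.map_tmul, NTm_tmul]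
    | add a b ha hb => simp only [map_add, TensorProduct.tmul_add, ha, hb]
  | add a b ha hb => simp only [map_add, ha, hb]

end Split

end Groth.Agent.Lib.Helper6.ZC
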