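import Mathlib
import Groth.Agent.Lib.Helper6.ZC.Lazard1

/-!
# Tensor powers of a flat module as a colimit of tensor powers of finite free modules (helper6)

Part 2: the key lemma. If `B` is flat, `u : L → B` with `L` finite free and `z ∈ N ⊗ T^d(L)` dies in
`N ⊗ T^d(B)`, then `u` factors through a finite free `L'` in which `z` already dies.
-/

set_option autoImplicit false
set_option linter.unusedSectionVars false
set_option linter.unusedVariables false
set_option linter.unusedSimpArgs false
set_option linter.style.haveILetI false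
set_option maxHeartbeats 400000
universe u
open scoped TensorProduct

namespace Groth.Agent.Lib.Helper6.ZC

section Decomp

variable {A : Type u} [CommRing A] {M L : Type u} [AddCommGroup M] [Module A M]
  [AddCommGroup L] [Module A L] {ι : Type*} [Fintype ι]

lemma exists_sum_tmul_basis (b : Module.Basis ι A L) (ζ : M ⊗[A] L) :
    ∃ c : ι → M, ζ = ∑ i, c i ⊗ₜ[A] b i := by
  induction ζ using TensorProduct.induction_on with
  | zero => exact ⟨0, by simp⟩
  | tmul m l =>
    refine ⟨fun i => b.repr l i • m, ?_⟩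
    conv_lhs => rw [← b.sum_repr l]
    rw [TensorProduct.tmul_sum]
    refine Finset.sum_congr rfl fun i _ => ?_
    rw [TensorProduct.tmul_smul, TensorProduct.smul_tmul']
  | add x y hx hy =>
    obtain ⟨c, rfl⟩ := hx
    obtain ⟨c', rfl⟩ := hy
    refine ⟨c + c', ?_⟩
    rw [← Finset.sum_add_distrib]
    refine Finset.sum_congr rfl fun i _ => ?_
    rw [Pi.add_apply, TensorProduct.add_tmul]

end Decomp

section KL

variable (A : Type u) [CommRing A] (N : Type u) [AddCommGroup N] [Module A N]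
  (B : Type u) [AddCommGroup B] [Module A B]

/-- The key lemma at level `d`. -/
def KLprop (d : ℕ) : Prop :=
  ∀ (L : Type u) [AddCommGroup L] [Module A L] [Module.Free A L] [Module.Finite A L]
    (u : L →ₗ[A] B) (z : N ⊗[A] Tmod A d L), NTm A N d u z = 0 →
    ∃ (k : ℕ) (a : L →ₗ[A] (Fin k → A)) (y : (Fin k → A) →ₗ[A] B),
      u = y ∘ₗ a ∧ NTm A N d a z = 0

variable {A N B}

/-- The key lemma for finite families. -/
lemma KLfam {d : ℕ} (h : KLprop A N B d) : ∀ (m : ℕ) (L : Type u) [AddCommGroup L] [Module A L]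
    [Module.Free A L] [Module.Finite A L] (u : L →ₗ[A] B) (z : Fin m → N ⊗[A] Tmod A d L),
    (∀ i, NTm A N d u (z i) = 0) →
    ∃ (k : ℕ) (a : L →ₗ[A] (Fin k → A)) (y : (Fin k → A) →ₗ[A] B),
      u = y ∘ₗ a ∧ ∀ i, NTm A N d a (z i) = 0 := by
  intro m
  induction m with
  | zero =>
    intro L _ _ _ _ u z hz
    obtain ⟨k, a, y, hy, -⟩ := h L u 0 (map_zero _)
    exact ⟨k, a, y, hy, fun i => i.elim0⟩
  | succ m ih =>
    intro L _ _ _ _ u z hz
    obtain ⟨k1, a1, y1, hy1, ha1⟩ := h L u (z 0) (hz 0)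
    obtain ⟨k2, a2, y2, hy2, ha2⟩ := ih (Fin k1 → A) y1 (fun i => NTm A N d a1 (z i.succ))
      (fun i => by rw [← NTm_comp_apply, ← hy1]; exact hz i.succ)
    refine ⟨k2, a2 ∘ₗ a1, y2, by rw [hy1, hy2, LinearMap.comp_assoc], ?_⟩
    intro i
    rw [NTm_comp_apply]
    refine Fin.cases ?_ (fun j => ?_) i
    · rw [ha1, map_zero]
    · exact ha2 j

lemma Tm_zero_eq {X Y : Type u} [AddCommGroup X] [Module A X] [AddCommGroup Y] [Module A Y]
    (g : X →ₗ[A] Y) :
    Tm A 0 g = (PiTensorProduct.isEmptyEquiv (R := A) (s := fun _ : Fin 0 => Y) (Fin 0)).symm.toLinearMap ∘ₗ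
      (PiTensorProduct.isEmptyEquiv (R := A) (s := fun _ : Fin 0 => X) (Fin 0)).toLinearMap := by
  apply PiTensorProduct.ext
  apply MultilinearMap.ext
  intro f
  simp only [LinearMap.compMultilinearMap_apply, Tm_tprod, LinearMap.coe_comp,
    LinearEquiv.coe_coe, Function.comp_apply, PiTensorProduct.isEmptyEquiv_apply_tprod,
    PiTensorProduct.isEmptyEquiv_symm_apply, one_smul]
  congr 1
  funext i
  exact i.elim0

lemma NTm_zero_injective {X Y : Type u} [AddCommGroup X] [Module A X] [AddCommGroup Y]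
    [Module A Y] (g : X →ₗ[A] Y) : Function.Injective (NTm A N 0 g) := by
  unfold NTm
  rw [Tm_zero_eq]
  have : ((PiTensorProduct.isEmptyEquiv (R := A) (s := fun _ : Fin 0 => Y) (Fin 0)).symm.toLinearMap ∘ₗ
      (PiTensorProduct.isEmptyEquiv (R := A) (s := fun _ : Fin 0 => X) (Fin 0)).toLinearMap) =
      ((PiTensorProduct.isEmptyEquiv (R := A) (s := fun _ : Fin 0 => X) (Fin 0)).trans
        (PiTensorProduct.isEmptyEquiv (R := A) (s := fun _ : Fin 0 => Y) (Fin 0)).symm).toLinearMap := rfl
  rw [this]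
  exact (LinearEquiv.lTensor N _).injective

variable [Module.Flat A B]

lemma KLzero : KLprop A N B 0 := by
  intro L _ _ _ _ u z hz
  have hz0 : z = 0 := NTm_zero_injective u (by rw [hz, map_zero])
  obtain ⟨k, a, y, hy, -⟩ := Module.Flat.exists_factorization_of_apply_eq_zero_of_free
    (f := (0 : L)) (x := u) (map_zero u)
  refine ⟨k, (Finsupp.linearEquivFunOnFinite A A (Fin k)).toLinearMap ∘ₗ a,
    y ∘ₗ (Finsupp.linearEquivFunOnFinite A A (Fin k)).symm.toLinearMap, ?_, ?_⟩
  · rw [hy]
    ext x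
    simp
  · rw [hz0, map_zero]

lemma KLstep {d : ℕ} (h : KLprop A N B d) : KLprop A N B (d + 1) := by
  intro L _ _ _ _ u z hz
  classical
  let b := Module.Free.chooseBasis A L
  obtain ⟨c, hc⟩ := exists_sum_tmul_basis b (splitN A N L d z)
  have h0 : ∑ i, NTm A N d u (c i) ⊗ₜ[A] u (b i) = (0 : (N ⊗[A] Tmod A d B) ⊗[A] B) := by
    have h1 := splitN_natural A N d u z
    rw [hz, map_zero, hc, map_sum] at h1
    simp only [TensorProduct.map_tmul] at h1
    exact h1.symm
  obtain ⟨k, a', y', hy', ha'⟩ :=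
    TensorProduct.vanishesTrivially_of_sum_tmul_eq_zero_of_rTensor_injective A
      (Module.Flat.rTensor_preserves_injective_linearMap _ (Submodule.injective_subtype _)) h0
  let a1 : L →ₗ[A] (Fin k → A) := b.constr A a'
  let u1 : (Fin k → A) →ₗ[A] B := Fintype.linearCombination A y'
  have ha1 : ∀ i, a1 (b i) = a' i := fun i => b.constr_basis A a' i
  have hu : u = u1 ∘ₗ a1 := by
    apply b.ext
    intro i
    rw [LinearMap.comp_apply, ha1, Fintype.linearCombination_apply]
    exact hy' i
  let w : Fin k → N ⊗[A] Tmod A d (Fin k → A) := fun j => ∑ i, a' i j • NTm A N d a1 (c i)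
  have hw : ∀ j, NTm A N d u1 (w j) = 0 := by
    intro j
    simp only [w, map_sum, map_smul, ← NTm_comp_apply, ← hu]
    exact ha' j
  obtain ⟨k2, a2, y2, hy2, ha2⟩ := KLfam h k (Fin k → A) u1 w hw
  refine ⟨k2, a2 ∘ₗ a1, y2, by rw [hu, hy2, LinearMap.comp_assoc], ?_⟩
  apply (splitN A N (Fin k2 → A) d).injective
  rw [map_zero, splitN_natural, hc, map_sum]
  simp only [TensorProduct.map_tmul, LinearMap.comp_apply, ha1]
  have h2 : ∀ i, a2 (a' i) = ∑ j, a' i j • a2 (Pi.single j (1 : A)) := by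
    intro i
    conv_lhs => rw [pi_eq_sum_univ' (a' i)]
    rw [map_sum]
    refine Finset.sum_congr rfl fun j _ => ?_
    rw [map_smul]
  simp only [h2, TensorProduct.tmul_sum, TensorProduct.tmul_smul]
  rw [Finset.sum_comm]
  refine Finset.sum_eq_zero fun j _ => ?_
  have h3 : ∑ i, a' i j • (NTm A N d (a2 ∘ₗ a1) (c i) ⊗ₜ[A] a2 (Pi.single j (1 : A))) =
      NTm A N d a2 (w j) ⊗ₜ[A] a2 (Pi.single j (1 : A)) := by
    simp only [w, map_sum, map_smul, TensorProduct.sum_tmul, NTm_comp_apply,
      TensorProduct.smul_tmul']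
  rw [h3, ha2 j, TensorProduct.zero_tmul]

/-- **Key lemma** (Lazard-type): tensor powers of a flat module are the filtered colimit of the
tensor powers of the finite free modules mapping to it. -/
theorem KL (d : ℕ) : KLprop A N B d := by
  induction d with
  | zero => exact KLzero
  | succ d ih => exact KLstep ih

end KL

end Groth.Agent.Lib.Helper6.ZC
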