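import Mathlib
import Groth.Agent.Lib.Helper6.ZC.Lazard2

/-!
# Tensor powers of a flat module as a colimit of tensor powers of finite free modules (helper6)

Part 3: charts, and symmetric tensors of a flat module come from symmetric tensors of finite free
modules.
-/

set_option autoImplicit false
set_option linter.unusedSectionVars false
set_option linter.unusedVariables false
set_option linter.unusedSimpArgs false
set_option linter.style.haveILetI false
set_option maxHeartbeats 400000
universe u
open scoped TensorProduct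

namespace Groth.Agent.Lib.Helper6.ZC

section KLA

variable {A : Type u} [CommRing A] {B : Type u} [AddCommGroup B] [Module A B] [Module.Flat A B]

/-- The key lemma without coefficients, for finite families. -/
theorem KLfamA (d : ℕ) (L : Type u) [AddCommGroup L] [Module A L] [Module.Free A L]
    [Module.Finite A L] (u : L →ₗ[A] B) {κ : Type*} [Finite κ] (z : κ → Tmod A d L)
    (hz : ∀ i, Tm A d u (z i) = 0) :
    ∃ (k : ℕ) (a : L →ₗ[A] (Fin k → A)) (y : (Fin k → A) →ₗ[A] B),
      u = y ∘ₗ a ∧ ∀ i, Tm A d a (z i) = 0 := by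
  classical
  haveI := Fintype.ofFinite κ
  let e := Fintype.equivFin κ
  obtain ⟨k, a, y, hy, ha⟩ := KLfam (KL (A := A) (N := A) (B := B) d) (Fintype.card κ) L u
    (fun i => (1 : A) ⊗ₜ[A] z (e.symm i)) (fun i => by rw [NTm_tmul, hz, TensorProduct.tmul_zero])
  refine ⟨k, a, y, hy, fun i => ?_⟩
  have h1 := ha (e i)
  rw [Equiv.symm_apply_apply, NTm_tmul] at h1
  have h2 := congrArg (TensorProduct.lid A _) h1
  rwa [TensorProduct.lid_tmul, one_smul, map_zero] at h2

end KLA

section Charts

variable {A : Type u} [CommRing A] {X : Type u} [AddCommGroup X] [Module A X]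

lemma exists_rep_T (d : ℕ) (t : Tmod A d X) :
    ∃ (n : ℕ) (r : Fin n → A) (f : Fin n → Fin d → X),
      t = ∑ l, r l • PiTensorProduct.tprod A (f l) := by
  have ht : t ∈ Submodule.span A (Set.range (PiTensorProduct.tprod A (s := fun _ : Fin d => X))) := by
    rw [PiTensorProduct.span_tprod_eq_top]; exact Submodule.mem_top
  obtain ⟨n, r, g, hg⟩ := Submodule.mem_span_set'.mp ht
  choose f hf using fun l => (g l).2
  refine ⟨n, r, f, ?_⟩
  rw [← hg]
  refine Finset.sum_congr rfl fun l _ => ?_
  rw [hf l]

/-- Finitely many tensors come from a common finite free module. -/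
lemma exists_chart_fam (d m : ℕ) (t : Fin m → Tmod A d X) :
    ∃ (κ : Type) (_ : Fintype κ) (u : (κ → A) →ₗ[A] X) (z : Fin m → Tmod A d (κ → A)),
      ∀ i, Tm A d u (z i) = t i := by
  classical
  choose n r f hf using fun i => exists_rep_T d (t i)
  let κ := Σ i : Fin m, Fin (n i) × Fin d
  let v : κ → X := fun p => f p.1 p.2.1 p.2.2
  refine ⟨κ, inferInstance, Fintype.linearCombination A v,
    fun i => ∑ l, r i l • PiTensorProduct.tprod A
      (fun j => (Pi.single (⟨i, (l, j)⟩ : κ) (1 : A) : κ → A)), fun i => ?_⟩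
  rw [map_sum, hf i]
  refine Finset.sum_congr rfl fun l _ => ?_
  rw [map_smul, Tm_tprod]
  congr 2
  funext j
  rw [Fintype.linearCombination_apply_single, one_smul]

end Charts

section Sym

variable {A : Type u} [CommRing A] {X : Type u} [AddCommGroup X] [Module A X] [Module.Flat A X]

/-- Finitely many symmetric tensors of a flat module come from symmetric tensors of a common
finite free module. -/
theorem exists_sym_chart (d m : ℕ) (t : Fin m → Tmod A d X)
    (ht : ∀ i (σ : Equiv.Perm (Fin d)), PiTensorProduct.reindex A (fun _ : Fin d => X) σ (t i) = t i) :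
    ∃ (k : ℕ) (u : (Fin k → A) →ₗ[A] X) (z : Fin m → Tmod A d (Fin k → A)),
      (∀ i (σ : Equiv.Perm (Fin d)),
        PiTensorProduct.reindex A (fun _ : Fin d => (Fin k → A)) σ (z i) = z i) ∧
      ∀ i, Tm A d u (z i) = t i := by
  obtain ⟨κ, _, u0, z0, hz0⟩ := exists_chart_fam (A := A) d m t
  obtain ⟨k, a, y, hy, ha⟩ := KLfamA (B := X) d (κ → A) u0
    (fun p : Fin m × Equiv.Perm (Fin d) =>
      PiTensorProduct.reindex A (fun _ : Fin d => (κ → A)) p.2 (z0 p.1) - z0 p.1)
    (fun p => by rw [map_sub, Tm_reindex, hz0, ht, sub_self])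
  refine ⟨k, y, fun i => Tm A d a (z0 i), fun i σ => ?_, fun i => ?_⟩
  · have h1 := ha (i, σ)
    rw [map_sub, sub_eq_zero, Tm_reindex] at h1
    exact h1
  · rw [← Tm_comp_apply, ← hy, hz0]

end Sym

end Groth.Agent.Lib.Helper6.ZC
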