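import Mathlib
import Groth.Prelude.Def_PolLaw
import Groth.Agent.Lib.Helper6.ZC.Ker

/-!
# The kernel of a polynomial law commutes with polynomial base change (helper6)
-/

set_option autoImplicit false
set_option linter.unusedSectionVars false
set_option linter.unusedVariables false
set_option linter.unusedSimpArgs false
set_option linter.style.haveILetI false
set_option maxHeartbeats 400000
universe u
open scoped TensorProduct
open Polynomial

namespace Groth.Agent.Lib.Helper6.ZC

section BC

variable {A : Type u} [CommRing A] (B : Type u) [CommRing B] [Algebra A B]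
variable {T T' T'' : Type u} [CommRing T] [Algebra A T] [CommRing T'] [Algebra A T']
  [CommRing T''] [Algebra A T'']

/-- Base change of an algebra map along `B`. -/
noncomputable abbrev bc (φ : T →ₐ[A] T') : T ⊗[A] B →ₐ[A] T' ⊗[A] B :=
  Algebra.TensorProduct.map φ (AlgHom.id A B)

lemma bc_comp (ψ : T' →ₐ[A] T'') (φ : T →ₐ[A] T') (z : T ⊗[A] B) :
    bc B ψ (bc B φ z) = bc B (ψ.comp φ) z := by
  rw [bc, bc, bc, ← AlgHom.comp_apply, ← Algebra.TensorProduct.map_comp, AlgHom.comp_id]

lemma bc_id (z : T ⊗[A] B) : bc B (AlgHom.id A T) z = z := by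
  rw [bc, Algebra.TensorProduct.map_id, AlgHom.id_apply]

lemma bc_tmul (φ : T →ₐ[A] T') (t : T) (b : B) : bc B φ (t ⊗ₜ[A] b) = φ t ⊗ₜ[A] b := by
  simp [bc]

end BC

section InKer

variable {A : Type u} [CommRing A] {B : Type u} [CommRing B] [Algebra A B]
  {C : Type u} [CommRing C] [Algebra A C]
variable (F : B →ₚₗ[A] C)

/-- `z ∈ T ⊗ B` lies in the kernel of the base change of the law `F` to `T`. -/
def InKer (T : Type u) [CommRing T] [Algebra A T] (z : T ⊗[A] B) : Prop :=
  ∀ (S : Type u) [CommRing S] [Algebra A S] (φ : T →ₐ[A] S) (p w : S ⊗[A] B),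
    F.toFun' S (p + w * bc B φ z) = F.toFun' S p

variable {T T' : Type u} [CommRing T] [Algebra A T] [CommRing T'] [Algebra A T']
variable {F}

lemma InKer.zero : InKer F T (0 : T ⊗[A] B) := by
  intro S _ _ φ p w
  simp

lemma InKer.add {z z' : T ⊗[A] B} (hz : InKer F T z) (hz' : InKer F T z') :
    InKer F T (z + z') := by
  intro S _ _ φ p w
  rw [map_add, mul_add, ← add_assoc, hz' S φ, hz S φ]

lemma InKer.mul_left {z : T ⊗[A] B} (hz : InKer F T z) (c : T ⊗[A] B) : InKer F T (c * z) := by
  intro S _ _ φ p w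
  rw [map_mul, ← mul_assoc]
  exact hz S φ p _

lemma InKer.mul_right {z : T ⊗[A] B} (hz : InKer F T z) (c : T ⊗[A] B) : InKer F T (z * c) := by
  rw [mul_comm]; exact hz.mul_left c

lemma InKer.neg {z : T ⊗[A] B} (hz : InKer F T z) : InKer F T (-z) := by
  have := hz.mul_left (-1)
  simpa using this

lemma InKer.sub {z z' : T ⊗[A] B} (hz : InKer F T z) (hz' : InKer F T z') :
    InKer F T (z - z') := by
  rw [sub_eq_add_neg]; exact hz.add hz'.neg

lemma InKer.sum {ι : Type*} (s : Finset ι) (f : ι → T ⊗[A] B) (h : ∀ i ∈ s, InKer F T (f i)) :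
    InKer F T (∑ i ∈ s, f i) := by
  classical
  induction s using Finset.induction_on with
  | empty => simpa using InKer.zero
  | insert a s ha ih =>
    rw [Finset.sum_insert ha]
    exact (h a (Finset.mem_insert_self a s)).add
      (ih fun i hi => h i (Finset.mem_insert_of_mem hi))

lemma InKer.map {z : T ⊗[A] B} (hz : InKer F T z) (ψ : T →ₐ[A] T') :
    InKer F T' (bc B ψ z) := by
  intro S _ _ φ p w
  rw [bc_comp]
  exact hz S (φ.comp ψ) p w

lemma inKer_one_tmul {b : B} (hb : b ∈ PolLaw.ker F) : InKer F T ((1 : T) ⊗ₜ[A] b) := by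
  intro S _ _ φ p w
  rw [bc_tmul, map_one]
  exact hb S p w

lemma inKer_of_mem_map {z : T ⊗[A] B}
    (hz : z ∈ (PolLaw.ker F).map (Algebra.TensorProduct.includeRight : B →ₐ[A] T ⊗[A] B)) :
    InKer F T z := by
  rw [Ideal.map] at hz
  induction hz using Submodule.span_induction with
  | mem x hx =>
    obtain ⟨b, hb, rfl⟩ := hx
    exact inKer_one_tmul hb
  | zero => exact InKer.zero
  | add x y _ _ hx hy => exact hx.add hy
  | smul c x _ hx => exact hx.mul_left c

lemma mem_ker_of_inKer {b : B} (hb : InKer F A ((1 : A) ⊗ₜ[A] b)) : b ∈ PolLaw.ker F := by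
  apply mem_ker_of_commRing
  intro S _ _ x w
  have h := hb S (Algebra.ofId A S) x w
  rw [bc_tmul, map_one] at h
  exact h

end InKer

section KeyLemma

lemma eq_C_of_comp_C_mul_X {R : Type*} [CommRing R] (G : Polynomial R) (a c : R)
    (ha : ∀ (r : R) (n : ℕ), r * a ^ n = 0 → r = 0)
    (h : G.comp (Polynomial.C a * Polynomial.X) = Polynomial.C c) : G = Polynomial.C c := by
  ext i
  have h1 := congrArg (fun P => Polynomial.coeff P i) h
  simp only [Polynomial.comp_C_mul_X_coeff] at h1
  by_cases hi : i = 0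
  · subst hi
    simpa using h1
  · rw [Polynomial.coeff_C, if_neg hi] at h1 ⊢
    exact ha _ _ h1

variable {A : Type u} [CommRing A] {B : Type u} [CommRing B] [Algebra A B]
variable (F : B →ₚₗ[A] A)
variable (S : Type u) [CommRing S] [Algebra A S]

/-- Evaluation at `0`, as an `A`-algebra map. -/
noncomputable def ev0 : Polynomial S →ₐ[A] S := (Polynomial.aeval (0 : S)).restrictScalars A

@[simp] lemma ev0_C (s : S) : ev0 (A := A) S (Polynomial.C s) = s := by
  simp [ev0]

@[simp] lemma ev0_X : ev0 (A := A) S Polynomial.X = 0 := by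
  simp [ev0]

/-- The key step: if `X ^ m * q` lies in the kernel over `S[X]`, then the constant term of `q`
does not perturb the law over `S`. -/
theorem key_step (q : Polynomial S ⊗[A] B) (m : ℕ)
    (hq : InKer F (Polynomial S) (((Polynomial.X : Polynomial S) ⊗ₜ[A] (1 : B)) ^ m * q))
    (p w : S ⊗[A] B) :
    F.toFun' S (p + w * bc B (ev0 S) q) = F.toFun' S p := by
  -- notation
  let R₁ := Polynomial S
  let R₂ := Polynomial (Polynomial S)
  let ι₁ : S →ₐ[A] Polynomial S := Polynomial.CAlgHom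
  let ι₁₂ : Polynomial S →ₐ[A] Polynomial (Polynomial S) := Polynomial.CAlgHom
  let ι₂ : S →ₐ[A] Polynomial (Polynomial S) := ι₁₂.comp ι₁
  let Λ : Polynomial (Polynomial S) ⊗[A] B := (Polynomial.X : Polynomial (Polynomial S)) ⊗ₜ[A] (1 : B)
  let E : Polynomial (Polynomial S) ⊗[A] B := bc B ι₂ p + Λ * bc B ι₂ w * bc B ι₁₂ q
  let G : Polynomial (Polynomial S) := Fh F (Polynomial (Polynomial S)) E
  let c : S := Fh F S p
  let a : Polynomial S := (Polynomial.X : Polynomial S) ^ m
  let σ : Polynomial (Polynomial S) →ₐ[A] Polynomial (Polynomial S) :=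
    (Polynomial.aeval (Polynomial.C a * Polynomial.X :
      Polynomial (Polynomial S))).restrictScalars A
  have hσ12 : σ.comp ι₁₂ = ι₁₂ := by
    apply AlgHom.ext
    intro r
    simp [σ, ι₁₂]
  have hσ2 : σ.comp ι₂ = ι₂ := by
    rw [← AlgHom.comp_assoc, hσ12]
  have hσX : σ Polynomial.X = Polynomial.C a * Polynomial.X := by
    simp [σ]
  -- the image of `E` under `σ`
  have hσE : bc B σ E = bc B ι₂ p + (Λ * bc B ι₂ w) *
      bc B ι₁₂ (((Polynomial.X : Polynomial S) ⊗ₜ[A] (1 : B)) ^ m * q) := by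
    simp only [E, Λ]
    have h1 : bc B ι₁₂ (((Polynomial.X : Polynomial S) ⊗ₜ[A] (1 : B)) ^ m) =
        (Polynomial.C a : Polynomial (Polynomial S)) ⊗ₜ[A] (1 : B) := by
      rw [Algebra.TensorProduct.tmul_pow, one_pow, bc_tmul]
      rfl
    have h0 : (Polynomial.C a * Polynomial.X : Polynomial (Polynomial S)) ⊗ₜ[A] (1 : B) =
        ((Polynomial.X : Polynomial (Polynomial S)) ⊗ₜ[A] (1 : B)) *
          ((Polynomial.C a : Polynomial (Polynomial S)) ⊗ₜ[A] (1 : B)) := by
      rw [Algebra.TensorProduct.tmul_mul_tmul, mul_one, mul_comm]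
    rw [map_add, map_mul, map_mul, bc_comp, bc_comp, bc_comp, hσ2, hσ12, bc_tmul, hσX,
      map_mul (bc B ι₁₂), h1, h0]
    ring
  have h2 : σ G = Polynomial.C (Polynomial.C c) := by
    have h3 := Fh_natural F σ E
    have h4 := Fh_natural F ι₂ p
    rw [hσE] at h3
    have h5 := hq (Polynomial (Polynomial S)) ι₁₂ (bc B ι₂ p) (Λ * bc B ι₂ w)
    rw [← Fh_eq_iff] at h5
    rw [h5, ← h4] at h3
    exact h3
  have h6 : G = Polynomial.C (Polynomial.C c) := by
    apply eq_C_of_comp_C_mul_X G a (Polynomial.C c)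
    · intro r n hr
      have hmon : (a ^ n).Monic := (Polynomial.monic_X_pow m).pow n
      exact (hmon.mul_left_eq_zero_iff).mp hr
    · rw [← h2]
      simp only [σ]
      rw [AlgHom.restrictScalars_apply, Polynomial.aeval_def, Polynomial.comp]
      rfl
  -- evaluate
  let ε : Polynomial (Polynomial S) →ₐ[A] S :=
    (ev0 S).comp ((Polynomial.aeval (1 : Polynomial S)).restrictScalars A)
  have hε12 : ε.comp ι₁₂ = ev0 S := by
    apply AlgHom.ext
    intro r
    simp [ε, ι₁₂]
  have hε2 : ε.comp ι₂ = AlgHom.id A S := by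
    rw [← AlgHom.comp_assoc, hε12]
    apply AlgHom.ext
    intro r
    simp [ι₁]
  have hεX : ε Polynomial.X = 1 := by
    simp [ε, ev0]
  have hεE : bc B ε E = p + w * bc B (ev0 S) q := by
    simp only [E, Λ]
    rw [map_add, map_mul, map_mul, bc_comp, bc_comp, bc_comp, hε2, hε12, bc_tmul, hεX, bc_id,
      bc_id, ← Algebra.TensorProduct.one_def, one_mul]
  have h7 := Fh_natural F ε E
  rw [hεE] at h7
  rw [← Fh_eq_iff, ← h7]
  show ε G = c
  rw [h6]
  simp [ε, ev0]

lemma ev0_apply (P : Polynomial S) : ev0 (A := A) S P = P.coeff 0 := by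
  rw [Polynomial.coeff_zero_eq_aeval_zero]; rfl

variable {S} in
lemma ev0_comp_map {T : Type u} [CommRing T] [Algebra A T] (φ : T →ₐ[A] S) :
    (ev0 S).comp (Polynomial.mapAlgHom φ) = φ.comp (ev0 T) := by
  apply AlgHom.ext
  intro P
  rw [AlgHom.comp_apply, AlgHom.comp_apply, ev0_apply, ev0_apply]
  simp

/-- The relative form of the key step. -/
theorem inKer_ev0 (T : Type u) [CommRing T] [Algebra A T] (q : Polynomial T ⊗[A] B) (m : ℕ)
    (hq : InKer F (Polynomial T) (((Polynomial.X : Polynomial T) ⊗ₜ[A] (1 : B)) ^ m * q)) :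
    InKer F T (bc B (ev0 T) q) := by
  intro S _ _ φ p w
  have h1 := hq.map (Polynomial.mapAlgHom φ)
  rw [map_mul, map_pow, bc_tmul] at h1
  have h2 : (Polynomial.mapAlgHom φ) (Polynomial.X : Polynomial T) = Polynomial.X := by simp
  rw [h2] at h1
  have h3 := key_step F S (bc B (Polynomial.mapAlgHom φ) q) m h1 p w
  rw [bc_comp, ev0_comp_map, ← bc_comp] at h3
  exact h3

end KeyLemma

section Decompose

variable {A : Type u} [CommRing A] {B : Type u} [CommRing B] [Algebra A B]
variable (T : Type u) [CommRing T] [Algebra A T]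

variable (B) in
/-- The inverse of `Xi`. -/
noncomputable def Θ : Polynomial (T ⊗[A] B) →+* Polynomial T ⊗[A] B :=
  Polynomial.eval₂RingHom
    ((bc B (Polynomial.CAlgHom (R := A) (A := T)) : T ⊗[A] B →ₐ[A] Polynomial T ⊗[A] B) :
      T ⊗[A] B →+* Polynomial T ⊗[A] B)
    ((Polynomial.X : Polynomial T) ⊗ₜ[A] (1 : B))

lemma Θ_Xi (z : Polynomial T ⊗[A] B) : Θ B T (Xi T B z) = z := by
  induction z using TensorProduct.induction_on with
  | zero => simp
  | tmul q b =>
    rw [Xi_tmul, map_mul]
    have h1 : Θ B T (Polynomial.C ((1 : T) ⊗ₜ[A] b)) = (1 : Polynomial T) ⊗ₜ[A] b := by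
      simp [Θ, bc_tmul]
    have h2 : Θ B T (Polynomial.map (algebraMap T (T ⊗[A] B)) q) = q ⊗ₜ[A] (1 : B) := by
      rw [Θ, Polynomial.coe_eval₂RingHom, Polynomial.eval₂_map]
      have h3 := Polynomial.hom_eval₂ q (Polynomial.C : T →+* Polynomial T)
        ((Algebra.TensorProduct.includeLeft : Polynomial T →ₐ[A] Polynomial T ⊗[A] B) :
          Polynomial T →+* Polynomial T ⊗[A] B) Polynomial.X
      rw [Polynomial.eval₂_C_X] at h3
      refine Eq.trans ?_ h3.symm
      congr 1
    rw [h1, h2, Algebra.TensorProduct.tmul_mul_tmul, mul_one, one_mul]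
  | add x y hx hy => rw [map_add, map_add, hx, hy]

lemma eq_sum_Xi_coeff (z : Polynomial T ⊗[A] B) (n : ℕ) (hn : (Xi T B z).natDegree < n) :
    z = ∑ k ∈ Finset.range n, bc B (Polynomial.CAlgHom (R := A) (A := T)) ((Xi T B z).coeff k) *
      ((Polynomial.X : Polynomial T) ⊗ₜ[A] (1 : B)) ^ k := by
  conv_lhs => rw [← Θ_Xi T z]
  rw [Θ, Polynomial.coe_eval₂RingHom, Polynomial.eval₂_eq_sum_range' _ hn]
  rfl

end Decompose

section OneVar

variable {A : Type u} [CommRing A] {B : Type u} [CommRing B] [Algebra A B]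
variable (F : B →ₚₗ[A] A) (T : Type u) [CommRing T] [Algebra A T]

/-- The kernel over `T[X]` is generated by the kernel over `T`: every coefficient of an element of
the kernel over `T[X]` lies in the kernel over `T`. -/
theorem inKer_coeff (z : Polynomial T ⊗[A] B) (hz : InKer F (Polynomial T) z) (i : ℕ) :
    InKer F T ((Xi T B z).coeff i) := by
  induction i using Nat.strong_induction_on with
  | _ i ih =>
    set P := Xi T B z with hP
    set Λ : Polynomial T ⊗[A] B := (Polynomial.X : Polynomial T) ⊗ₜ[A] (1 : B) with hΛ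
    set N := P.natDegree + 1 with hN
    have h1 := eq_sum_Xi_coeff T z (i + N) (by rw [hN, hP]; omega)
    rw [Finset.sum_range_add] at h1
    let q : Polynomial T ⊗[A] B := ∑ j ∈ Finset.range N,
      bc B (Polynomial.CAlgHom (R := A) (A := T)) (P.coeff (i + j)) * Λ ^ j
    have h2 : Λ ^ i * q = z - ∑ k ∈ Finset.range i,
        bc B (Polynomial.CAlgHom (R := A) (A := T)) (P.coeff k) * Λ ^ k := by
      rw [eq_sub_iff_add_eq']
      conv_rhs => rw [h1]
      congr 1
      rw [Finset.mul_sum]
      refine Finset.sum_congr rfl fun j _ => ?_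
      rw [pow_add]
      ring
    have h3 : InKer F (Polynomial T) (Λ ^ i * q) := by
      rw [h2]
      refine hz.sub (InKer.sum _ _ fun k hk => ?_)
      exact ((ih k (Finset.mem_range.mp hk)).map _).mul_right _
    have h4 := inKer_ev0 F T q i h3
    have h5 : bc B (ev0 T) q = P.coeff i := by
      simp only [q]
      rw [map_sum, hN, Finset.sum_range_succ']
      have h6 : bc B (ev0 (A := A) T) Λ = 0 := by
        rw [hΛ, bc_tmul, ev0_X, TensorProduct.zero_tmul]
      have h7 : ∀ c : T ⊗[A] B, bc B (ev0 T) (bc B (Polynomial.CAlgHom (R := A) (A := T)) c) = c := by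
        intro c
        rw [bc_comp]
        have : (ev0 (A := A) T).comp (Polynomial.CAlgHom (R := A) (A := T)) = AlgHom.id A T := by
          apply AlgHom.ext
          intro t
          simp
        rw [this, bc_id]
      rw [Finset.sum_eq_zero, zero_add, map_mul, map_pow, h7, pow_zero, mul_one, add_zero]
      intro j _
      rw [map_mul, map_pow, h6, pow_succ, mul_zero, mul_zero]
    rw [h5] at h4
    exact h4

end OneVar

section HasPolyKer

variable {A : Type u} [CommRing A] {B : Type u} [CommRing B] [Algebra A B]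
variable (F : B →ₚₗ[A] A)

/-- The extension of the kernel of `F` to `T ⊗ B`. -/
noncomputable abbrev extKer (T : Type u) [CommRing T] [Algebra A T] : Ideal (T ⊗[A] B) :=
  (PolLaw.ker F).map (Algebra.TensorProduct.includeRight : B →ₐ[A] T ⊗[A] B)

variable {T T' : Type u} [CommRing T] [Algebra A T] [CommRing T'] [Algebra A T']

lemma bc_mem_extKer (φ : T →ₐ[A] T') {z : T ⊗[A] B} (hz : z ∈ extKer F T) :
    bc B φ z ∈ extKer F T' := by
  rw [extKer, Ideal.map] at hz
  induction hz using Submodule.span_induction with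
  | mem x hx =>
    obtain ⟨b, hb, rfl⟩ := hx
    have : bc B φ ((Algebra.TensorProduct.includeRight : B →ₐ[A] T ⊗[A] B) b) =
        (Algebra.TensorProduct.includeRight : B →ₐ[A] T' ⊗[A] B) b := by
      simp [bc_tmul]
    rw [this]
    exact Ideal.mem_map_of_mem _ hb
  | zero => rw [map_zero]; exact Ideal.zero_mem _
  | add x y _ _ hx hy => rw [map_add]; exact Ideal.add_mem _ hx hy
  | smul c x _ hx =>
    rw [smul_eq_mul, map_mul]
    exact Ideal.mul_mem_left _ _ hx

/-- The kernel of `F` over `T` is generated by the kernel of `F`. -/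
def HasPolyKer (T : Type u) [CommRing T] [Algebra A T] : Prop :=
  ∀ z : T ⊗[A] B, InKer F T z → z ∈ extKer F T

lemma hasPolyKer_self : HasPolyKer F A := by
  intro z hz
  have h1 : z = (1 : A) ⊗ₜ[A] (Algebra.TensorProduct.lid A B z) := by
    rw [← Algebra.TensorProduct.lid_symm_apply, AlgEquiv.symm_apply_apply]
  rw [h1] at hz ⊢
  exact Ideal.mem_map_of_mem _ (mem_ker_of_inKer hz)

lemma HasPolyKer.of_equiv (h : HasPolyKer F T) (e : T ≃ₐ[A] T') : HasPolyKer F T' := by
  intro z hz
  have h1 := h _ (hz.map (e.symm : T' →ₐ[A] T))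
  have h2 := bc_mem_extKer F (e : T →ₐ[A] T') h1
  rw [bc_comp] at h2
  have h3 : (e : T →ₐ[A] T').comp (e.symm : T' →ₐ[A] T) = AlgHom.id A T' := by
    apply AlgHom.ext
    intro t
    simp
  rw [h3, bc_id] at h2
  exact h2

lemma HasPolyKer.polynomial (h : HasPolyKer F T) : HasPolyKer F (Polynomial T) := by
  intro z hz
  rw [eq_sum_Xi_coeff T z _ (Nat.lt_succ_self _)]
  refine Ideal.sum_mem _ fun k _ => ?_
  refine Ideal.mul_mem_right _ _ ?_
  exact bc_mem_extKer F _ (h _ (inKer_coeff F T z hz k))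

theorem hasPolyKer_mvPolynomial (n : ℕ) : HasPolyKer F (MvPolynomial (Fin n) A) := by
  induction n with
  | zero => exact (hasPolyKer_self F).of_equiv F (MvPolynomial.isEmptyAlgEquiv A (Fin 0)).symm
  | succ n ih => exact (ih.polynomial F).of_equiv F (MvPolynomial.finSuccEquiv A n).symm

end HasPolyKer

end Groth.Agent.Lib.Helper6.ZC
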