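import Mathlib
import Groth.Prelude.Def_PolLaw
import Groth.Agent.Lib.Helper6.ZC.PolyBC

/-!
# The support of a multiplicative law commutes with base change (helper6)
-/

set_option autoImplicit false
set_option linter.unusedSectionVars false
set_option linter.unusedVariables false
set_option linter.unusedSimpArgs false
set_option linter.style.haveILetI false
set_option maxHeartbeats 400000
universe u
open scoped TensorProduct
open Polynomial

namespace Groth.Agent.Lib.Helper6.ZC

section Aux

variable {A : Type u} [CommRing A] {M N : Type u} [AddCommGroup M] [Module A M]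
  [AddCommGroup N] [Module A N]

lemma exists_fin_sum_tmul (x : M ⊗[A] N) :
    ∃ (n : ℕ) (m : Fin n → M) (b : Fin n → N), x = ∑ i, m i ⊗ₜ[A] b i := by
  obtain ⟨S, h⟩ := TensorProduct.exists_finset x
  refine ⟨S.card, fun i => (S.equivFin.symm i).1.1, fun i => (S.equivFin.symm i).1.2, ?_⟩
  rw [h, ← Finset.sum_coe_sort S]
  exact (Equiv.sum_comp S.equivFin.symm (fun i : S => i.1.1 ⊗ₜ[A] i.1.2)).symm

end Aux

section ChiNat

variable {A : Type u} [CommRing A] {B : Type u} [CommRing B] [Algebra A B] {d : ℕ}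
variable (F : PolLaw.MulLaw A B A d)
variable {S S' : Type u} [CommRing S] [Algebra A S] [CommRing S'] [Algebra A S']

lemma bc_toX (φ : S →ₐ[A] S') (y : S ⊗[A] B) :
    bc B (Polynomial.mapAlgHom φ) (toX S y) = toX S' (bc B φ y) := by
  rw [toX, toX]
  show bc B _ (bc B _ y) = bc B _ (bc B _ y)
  rw [bc_comp, bc_comp]
  congr 2
  apply AlgHom.ext
  intro s
  simp

lemma bc_yX (φ : S →ₐ[A] S') (y : S ⊗[A] B) :
    bc B (Polynomial.mapAlgHom φ) (yX S y) = yX S' (bc B φ y) := by
  rw [yX, yX, map_sub, bc_toX, bc_tmul]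
  simp

lemma chi_natural (φ : S →ₐ[A] S') (y : S ⊗[A] B) :
    Polynomial.map (φ : S →+* S') (chi S F.law y) = chi S' F.law (bc B φ y) := by
  rw [chi, chi, ← bc_yX, ← Fh_natural]
  rfl

lemma bc_aeval_chi (φ : S →ₐ[A] S') (y : S ⊗[A] B) :
    bc B φ (Polynomial.aeval y (chi S F.law y)) =
      Polynomial.aeval (bc B φ y) (chi S' F.law (bc B φ y)) := by
  rw [← chi_natural]
  exact map_aeval_tensor φ y _

/-- The Cayley–Hamilton element lies in the kernel of the base change. -/
lemma inKer_aeval_chi (y : S ⊗[A] B) : InKer F.law S (Polynomial.aeval y (chi S F.law y)) := by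
  intro S' _ _ φ p w
  rw [bc_aeval_chi]
  exact CH_general S' F _ p w

end ChiNat

section Generic

variable {A : Type u} [CommRing A] {B : Type u} [CommRing B] [Algebra A B] {d : ℕ}
variable (F : PolLaw.MulLaw A B A d)
variable (S : Type u) [CommRing S] [Algebra A S]

/-- The Cayley–Hamilton element of any `z ∈ S ⊗ B` lies in the ideal generated by the kernel
of `F`. -/
theorem aeval_chi_mem_extKer (z : S ⊗[A] B) :
    Polynomial.aeval z (chi S F.law z) ∈ extKer F.law S := by
  obtain ⟨n, a, b, rfl⟩ := exists_fin_sum_tmul z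
  let T := MvPolynomial (Fin n) A
  let yt : MvPolynomial (Fin n) A ⊗[A] B := ∑ i, (MvPolynomial.X i : MvPolynomial (Fin n) A) ⊗ₜ[A] b i
  have h1 : Polynomial.aeval yt (chi (MvPolynomial (Fin n) A) F.law yt) ∈
      extKer F.law (MvPolynomial (Fin n) A) :=
    hasPolyKer_mvPolynomial F.law n _ (inKer_aeval_chi F yt)
  have h2 := bc_mem_extKer F.law (MvPolynomial.aeval a : MvPolynomial (Fin n) A →ₐ[A] S) h1
  rw [bc_aeval_chi] at h2
  have h3 : bc B (MvPolynomial.aeval a : MvPolynomial (Fin n) A →ₐ[A] S) yt =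
      ∑ i, a i ⊗ₜ[A] b i := by
    simp only [yt]
    rw [map_sum]
    refine Finset.sum_congr rfl fun i _ => ?_
    rw [bc_tmul, MvPolynomial.aeval_X]
  rw [h3] at h2
  exact h2

lemma Fh_tmul_one (s : S) : Fh F.law S (s ⊗ₜ[A] (1 : B)) = s ^ d := by
  have h3 : s ⊗ₜ[A] (1 : B) = s • (1 : S ⊗[A] B) := by
    rw [Algebra.TensorProduct.one_def, TensorProduct.smul_tmul', smul_eq_mul, mul_one]
  rw [Fh, h3, F.homog S, (F.mult S).1, Algebra.TensorProduct.one_def,
    TensorProduct.smul_tmul', smul_eq_mul, mul_one, Algebra.TensorProduct.rid_tmul, one_smul]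

/-- If `z` does not perturb `-X`, then `(-z) ^ d` lies in the extended kernel. -/
theorem neg_pow_mem_extKer (z : S ⊗[A] B)
    (hz : F.law.toFun' (Polynomial S) (-((Polynomial.X : Polynomial S) ⊗ₜ[A] (1 : B)) +
      1 * toX S z) = F.law.toFun' (Polynomial S) (-((Polynomial.X : Polynomial S) ⊗ₜ[A] (1 : B)))) :
    (-z) ^ d ∈ extKer F.law S := by
  have h1 : chi S F.law z = (-Polynomial.X) ^ d := by
    rw [chi, yX]
    have h2 : toX S z - (Polynomial.X : Polynomial S) ⊗ₜ[A] (1 : B) =
        -((Polynomial.X : Polynomial S) ⊗ₜ[A] (1 : B)) + 1 * toX S z := by ring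
    rw [h2, (Fh_eq_iff _ _ _ _).mpr hz, ← TensorProduct.neg_tmul, Fh_tmul_one]
  have h3 := aeval_chi_mem_extKer F S z
  rw [h1, map_pow, map_neg, Polynomial.aeval_X] at h3
  exact h3

end Generic

section Main

variable {A : Type u} [CommRing A] {B : Type u} [CommRing B] [Algebra A B] {d : ℕ}
variable (F : PolLaw.MulLaw A B A d)
variable (A' : Type u) [CommRing A'] [Algebra A A']

lemma extKer_le_kerBC : extKer F.law A' ≤ PolLaw.kerBC F.law A' := by
  rw [extKer, Ideal.map_le_iff_le_comap]
  intro c hc R _ _ _ _ x w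
  have : (Algebra.TensorProduct.map (IsScalarTower.toAlgHom A A' R) (AlgHom.id A B))
      ((Algebra.TensorProduct.includeRight : B →ₐ[A] A' ⊗[A] B) c) = (1 : R) ⊗ₜ[A] c := by
    simp
  rw [this]
  exact hc R x w

lemma kerBC_le_radical : PolLaw.kerBC F.law A' ≤ (extKer F.law A').radical := by
  intro z hz
  refine ⟨d, ?_⟩
  have h1 := hz (Polynomial A') (-((Polynomial.X : Polynomial A') ⊗ₜ[A] (1 : B))) 1
  have h2 : IsScalarTower.toAlgHom A A' (Polynomial A') = Polynomial.CAlgHom := by
    apply AlgHom.ext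
    intro a
    rfl
  rw [h2] at h1
  have h3 := neg_pow_mem_extKer F A' z h1
  have h4 : z ^ d = (-1) ^ d * (-z) ^ d := by
    rw [← mul_pow]; simp
  rw [h4]
  exact Ideal.mul_mem_left _ _ h3

theorem radical_kerBC :
    (PolLaw.kerBC F.law A').radical =
      ((PolLaw.ker F.law).map
        (Algebra.TensorProduct.includeRight : B →ₐ[A] A' ⊗[A] B)).radical := by
  apply le_antisymm
  · rw [Ideal.radical_le_radical_iff]
    exact kerBC_le_radical F A'
  · exact Ideal.radical_mono (extKer_le_kerBC F A')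

end Main

end Groth.Agent.Lib.Helper6.ZC
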