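import Mathlib
import Groth.Prelude.Def_PolLaw
import Groth.Agent.Lib.Helper6.ZC.GenG
import Groth.Agent.Lib.Helper6.ZC.PolyBC
import Groth.Agent.Lib.Helper6.ZC.Coeff

/-!
# Iversen's map `Γ^{e+1}(B) ⊗ B → Γ^e(B) ⊗ B` is surjective (helper6)
-/

set_option autoImplicit false
set_option linter.unusedSectionVars false
set_option linter.unusedVariables false
set_option linter.unusedSimpArgs false
set_option linter.style.haveILetI false
set_option maxHeartbeats 400000
universe u
open scoped TensorProduct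
open Polynomial

namespace Groth.Agent.Lib.Helper6.ZC

section XiExtra

variable {A : Type u} [CommRing A] (S : Type u) [CommRing S] [Algebra A S]
variable (C : Type u) [CommRing C] [Algebra A C]

lemma Xi_toX (z : S ⊗[A] C) : Xi S C (toX S z) = Polynomial.C z := by
  induction z using TensorProduct.induction_on with
  | zero => simp [toX]
  | tmul s c =>
    rw [toX, Algebra.TensorProduct.map_tmul, Polynomial.CAlgHom_apply, AlgHom.id_apply, Xi_C_tmul]
  | add x y hx hy =>
    rw [toX] at hx hy ⊢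
    rw [map_add, map_add, hx, hy, Polynomial.C_add]

lemma Xi_coeff_zero (z : Polynomial S ⊗[A] C) :
    (Xi S C z).coeff 0 = bc C (ev0 (A := A) S) z := by
  induction z using TensorProduct.induction_on with
  | zero => simp
  | tmul q c =>
    rw [Xi_tmul, Polynomial.coeff_mul_C, Polynomial.coeff_map, bc_tmul, ev0_apply,
      Algebra.TensorProduct.algebraMap_apply, Algebra.TensorProduct.tmul_mul_tmul, mul_one,
      one_mul]
    rfl
  | add x y hx hy => rw [map_add, Polynomial.coeff_add, hx, hy, map_add]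

end XiExtra

section CoeffNat

variable {A : Type u} [CommRing A] {σ : Type} {N N' : Type u} [AddCommGroup N] [Module A N]
  [AddCommGroup N'] [Module A N']

lemma coeffN_lTensor (f : N →ₗ[A] N') (ν : σ →₀ ℕ) (z : MvPolynomial σ A ⊗[A] N) :
    coeffN ν (f.lTensor (MvPolynomial σ A) z) = f (coeffN ν z) := by
  induction z using TensorProduct.induction_on with
  | zero => simp
  | tmul q n => rw [LinearMap.lTensor_tmul, coeffN_tmul, coeffN_tmul, map_smul]
  | add x y hx hy => rw [map_add, map_add, hx, hy, map_add, map_add]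

end CoeffNat

section Main

variable {A : Type u} [CommRing A] {B Cd Ce : Type u} [CommRing B] [Algebra A B]
  [CommRing Cd] [Algebra A Cd] [CommRing Ce] [Algebra A Ce] {e : ℕ}
variable (γe : PolLaw.MulLaw A B Ce e) (W : Subalgebra A (Ce ⊗[A] B))

/-- `S ⊗ Ce → S ⊗ (Ce ⊗ B)`. -/
noncomputable def inL (S : Type u) [CommRing S] [Algebra A S] :
    S ⊗[A] Ce →ₐ[A] S ⊗[A] (Ce ⊗[A] B) :=
  Algebra.TensorProduct.map (AlgHom.id A S)
    (Algebra.TensorProduct.includeLeft : Ce →ₐ[A] Ce ⊗[A] B)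

/-- `S ⊗ B → S ⊗ (Ce ⊗ B)`. -/
noncomputable def inR (S : Type u) [CommRing S] [Algebra A S] :
    S ⊗[A] B →ₐ[A] S ⊗[A] (Ce ⊗[A] B) :=
  Algebra.TensorProduct.map (AlgHom.id A S)
    (Algebra.TensorProduct.includeRight : B →ₐ[A] Ce ⊗[A] B)

/-- The image of `S ⊗ W` in `S ⊗ (Ce ⊗ B)`. -/
noncomputable def VS (S : Type u) [CommRing S] [Algebra A S] : Subalgebra A (S ⊗[A] (Ce ⊗[A] B)) :=
  (Algebra.TensorProduct.map (AlgHom.id A S) W.val).range

/-- The hypothesis extracted from the characterisation of Iversen's map. -/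
def IvHyp : Prop :=
  ∀ (S : Type u) [CommRing S] [Algebra A S] (x : S ⊗[A] B),
    inL (B := B) S (γe.law.toFun' S x) * inR (Ce := Ce) S x ∈ VS W S

variable {γe W}

lemma inR_mem (hB : ∀ b : B, (1 : Ce) ⊗ₜ[A] b ∈ W) (S : Type u) [CommRing S] [Algebra A S]
    (p : S ⊗[A] B) : inR (Ce := Ce) S p ∈ VS W S := by
  induction p using TensorProduct.induction_on with
  | zero => rw [map_zero]; exact Subalgebra.zero_mem _
  | tmul s b =>
    refine ⟨s ⊗ₜ[A] ⟨(1 : Ce) ⊗ₜ[A] b, hB b⟩, ?_⟩
    simp [inR]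
  | add x y hx hy => rw [map_add]; exact Subalgebra.add_mem _ hx hy

/-- The key step. -/
theorem inL_mem (hB : ∀ b : B, (1 : Ce) ⊗ₜ[A] b ∈ W) (h : IvHyp γe W)
    (S : Type u) [CommRing S] [Algebra A S] (p : S ⊗[A] B) :
    inL (B := B) S (γe.law.toFun' S p) ∈ VS W S := by
  -- work over `S[s]`
  set x : Polynomial S ⊗[A] B := toX S p + (Polynomial.X : Polynomial S) ⊗ₜ[A] (1 : B) with hx
  set g := γe.law.toFun' (Polynomial S) x with hg
  set G := Xi S Ce g with hG
  have hE := h (Polynomial S) x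
  obtain ⟨E', hE'⟩ := (AlgHom.mem_range _).mp hE
  -- coefficients of `Xi` of the element lie in `VS W S`
  have hcoef : ∀ k, (Xi S (Ce ⊗[A] B) (inL (B := B) (Polynomial S) g *
      inR (Ce := Ce) (Polynomial S) x)).coeff k ∈ VS W S := by
    intro k
    rw [← hE']
    have h1 := Xi_natural S W.val E'
    rw [← h1, Polynomial.coeff_map]
    exact ⟨_, rfl⟩
  have hXiL : Xi S (Ce ⊗[A] B) (inL (B := B) (Polynomial S) g) =
      Polynomial.map ((inL (A := A) (B := B) (Ce := Ce) S :
        S ⊗[A] Ce →ₐ[A] S ⊗[A] (Ce ⊗[A] B)) : S ⊗[A] Ce →+* S ⊗[A] (Ce ⊗[A] B)) G :=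
    (Xi_natural S (Algebra.TensorProduct.includeLeft : Ce →ₐ[A] Ce ⊗[A] B) g).symm
  have hXiR : Xi S (Ce ⊗[A] B) (inR (Ce := Ce) (Polynomial S) x) =
      Polynomial.C (inR (Ce := Ce) S p) + Polynomial.X := by
    have h2 := (Xi_natural S (Algebra.TensorProduct.includeRight : B →ₐ[A] Ce ⊗[A] B) x).symm
    refine h2.trans ?_
    rw [hx, map_add, Xi_toX, Xi_X_tmul_one, Polynomial.map_add, Polynomial.map_C,
      Polynomial.map_X]
    rfl
  have hrel : ∀ k, inL (B := B) S (G.coeff (k + 1)) * inR (Ce := Ce) S p +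
      inL (B := B) S (G.coeff k) ∈ VS W S := by
    intro k
    have h3 := hcoef (k + 1)
    rw [map_mul, hXiL, hXiR, mul_add, Polynomial.coeff_add, Polynomial.coeff_mul_C,
      Polynomial.coeff_mul_X, Polynomial.coeff_map, Polynomial.coeff_map] at h3
    exact h3
  have hall : ∀ j k, G.natDegree + 1 ≤ k + j → inL (B := B) S (G.coeff k) ∈ VS W S := by
    intro j
    induction j with
    | zero =>
      intro k hk
      rw [Polynomial.coeff_eq_zero_of_natDegree_lt (by omega), map_zero]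
      exact Subalgebra.zero_mem _
    | succ j ih =>
      intro k hk
      have h4 := ih (k + 1) (by omega)
      have h5 := hrel k
      have h6 := Subalgebra.mul_mem _ h4 (inR_mem hB S p)
      have h7 := Subalgebra.sub_mem _ h5 h6
      simpa using h7
  have h0 := hall (G.natDegree + 1) 0 (by omega)
  have h8 : G.coeff 0 = γe.law.toFun' S p := by
    rw [hG, Xi_coeff_zero, hg]
    have h9 := γe.law.isCompat_apply' (ev0 (A := A) S) x
    rw [rTensor_eq_map, rTensor_eq_map] at h9
    refine h9.trans ?_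
    congr 1
    show bc B (ev0 S) x = p
    rw [hx, map_add, bc_tmul, ev0_X, TensorProduct.zero_tmul, add_zero, toX]
    show bc B (ev0 S) (bc B _ p) = p
    rw [bc_comp]
    have : (ev0 (A := A) S).comp (Polynomial.CAlgHom (R := A) (A := S)) = AlgHom.id A S := by
      apply AlgHom.ext
      intro t
      simp
    rw [this, bc_id]
  rw [h8] at h0
  exact h0

/-- The subalgebra of `Ce` of elements `c` with `c ⊗ 1 ∈ W`. -/
noncomputable def C₀W (W : Subalgebra A (Ce ⊗[A] B)) : Subalgebra A Ce :=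
  W.comap (Algebra.TensorProduct.includeLeft : Ce →ₐ[A] Ce ⊗[A] B)

lemma mem_C₀W {c : Ce} : c ∈ C₀W W ↔ c ⊗ₜ[A] (1 : B) ∈ W := Iff.rfl

lemma map_eq_lTensor {X Y : Type u} [CommRing X] [Algebra A X] [CommRing Y] [Algebra A Y]
    (f : X →ₐ[A] Y) (S : Type u) [CommRing S] [Algebra A S] (z : S ⊗[A] X) :
    Algebra.TensorProduct.map (AlgHom.id A S) f z = f.toLinearMap.lTensor S z := by
  induction z using TensorProduct.induction_on with
  | zero => simp
  | tmul a b => rfl
  | add a b ha hb => rw [map_add, map_add, ha, hb]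

/-- From membership of `inL z` in the image of `T ⊗ W` to membership of `z` in `T ⊗ C₀`. -/
lemma mem_range_of_inL_mem {n : ℕ} (z : MvPolynomial (Fin n) A ⊗[A] Ce)
    (hz : inL (B := B) (MvPolynomial (Fin n) A) z ∈ VS W (MvPolynomial (Fin n) A)) :
    z ∈ LinearMap.range ((C₀W W).val.toLinearMap.lTensor (MvPolynomial (Fin n) A)) := by
  classical
  obtain ⟨z', hz'⟩ := (AlgHom.mem_range _).mp hz
  have hcoef : ∀ ν, coeffN ν z ∈ C₀W W := by
    intro ν
    rw [mem_C₀W]
    have h1 : coeffN ν (inL (B := B) (MvPolynomial (Fin n) A) z) = (coeffN ν z) ⊗ₜ[A] (1 : B) := by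
      rw [inL, map_eq_lTensor, coeffN_lTensor]
      rfl
    rw [← h1, ← hz', map_eq_lTensor, coeffN_lTensor]
    exact (coeffN ν z').2
  refine ⟨∑ ν ∈ (coeffs z).support, (MvPolynomial.monomial ν (1 : A)) ⊗ₜ[A]
    (⟨coeffN ν z, hcoef ν⟩ : C₀W W), ?_⟩
  rw [map_sum]
  conv_rhs => rw [eq_sum_coeffs z]
  refine Finset.sum_congr rfl fun ν _ => ?_
  rw [LinearMap.lTensor_tmul, coeffs_apply]
  rfl

/-- Surjectivity criterion. -/
theorem range_eq_top_of_ivHyp (hγe : PolLaw.IsGammaD γe)
    (hB : ∀ b : B, (1 : Ce) ⊗ₜ[A] b ∈ W) (h : IvHyp γe W) : W = ⊤ := by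
  have hfac : FactorsOnPoly γe (C₀W W) := by
    intro n p
    exact mem_range_of_inL_mem _ (inL_mem hB h _ p)
  have htop := eq_top_of_factorsOnPoly hfac hγe
  rw [eq_top_iff]
  intro x _
  induction x using TensorProduct.induction_on with
  | zero => exact Subalgebra.zero_mem _
  | tmul c b =>
    have h1 : c ⊗ₜ[A] (1 : B) ∈ W := by
      rw [← mem_C₀W, htop]
      exact Algebra.mem_top
    have h2 : c ⊗ₜ[A] b = (c ⊗ₜ[A] (1 : B)) * ((1 : Ce) ⊗ₜ[A] b) := by
      rw [Algebra.TensorProduct.tmul_mul_tmul, mul_one, one_mul]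
    rw [h2]
    exact Subalgebra.mul_mem _ h1 (hB b)
  | add x y hx hy => exact Subalgebra.add_mem _ (hx Algebra.mem_top) (hy Algebra.mem_top)

end Main

section Final

variable {A B Cd Ce : Type u} [CommRing A] [CommRing B] [Algebra A B]
    [CommRing Cd] [Algebra A Cd] [CommRing Ce] [Algebra A Ce] (e : ℕ)

/-- `S13399`. -/
theorem iversenMap_surjective
    (γd : PolLaw.MulLaw A B Cd (e + 1))
    (γe : PolLaw.MulLaw A B Ce e) (hγe : PolLaw.IsGammaD γe)
    (ω : Cd ⊗[A] B →ₐ[A] Ce ⊗[A] B)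
    (hω : ∀ (S : Type u) [CommSemiring S] [Algebra A S] (x y : S ⊗[A] B),
      ω.toLinearMap.lTensor S
        ((Algebra.TensorProduct.includeLeft : Cd →ₐ[A] Cd ⊗[A] B).toLinearMap.lTensor S
            (γd.law.toFun' S x) *
          (Algebra.TensorProduct.includeRight : B →ₐ[A] Cd ⊗[A] B).toLinearMap.lTensor S y) =
      (Algebra.TensorProduct.includeLeft : Ce →ₐ[A] Ce ⊗[A] B).toLinearMap.lTensor S
          (γe.law.toFun' S x) *
        (Algebra.TensorProduct.includeRight : B →ₐ[A] Ce ⊗[A] B).toLinearMap.lTensor S (x * y)) :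
    Function.Surjective ω := by
  rw [← AlgHom.range_eq_top]
  apply range_eq_top_of_ivHyp (γe := γe) hγe
  · intro b
    refine ⟨(1 : Cd) ⊗ₜ[A] b, ?_⟩
    have h1 := hω A 1 ((1 : A) ⊗ₜ[A] b)
    rw [(γd.mult A).1, (γe.mult A).1, one_mul] at h1
    have h2 : (Algebra.TensorProduct.includeLeft : Cd →ₐ[A] Cd ⊗[A] B).toLinearMap.lTensor A
        (1 : A ⊗[A] Cd) = 1 := by
      rw [Algebra.TensorProduct.one_def, LinearMap.lTensor_tmul]
      simp [Algebra.TensorProduct.one_def]
    have h3 : (Algebra.TensorProduct.includeLeft : Ce →ₐ[A] Ce ⊗[A] B).toLinearMap.lTensor A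
        (1 : A ⊗[A] Ce) = 1 := by
      rw [Algebra.TensorProduct.one_def, LinearMap.lTensor_tmul]
      simp [Algebra.TensorProduct.one_def]
    rw [h2, h3, one_mul, one_mul, LinearMap.lTensor_tmul, LinearMap.lTensor_tmul,
      LinearMap.lTensor_tmul] at h1
    have h4 := congrArg (TensorProduct.lid A (Ce ⊗[A] B)) h1
    simpa using h4
  · intro S _ _ x
    have h1 := hω S x 1
    rw [mul_one] at h1
    have h2 : (Algebra.TensorProduct.includeRight : B →ₐ[A] Cd ⊗[A] B).toLinearMap.lTensor S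
        (1 : S ⊗[A] B) = 1 := by
      rw [Algebra.TensorProduct.one_def, LinearMap.lTensor_tmul]
      simp [Algebra.TensorProduct.one_def]
    rw [h2, mul_one] at h1
    rw [inL, inR, map_eq_lTensor, map_eq_lTensor, ← h1]
    have h3 : ω.toLinearMap = ω.range.val.toLinearMap ∘ₗ ω.rangeRestrict.toLinearMap := by
      ext c
      rfl
    rw [h3, LinearMap.lTensor_comp, LinearMap.comp_apply, ← map_eq_lTensor]
    exact ⟨_, rfl⟩

end Final

end Groth.Agent.Lib.Helper6.ZC
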