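import Mathlib
import Groth.Prelude.Def_PolLaw
import Groth.Prelude.Def_SymTen
import Groth.Agent.Lib.Helper6.ZC.Univ
import Groth.Agent.Lib.Helper6.ZC.BCRad
import Groth.Agent.Lib.Helper6.ZC.Iversen

/-!
# General expansion and naturality of the tensor power law; symmetrisation (helper6)
-/

set_option autoImplicit false
set_option linter.unusedSectionVars false
set_option linter.unusedVariables false
set_option linter.unusedSimpArgs false
set_option linter.style.haveILetI false
set_option maxHeartbeats 400000
universe u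
open scoped TensorProduct
open MvPolynomial

namespace Groth.Agent.Lib.Helper6.ZC

section PwGen

variable {A : Type u} [CommRing A] {B : Type u} [CommRing B] [Algebra A B] (d : ℕ)

lemma prod_tmul_ιk {S : Type u} [CommSemiring S] [Algebra A S] (s : Fin d → S) (b : Fin d → B) :
    ∏ k, (s k ⊗ₜ[A] ιk A B d k (b k)) = (∏ k, s k) ⊗ₜ[A] PiTensorProduct.tprod A b := by
  rw [← prod_ιk]
  have : ∀ (t : Finset (Fin d)), ∏ k ∈ t, (s k ⊗ₜ[A] ιk A B d k (b k)) =
      (∏ k ∈ t, s k) ⊗ₜ[A] (∏ k ∈ t, ιk A B d k (b k)) := by
    intro t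
    induction t using Finset.induction_on with
    | empty => simp [Algebra.TensorProduct.one_def]
    | insert a t ha ih =>
      rw [Finset.prod_insert ha, Finset.prod_insert ha, Finset.prod_insert ha, ih,
        Algebra.TensorProduct.tmul_mul_tmul]
  exact this Finset.univ

/-- Expansion of the tensor power law on an arbitrary finite combination. -/
theorem pw_sum_tmul_gen {S : Type u} [CommSemiring S] [Algebra A S] (n : ℕ) (s : Fin n → S)
    (b : Fin n → B) :
    (pw A B d).toFun' S (∑ j, s j ⊗ₜ[A] b j) =
      ∑ c : Fin d → Fin n, (∏ i, s (c i)) ⊗ₜ[A] PiTensorProduct.tprod A (fun i => b (c i)) := by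
  rw [pw_toFun']
  simp only [map_sum, ιS_tmul]
  rw [Finset.prod_univ_sum, Fintype.piFinset_univ]
  refine Finset.sum_congr rfl fun c _ => ?_
  exact prod_tmul_ιk d (fun k => s (c k)) (fun k => b (c k))

variable {B' : Type u} [CommRing B'] [Algebra A B']

lemma tmap_ιk (π : B →ₐ[A] B') (k : Fin d) (b : B) :
    SymTen.tmap A d π (ιk A B d k b) = ιk A B' d k (π b) := by
  simp only [ιk, PiTensorProduct.singleAlgHom_apply, SymTen.tmap_tprod]
  congr 1
  funext i
  by_cases h : i = k
  · subst h
    simp
  · simp [Pi.mulSingle_eq_of_ne h]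

/-- Naturality of the tensor power law. -/
theorem pw_natural (π : B →ₐ[A] B') (S : Type u) [CommSemiring S] [Algebra A S] (x : S ⊗[A] B) :
    (SymTen.tmap A d π).toLinearMap.lTensor S ((pw A B d).toFun' S x) =
      (pw A B' d).toFun' S (π.toLinearMap.lTensor S x) := by
  rw [pw_toFun', pw_toFun', PolLaw.lTensor_algHom_apply, map_prod]
  refine Finset.prod_congr rfl fun k _ => ?_
  rw [PolLaw.lTensor_algHom_apply]
  induction x using TensorProduct.induction_on with
  | zero => simp
  | tmul s b =>
    rw [ιS_tmul, Algebra.TensorProduct.map_tmul, Algebra.TensorProduct.map_tmul, ιS_tmul, tmap_ιk]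
  | add x y hx hy => simp only [map_add, hx, hy]

lemma tmap_surjective (π : B →ₐ[A] B') (hπ : Function.Surjective π) :
    Function.Surjective (SymTen.tmap A d π) := by
  intro z
  induction z using PiTensorProduct.induction_on with
  | smul_tprod r b =>
    refine ⟨r • PiTensorProduct.tprod A (fun i => Function.surjInv hπ (b i)), ?_⟩
    rw [map_smul, SymTen.tmap_tprod]
    simp only [Function.surjInv_eq hπ]
  | add x y hx hy =>
    obtain ⟨x', rfl⟩ := hx
    obtain ⟨y', rfl⟩ := hy
    exact ⟨x' + y', map_add _ _ _⟩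

end PwGen

section Sym

variable (A : Type u) [CommRing A] (B : Type u) [CommRing B] [Algebra A B] (d : ℕ)

lemma perm_perm (σ τ : Equiv.Perm (Fin d)) (z : Tp A B d) :
    SymTen.perm A B d τ (SymTen.perm A B d σ z) = SymTen.perm A B d (τ * σ) z := by
  induction z using PiTensorProduct.induction_on with
  | smul_tprod r f =>
    simp only [map_smul, SymTen.perm_tprod]
    rfl
  | add x y hx hy => simp only [map_add, hx, hy]

/-- The symmetrisation operator on the tensor power. -/
noncomputable def NT : Tp A B d →ₗ[A] Tp A B d :=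
  ∑ σ : Equiv.Perm (Fin d), (SymTen.perm A B d σ).toLinearMap

lemma NT_apply (z : Tp A B d) : NT A B d z = ∑ σ : Equiv.Perm (Fin d), SymTen.perm A B d σ z := by
  simp [NT, LinearMap.sum_apply]

lemma NT_mem (z : Tp A B d) : NT A B d z ∈ SymTen.TS A B d := by
  intro τ
  rw [← SymTen.perm_apply, NT_apply, map_sum]
  simp only [perm_perm]
  exact Fintype.sum_equiv (Equiv.mulLeft τ) _ _ (fun σ => rfl)

/-- The symmetrisation operator with values in the symmetric tensors. -/
noncomputable def Nsym : Tp A B d →ₗ[A] SymTen.TS A B d where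
  toFun z := ⟨NT A B d z, NT_mem A B d z⟩
  map_add' x y := Subtype.ext (map_add _ x y)
  map_smul' a x := Subtype.ext (map_smul _ a x)

lemma Nsym_coe (z : Tp A B d) : ((Nsym A B d z : SymTen.TS A B d) : Tp A B d) = NT A B d z := rfl

lemma NT_of_mem {z : Tp A B d} (hz : z ∈ SymTen.TS A B d) : NT A B d z = d.factorial • z := by
  rw [NT_apply]
  have : ∀ σ : Equiv.Perm (Fin d), SymTen.perm A B d σ z = z := fun σ => by
    rw [SymTen.perm_apply]; exact hz σ
  simp only [this]
  rw [Finset.sum_const, Finset.card_univ, Fintype.card_perm, Fintype.card_fin]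

lemma Nsym_val (t : SymTen.TS A B d) : Nsym A B d (t : Tp A B d) = d.factorial • t := by
  apply Subtype.ext
  rw [Nsym_coe, NT_of_mem A B d t.2]
  simp

variable {B} {B' : Type u} [CommRing B'] [Algebra A B']

lemma tmap_NT (π : B →ₐ[A] B') (z : Tp A B d) :
    SymTen.tmap A d π (NT A B d z) = NT A B' d (SymTen.tmap A d π z) := by
  rw [NT_apply, NT_apply, map_sum]
  refine Finset.sum_congr rfl fun σ _ => ?_
  rw [SymTen.perm_apply, SymTen.perm_apply, SymTen.tmap_reindex]

end Sym

end Groth.Agent.Lib.Helper6.ZC
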