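import Mathlib
import Groth.Prelude.Def_PolLaw
import Groth.Prelude.Def_SymTen
import Groth.Agent.Lib.Helper6.ZC.PwGen
import Groth.Agent.Lib.Helper6.ZC.GammaSurj
import Groth.Agent.Lib.Helper6.ZC.CHGen

/-!
# `d!` kills the kernel and cokernel of `Γ^d(B) → TS^d(B)` (helper6)
-/

set_option autoImplicit false
set_option linter.unusedSectionVars false
set_option linter.unusedVariables false
set_option linter.unusedSimpArgs false
set_option linter.style.haveILetI false
set_option maxHeartbeats 400000
universe u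
open scoped TensorProduct
open MvPolynomial

namespace Groth.Agent.Lib.Helper6.ZC

section Main

variable {A B C : Type u} [CommRing A] [CommRing B] [Algebra A B] [CommRing C] [Algebra A C]
  (d : ℕ) (γ : PolLaw.MulLaw A B C d) (φ : C →ₐ[A] SymTen.TS A B d)

/-- The characterising property of the canonical map `Γ^d(B) → TS^d(B)`. -/
def HPhi : Prop :=
  ∀ (S : Type u) [CommSemiring S] [Algebra A S] (n : ℕ) (s : Fin n → S) (b : Fin n → B),
    ((SymTen.TS A B d).val.comp φ).toLinearMap.lTensor S (γ.law.toFun' S (∑ j, s j ⊗ₜ[A] b j)) =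
      ∑ c : Fin d → Fin n, (∏ i, s (c i)) ⊗ₜ[A] PiTensorProduct.tprod A (fun i => b (c i))

variable {d γ φ}

lemma exists_fin_sum_tmul_semi {S : Type u} [CommSemiring S] [Algebra A S] (x : S ⊗[A] B) :
    ∃ (n : ℕ) (m : Fin n → S) (b : Fin n → B), x = ∑ i, m i ⊗ₜ[A] b i := by
  obtain ⟨T, h⟩ := TensorProduct.exists_finset x
  refine ⟨T.card, fun i => (T.equivFin.symm i).1.1, fun i => (T.equivFin.symm i).1.2, ?_⟩
  rw [h, ← Finset.sum_coe_sort T]
  exact (Equiv.sum_comp T.equivFin.symm (fun i : T => i.1.1 ⊗ₜ[A] i.1.2)).symm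

lemma val_phi_gamma (hφ : HPhi d γ φ) (S : Type u) [CommSemiring S] [Algebra A S] (x : S ⊗[A] B) :
    ((SymTen.TS A B d).val.comp φ).toLinearMap.lTensor S (γ.law.toFun' S x) =
      (pw A B d).toFun' S x := by
  obtain ⟨n, s, b, rfl⟩ := exists_fin_sum_tmul_semi x
  rw [hφ S n s b, pw_sum_tmul_gen]

variable {P : Type u} [CommRing P] [Algebra A P] {I : Type u} [DecidableEq I]
  (e : Module.Basis I A P) (π : P →ₐ[A] B)

variable (d γ) in
/-- The map `TS^d(P) → C` induced by the law `γ ∘ π` on a free cover `P` of `B`. -/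
noncomputable def fC : SymTen.TS A P d →ₐ[A] C := fA d e (γ.precomp π)

lemma postcomp_fC :
    PolLaw.postcomp (fC d γ e π).toLinearMap (τ d e).law = (γ.precomp π).law :=
  postcomp_fA d e _

lemma fC_surjective (hγ : PolLaw.IsGammaD γ) (hπ : Function.Surjective π) :
    Function.Surjective (fC d γ e π) :=
  surjective_of_postcomp_eq_precomp (τ d e).law γ hγ π hπ (fC d γ e π) (postcomp_fC e π)

lemma lTensor_fC_τ (S : Type u) [CommSemiring S] [Algebra A S] (x : S ⊗[A] P) :
    (fC d γ e π).toLinearMap.lTensor S ((τlaw d e).toFun' S x) =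
      γ.law.toFun' S (π.toLinearMap.lTensor S x) := by
  have h := congrArg (fun G : P →ₚₗ[A] C => G.toFun' S x) (postcomp_fC (γ := γ) e π)
  exact h

/-- `φ ∘ f` is the functorial map `TS^d(P) → TS^d(B)`. -/
lemma phi_fC (hφ : HPhi d γ φ) (t : SymTen.TS A P d) :
    ((φ (fC d γ e π t) : SymTen.TS A B d) : Tp A B d) = SymTen.tmap A d π (t : Tp A P d) := by
  have h : ((SymTen.TS A B d).val.comp φ).toLinearMap ∘ₗ (fC d γ e π).toLinearMap =
      (SymTen.tmap A d π).toLinearMap ∘ₗ (SymTen.TS A P d).val.toLinearMap := by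
    apply linearMap_ext_of_postcomp d e
    ext S _ _ x
    show (((SymTen.TS A B d).val.comp φ).toLinearMap ∘ₗ (fC d γ e π).toLinearMap).lTensor S
        ((τlaw d e).toFun' S x) =
      ((SymTen.tmap A d π).toLinearMap ∘ₗ (SymTen.TS A P d).val.toLinearMap).lTensor S
        ((τlaw d e).toFun' S x)
    rw [LinearMap.lTensor_comp, LinearMap.comp_apply, lTensor_fC_τ, val_phi_gamma hφ,
      LinearMap.lTensor_comp, LinearMap.comp_apply, val_τlaw, pw_natural]
  exact DFunLike.congr_fun h t

include e in
/-- `d!` kills the cokernel. -/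
theorem factorial_smul_mem_range (hφ : HPhi d γ φ) (hπ : Function.Surjective π)
    (y : SymTen.TS A B d) : d.factorial • y ∈ φ.range := by
  obtain ⟨z, hz⟩ := tmap_surjective d π hπ (y : Tp A B d)
  rw [AlgHom.mem_range]
  refine ⟨fC d γ e π (Nsym A P d z), ?_⟩
  apply Subtype.ext
  rw [phi_fC e π hφ, Nsym_coe, tmap_NT, hz, NT_of_mem A B d y.2]
  simp

/-- The exponent `(1,…,1)`. -/
noncomputable def ν₁ (d : ℕ) : Fin d →₀ ℕ := typ (fun i : Fin d => i)

lemma prod_X_eq_monomial (c : Fin d → Fin d) :
    ∏ i, (X (c i) : MvPolynomial (Fin d) A) = monomial (typ c) 1 := by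
  rw [prod_eq_prod_typ (fun i => (X i : MvPolynomial (Fin d) A)) c, prod_X_pow_eq_monomial]

lemma sum_perm_eq {N : Type*} [AddCommMonoid N] (g : (Fin d → Fin d) → N) :
    ∑ σ : Equiv.Perm (Fin d), g (fun i => σ.symm i) =
      ∑ c : Fin d → Fin d, if typ c = ν₁ d then g c else 0 := by
  rw [← Finset.sum_filter]
  refine Finset.sum_bij (fun σ _ => fun i => σ.symm i) ?_ ?_ ?_ ?_
  · intro σ _
    rw [Finset.mem_filter]
    refine ⟨Finset.mem_univ _, ?_⟩
    exact typ_comp_perm (fun i : Fin d => i) σ.symm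
  · intro σ _ σ' _ h
    have : σ.symm = σ'.symm := Equiv.ext fun i => congrFun h i
    exact Equiv.symm_bijective.injective this
  · intro c hc
    rw [Finset.mem_filter] at hc
    obtain ⟨σ, hσ⟩ := exists_perm_of_typ_eq (fun i : Fin d => i) c hc.2.symm
    refine ⟨σ.symm, Finset.mem_univ _, ?_⟩
    rw [hσ]
    funext i
    simp
  · intro σ _
    rfl

/-- The symmetrisation of a pure tensor as a coefficient of the universal law. -/
lemma Nsym_tprod (p : Fin d → P) :
    Nsym A P d (PiTensorProduct.tprod A p) =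
      coeffN (ν₁ d) ((τlaw d e).toFun' (MvPolynomial (Fin d) A)
        (∑ i, (X i : MvPolynomial (Fin d) A) ⊗ₜ[A] p i)) := by
  classical
  apply Subtype.ext
  have h1 := coeffN_lTensor (SymTen.TS A P d).val.toLinearMap (ν₁ d)
    ((τlaw d e).toFun' (MvPolynomial (Fin d) A) (∑ i, (X i : MvPolynomial (Fin d) A) ⊗ₜ[A] p i))
  rw [val_τlaw, pw_sum_tmul_gen] at h1
  show NT A P d (PiTensorProduct.tprod A p) = (SymTen.TS A P d).val.toLinearMap _
  rw [← h1, NT_apply, map_sum]
  simp only [SymTen.perm_tprod, prod_X_eq_monomial, coeffN_monomial_tmul, one_smul]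
  exact sum_perm_eq (fun c => PiTensorProduct.tprod A (fun i => p (c i)))

variable (d γ) in
/-- The full polarisation of `γ`. -/
noncomputable def Pol (b : Fin d → B) : C :=
  coeffN (ν₁ d) (γ.law.toFun' (MvPolynomial (Fin d) A)
    (∑ i, (X i : MvPolynomial (Fin d) A) ⊗ₜ[A] b i))

lemma fC_Nsym_tprod (p : Fin d → P) :
    fC d γ e π (Nsym A P d (PiTensorProduct.tprod A p)) = Pol d γ (fun i => π (p i)) := by
  rw [Nsym_tprod e]
  have h := coeffN_lTensor (fC d γ e π).toLinearMap (ν₁ d)
    ((τlaw d e).toFun' (MvPolynomial (Fin d) A) (∑ i, (X i : MvPolynomial (Fin d) A) ⊗ₜ[A] p i))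
  rw [lTensor_fC_τ] at h
  rw [Pol]
  rw [map_sum] at h
  simp only [LinearMap.lTensor_tmul] at h
  exact h.symm

variable (d γ) in
/-- The linear map `Θ = f ∘ N`. -/
noncomputable def ΘC : Tp A P d →ₗ[A] C := (fC d γ e π).toLinearMap ∘ₗ Nsym A P d

lemma ΘC_tprod (p : Fin d → P) :
    ΘC d γ e π (PiTensorProduct.tprod A p) = Pol d γ (fun i => π (p i)) :=
  fC_Nsym_tprod e π p

include e in
lemma Pol_update_add (hπ : Function.Surjective π) (b : Fin d → B) (j : Fin d) (x y : B) :
    Pol d γ (Function.update b j (x + y)) =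
      Pol d γ (Function.update b j x) + Pol d γ (Function.update b j y) := by
  set sec := Function.surjInv hπ with hsec
  have hs : ∀ b, π (sec b) = b := Function.surjInv_eq hπ
  have key : ∀ q : P, Pol d γ (Function.update b j (π q)) =
      ΘC d γ e π (PiTensorProduct.tprod A (Function.update (fun i => sec (b i)) j q)) := by
    intro q
    rw [ΘC_tprod]
    congr 1
    funext i
    by_cases h : i = j
    · subst h; simp
    · simp [Function.update_of_ne h, hs]
  have hx := key (sec x)
  have hy := key (sec y)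
  have hxy := key (sec x + sec y)
  rw [hs] at hx hy
  rw [map_add, hs, hs] at hxy
  rw [hxy, hx, hy, (PiTensorProduct.tprod A).map_update_add, map_add]

include e in
lemma Pol_update_smul (hπ : Function.Surjective π) (b : Fin d → B) (j : Fin d) (a : A) (x : B) :
    Pol d γ (Function.update b j (a • x)) = a • Pol d γ (Function.update b j x) := by
  set sec := Function.surjInv hπ with hsec
  have hs : ∀ b, π (sec b) = b := Function.surjInv_eq hπ
  have key : ∀ q : P, Pol d γ (Function.update b j (π q)) =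
      ΘC d γ e π (PiTensorProduct.tprod A (Function.update (fun i => sec (b i)) j q)) := by
    intro q
    rw [ΘC_tprod]
    congr 1
    funext i
    by_cases h : i = j
    · subst h; simp
    · simp [Function.update_of_ne h, hs]
  have hx := key (sec x)
  have hax := key (a • sec x)
  rw [hs] at hx
  rw [map_smul, hs] at hax
  rw [hax, hx, (PiTensorProduct.tprod A).map_update_smul, map_smul]

variable (d γ) in
/-- The polarisation as a multilinear map. -/
noncomputable def PolM (hπ : Function.Surjective π) : MultilinearMap A (fun _ : Fin d => B) C where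
  toFun := Pol d γ
  map_update_add' := by
    intro _ b j x y
    convert Pol_update_add e π hπ b j x y
  map_update_smul' := by
    intro _ b j a x
    convert Pol_update_smul e π hπ b j a x

variable (d γ) in
/-- The linear map `T^d(B) → C` induced by the polarisation. -/
noncomputable def ψC (hπ : Function.Surjective π) : Tp A B d →ₗ[A] C :=
  PiTensorProduct.lift (PolM d γ e π hπ)

lemma ΘC_eq (hπ : Function.Surjective π) (z : Tp A P d) :
    ΘC d γ e π z = ψC d γ e π hπ (SymTen.tmap A d π z) := by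
  induction z using PiTensorProduct.induction_on with
  | smul_tprod r p =>
    rw [map_smul, map_smul, map_smul, ΘC_tprod, SymTen.tmap_tprod, ψC, PiTensorProduct.lift.tprod]
    rfl
  | add x y hx hy => rw [map_add, map_add, map_add, hx, hy]

include e in
/-- `d!` kills the kernel. -/
theorem factorial_smul_eq_zero (hγ : PolLaw.IsGammaD γ) (hφ : HPhi d γ φ)
    (hπ : Function.Surjective π) (x : C) (hx : φ x = 0) : d.factorial • x = 0 := by
  obtain ⟨t, rfl⟩ := fC_surjective e π hγ hπ x
  have h1 : d.factorial • fC d γ e π t = ΘC d γ e π (t : Tp A P d) := by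
    show _ = fC d γ e π (Nsym A P d (t : Tp A P d))
    rw [Nsym_val, map_nsmul]
  rw [h1, ΘC_eq e π hπ, ← phi_fC e π hφ, hx]
  simp

end Main

section Final

variable {A B C : Type u} [CommRing A] [CommRing B] [Algebra A B] [CommRing C] [Algebra A C]

/-- `d!` kills kernel and cokernel of the canonical map `Γ^d(B) → TS^d(B)`. -/
theorem factorial_smul_ker_coker (d : ℕ) (γ : PolLaw.MulLaw A B C d) (hγ : PolLaw.IsGammaD γ)
    (φ : C →ₐ[A] SymTen.TS A B d) (hφ : HPhi d γ φ) :
    (∀ x : C, φ x = 0 → d.factorial • x = 0) ∧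
      (∀ y : SymTen.TS A B d, d.factorial • y ∈ φ.range) := by
  classical
  exact ⟨factorial_smul_eq_zero (MvPolynomial.basisMonomials B A) (πB A B) hγ hφ
      (πB_surjective A B),
    factorial_smul_mem_range (MvPolynomial.basisMonomials B A) (πB A B) hφ (πB_surjective A B)⟩

end Final

end Groth.Agent.Lib.Helper6.ZC
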