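import Mathlib
import Groth.Prelude.Def_PolLaw
import Groth.Prelude.Def_SymTen
import Groth.Agent.Lib.Helper6.ZC.Lazard3
import Groth.Agent.Lib.Helper6.ZC.Univ
import Groth.Agent.Lib.Helper6.ZC.Trace
import Groth.Agent.Lib.Helper6.ZC.Ker

/-!
# Symmetric tensors of a flat algebra (helper6)

Linear functoriality of `TS^d`, and the three facts needed to identify `TS^d(B)` with `Γ^d(B)` for
flat `B`.
-/

set_option autoImplicit false
set_option linter.unusedSectionVars false
set_option linter.unusedVariables false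
set_option linter.unusedSimpArgs false
set_option linter.style.haveILetI false
set_option maxHeartbeats 400000
universe u
open scoped TensorProduct

namespace Groth.Agent.Lib.Helper6.ZC

section Lin

variable {A : Type u} [CommRing A] {L L' L'' : Type u} [CommRing L] [Algebra A L] [CommRing L']
  [Algebra A L'] [CommRing L''] [Algebra A L''] (d : ℕ)

/-- Linear functoriality of symmetric tensors. -/
noncomputable def TSlin (g : L →ₗ[A] L') : SymTen.TS A L d →ₗ[A] SymTen.TS A L' d where
  toFun t := ⟨Tm A d g t.1, fun σ => by rw [← Tm_reindex, t.2 σ]⟩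
  map_add' x y := Subtype.ext (map_add (Tm A d g) x.1 y.1)
  map_smul' a x := Subtype.ext (map_smul (Tm A d g) a x.1)

lemma TSlin_coe (g : L →ₗ[A] L') (t : SymTen.TS A L d) :
    ((TSlin d g t : SymTen.TS A L' d) : Tp A L' d) = Tm A d g t.1 := rfl

lemma val_comp_TSlin (g : L →ₗ[A] L') :
    (SymTen.TS A L' d).val.toLinearMap ∘ₗ TSlin d g =
      Tm A d g ∘ₗ (SymTen.TS A L d).val.toLinearMap := rfl

lemma tmap_eq_Tm (π : L →ₐ[A] L') (t : Tp A L d) :
    SymTen.tmap A d π t = Tm A d π.toLinearMap t := by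
  induction t using PiTensorProduct.induction_on with
  | smul_tprod r f => simp
  | add x y hx hy => simp only [map_add, hx, hy]

/-- Naturality of the tensor power law for linear maps. -/
lemma pw_Tm (g : L →ₗ[A] L') (S : Type u) [CommSemiring S] [Algebra A S] (x : S ⊗[A] L) :
    (Tm A d g).lTensor S ((pw A L d).toFun' S x) = (pw A L' d).toFun' S (g.lTensor S x) := by
  obtain ⟨n, s, b, rfl⟩ := exists_fin_sum_tmul_semi x
  rw [pw_sum_tmul_gen, map_sum, map_sum]
  simp only [LinearMap.lTensor_tmul, Tm_tprod]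
  rw [pw_sum_tmul_gen]

lemma precomp_isHomog {N : Type u} [AddCommGroup N] [Module A N] (F : L' →ₚₗ[A] N)
    (hF : PolLaw.IsHomog F d) (g : L →ₗ[A] L') : PolLaw.IsHomog (PolLaw.precomp F g) d := by
  intro S _ _ s x
  show F.toFun' S (g.lTensor S (s • x)) = s ^ d • F.toFun' S (g.lTensor S x)
  rw [lTensor_smul, hF S s]

lemma precomp_precomp {N : Type u} [AddCommGroup N] [Module A N] (F : L'' →ₚₗ[A] N)
    (g : L →ₗ[A] L') (h : L' →ₗ[A] L'') :
    PolLaw.precomp (PolLaw.precomp F h) g = PolLaw.precomp F (h ∘ₗ g) := by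
  ext S _ _ x
  show F.toFun' S (h.lTensor S (g.lTensor S x)) = F.toFun' S ((h ∘ₗ g).lTensor S x)
  rw [LinearMap.lTensor_comp, LinearMap.comp_apply]

variable {I I' : Type u} [DecidableEq I] [DecidableEq I'] (eL : Module.Basis I A L)
  (eL' : Module.Basis I' A L')

/-- Naturality of the universal law for linear maps between free algebras. -/
lemma τlaw_natural (g : L →ₗ[A] L') (S : Type u) [CommSemiring S] [Algebra A S] (x : S ⊗[A] L) :
    (TSlin d g).lTensor S ((τlaw d eL).toFun' S x) = (τlaw d eL').toFun' S (g.lTensor S x) := by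
  apply lTensor_val_injective d eL' S
  rw [val_τlaw, ← LinearMap.comp_apply, ← LinearMap.lTensor_comp, val_comp_TSlin,
    LinearMap.lTensor_comp, LinearMap.comp_apply, val_τlaw, pw_Tm]

/-- Naturality of the linear map attached to a homogeneous law. -/
lemma fL_natural {N : Type u} [AddCommGroup N] [Module A N] (G : L' →ₚₗ[A] N)
    (hG : PolLaw.IsHomog G d) (g : L →ₗ[A] L') :
    fL d eL (PolLaw.precomp G g) = fL d eL' G ∘ₗ TSlin d g := by
  apply linearMap_ext_of_postcomp d eL
  ext S _ _ x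
  show (fL d eL (PolLaw.precomp G g)).lTensor S ((τlaw d eL).toFun' S x) =
    (fL d eL' G ∘ₗ TSlin d g).lTensor S ((τlaw d eL).toFun' S x)
  rw [← toFun'_eq_fL_τ d eL _ (precomp_isHomog d G hG g), LinearMap.lTensor_comp,
    LinearMap.comp_apply, τlaw_natural d eL eL', ← toFun'_eq_fL_τ d eL' G hG]
  rfl

end Lin

section PiBasis

variable (A : Type u) [CommRing A] (k : ℕ)

/-- The standard basis of `Fin k → A`, with index type in the ambient universe. -/
noncomputable def ePi : Module.Basis (ULift.{u} (Fin k)) A (Fin k → A) :=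
  (Pi.basisFun A (Fin k)).reindex Equiv.ulift.symm

end PiBasis

section Flat

variable {A : Type u} [CommRing A] {B : Type u} [CommRing B] [Algebra A B] [Module.Flat A B]
  (d : ℕ)

/-- Injectivity of `N ⊗ TS^d(L) → N ⊗ T^d(L)` for a free algebra `L` and a module `N`. -/
lemma lTensor_val_injective_mod {L : Type u} [CommRing L] [Algebra A L] {I : Type u}
    [DecidableEq I] (e : Module.Basis I A L) (N : Type u) [AddCommGroup N] [Module A N] :
    Function.Injective ((SymTen.TS A L d).val.toLinearMap.lTensor N) := by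
  have h : (ρ d e).lTensor N ∘ₗ (SymTen.TS A L d).val.toLinearMap.lTensor N = LinearMap.id := by
    rw [← LinearMap.lTensor_comp]
    have : ρ d e ∘ₗ (SymTen.TS A L d).val.toLinearMap = LinearMap.id := by
      ext t
      exact congrArg Subtype.val (ρ_val d e t)
    rw [this, LinearMap.lTensor_id]
  intro x y hxy
  have := congrArg ((ρ d e).lTensor N) hxy
  rw [← LinearMap.comp_apply, ← LinearMap.comp_apply, h] at this
  exact this

lemma exists_fin_sum_tmul_mod {N M : Type u} [AddCommGroup N] [Module A N] [AddCommGroup M]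
    [Module A M] (x : N ⊗[A] M) :
    ∃ (n : ℕ) (m : Fin n → N) (b : Fin n → M), x = ∑ i, m i ⊗ₜ[A] b i := by
  obtain ⟨T, h⟩ := TensorProduct.exists_finset x
  refine ⟨T.card, fun i => (T.equivFin.symm i).1.1, fun i => (T.equivFin.symm i).1.2, ?_⟩
  rw [h, ← Finset.sum_coe_sort T]
  exact (Equiv.sum_comp T.equivFin.symm (fun i : T => i.1.1 ⊗ₜ[A] i.1.2)).symm

/-- (H1) for flat `B`, with coefficients in a module: `TS^d(B) → T^d(B)` is universally
injective. -/
theorem lTensor_val_injective_of_flat_mod (S : Type u) [AddCommGroup S] [Module A S] :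
    Function.Injective ((SymTen.TS A B d).val.toLinearMap.lTensor S) := by
  classical
  rw [injective_iff_map_eq_zero]
  intro w hw
  obtain ⟨m, s, t, rfl⟩ := exists_fin_sum_tmul_mod w
  obtain ⟨k1, u1, z, hsym, hz⟩ := exists_sym_chart (A := A) (X := B) d m (fun i => (t i).1)
    (fun i σ => (t i).2 σ)
  let ζ : S ⊗[A] Tmod A d (Fin k1 → A) := ∑ i, s i ⊗ₜ[A] z i
  have hζ : NTm A S d u1 ζ = 0 := by
    simp only [ζ, map_sum, NTm_tmul, hz]
    rw [map_sum] at hw
    simp only [LinearMap.lTensor_tmul] at hw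
    exact hw
  obtain ⟨k2, a, y, hy, ha⟩ := KL (A := A) (N := S) (B := B) d (Fin k1 → A) u1 ζ hζ
  let z' : Fin m → SymTen.TS A (Fin k1 → A) d := fun i => ⟨z i, hsym i⟩
  let w2 : S ⊗[A] SymTen.TS A (Fin k2 → A) d := ∑ i, s i ⊗ₜ[A] TSlin d a (z' i)
  have hw2 : w2 = 0 := by
    apply lTensor_val_injective_mod d (ePi A k2) S
    rw [map_zero]
    simp only [w2, map_sum, LinearMap.lTensor_tmul]
    simp only [ζ, map_sum, NTm_tmul] at ha
    exact ha
  have h3 : (TSlin d y).lTensor S w2 = ∑ i, s i ⊗ₜ[A] t i := by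
    simp only [w2, map_sum, LinearMap.lTensor_tmul]
    refine Finset.sum_congr rfl fun i _ => ?_
    congr 1
    apply Subtype.ext
    show Tm A d y (Tm A d a (z i)) = (t i).1
    rw [← Tm_comp_apply, ← hy, hz]
  rw [← h3, hw2, map_zero]

/-- (H1) for flat `B`. -/
theorem lTensor_val_injective_of_flat (S : Type u) [CommSemiring S] [inst : Algebra A S] :
    Function.Injective ((SymTen.TS A B d).val.toLinearMap.lTensor S) := by
  letI : CommRing S := commRingOfAlgebra A S
  exact lTensor_val_injective_of_flat_mod d S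

variable {P : Type u} [CommRing P] [Algebra A P] (π : P →ₐ[A] B)

/-- (H2) for flat `B`. -/
theorem TSmap_surjective_of_flat (hπ : Function.Surjective π) :
    Function.Surjective (SymTen.TSmap A d π) := by
  classical
  intro t
  obtain ⟨k, u, z, hsym, hz⟩ := exists_sym_chart (A := A) (X := B) d 1 (fun _ => t.1)
    (fun _ σ => t.2 σ)
  choose p hp using fun j : Fin k => hπ (u (Pi.single j 1))
  let v : (Fin k → A) →ₗ[A] P := (Pi.basisFun A (Fin k)).constr A p
  have hv : π.toLinearMap ∘ₗ v = u := by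
    apply (Pi.basisFun A (Fin k)).ext
    intro j
    rw [LinearMap.comp_apply, Module.Basis.constr_basis, Pi.basisFun_apply]
    exact hp j
  refine ⟨TSlin d v ⟨z 0, hsym 0⟩, ?_⟩
  apply Subtype.ext
  show SymTen.tmap A d π (Tm A d v (z 0)) = t.1
  rw [tmap_eq_Tm, ← Tm_comp_apply, hv, hz]

variable {I : Type u} [DecidableEq I] (e : Module.Basis I A P)

/-- (H3) for flat `B`. -/
theorem fL_eq_zero_of_flat {N : Type u} [AddCommGroup N] [Module A N] (F : B →ₚₗ[A] N)
    (hF : PolLaw.IsHomog F d) (t : SymTen.TS A P d) (ht : SymTen.tmap A d π t.1 = 0) :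
    fL d e (PolLaw.precomp F π.toLinearMap) t = 0 := by
  classical
  haveI : Module.Free A P := Module.Free.of_basis e
  obtain ⟨k0, u0, z0, hsym0, hz0⟩ := exists_sym_chart (A := A) (X := P) d 1 (fun _ => t.1)
    (fun _ σ => t.2 σ)
  obtain ⟨k1, a, y, hy, ha⟩ := KLfamA (B := B) d (Fin k0 → A) (π.toLinearMap ∘ₗ u0)
    (fun _ : Unit => z0 0) (fun _ => by rw [Tm_comp_apply, hz0, ← tmap_eq_Tm, ht])
  have ht0 : t = TSlin d u0 ⟨z0 0, hsym0 0⟩ := Subtype.ext (hz0 0).symm
  rw [ht0, ← LinearMap.comp_apply,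
    ← fL_natural d (ePi A k0) e _ (precomp_isHomog d F hF π.toLinearMap) u0, precomp_precomp, hy,
    ← precomp_precomp, fL_natural d (ePi A k0) (ePi A k1) _ (precomp_isHomog d F hF y) a,
    LinearMap.comp_apply]
  have h0 : TSlin d a ⟨z0 0, hsym0 0⟩ = 0 := Subtype.ext (ha ())
  rw [h0, map_zero]

end Flat

end Groth.Agent.Lib.Helper6.ZC
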