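import Mathlib
import Groth.Prelude.Def_PolLaw
import Groth.Prelude.Def_SymTen
import Groth.Agent.Lib.Helper6.ZC.Univ

/-!
# Invariants of the tensor power of a free algebra commute with base change (helper6)
-/

set_option autoImplicit false
set_option linter.unusedSectionVars false
set_option linter.unusedVariables false
set_option linter.unusedSimpArgs false
set_option linter.style.haveILetI false
set_option maxHeartbeats 400000
universe u
open scoped TensorProduct

namespace Groth.Agent.Lib.Helper6.ZC

section Inv

variable {A : Type u} [CommRing A] {B : Type u} [CommRing B] [Algebra A B] (d : ℕ)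
variable {I : Type u} [DecidableEq I] (e : Module.Basis I A B)

lemma basis_repr_perm (S : Type u) [CommSemiring S] [Algebra A S] (σ : Equiv.Perm (Fin d))
    (x : S ⊗[A] Tp A B d) (c : Fin d → I) :
    (Algebra.TensorProduct.basis S (Eb d e)).repr
        ((SymTen.perm A B d σ).toLinearMap.lTensor S x) c =
      (Algebra.TensorProduct.basis S (Eb d e)).repr x (fun l => c (σ l)) := by
  induction x using TensorProduct.induction_on with
  | zero => simp
  | tmul s m =>
    rw [LinearMap.lTensor_tmul, Algebra.TensorProduct.basis_repr_tmul,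
      Algebra.TensorProduct.basis_repr_tmul]
    simp only [Finsupp.smul_apply, Finsupp.mapRange_apply, AlgHom.toLinearMap_apply]
    rw [SymTen.perm_apply, repr_reindex]
  | add x y hx hy => simp only [map_add, Finsupp.add_apply, hx, hy]

include e in
/-- An invariant element of `S ⊗ T^d(B)` comes from `S ⊗ TS^d(B)` when `B` is free. -/
theorem mem_range_lTensor_val_of_invariant (S : Type u) [CommSemiring S] [Algebra A S]
    (x : S ⊗[A] Tp A B d)
    (hx : ∀ σ : Equiv.Perm (Fin d), (SymTen.perm A B d σ).toLinearMap.lTensor S x = x) :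
    x ∈ LinearMap.range ((SymTen.TS A B d).val.toLinearMap.lTensor S) := by
  classical
  set bS := Algebra.TensorProduct.basis S (Eb d e) with hbS
  set a := bS.repr x with ha
  have hsym : ∀ (σ : Equiv.Perm (Fin d)) (c : Fin d → I), a (fun l => c (σ l)) = a c := by
    intro σ c
    have := basis_repr_perm d e S σ x c
    rw [hx σ] at this
    exact this.symm
  have hx' : x = ∑ c ∈ a.support, a c ⊗ₜ[A] Eb d e c := by
    conv_lhs => rw [← bS.linearCombination_repr x, Finsupp.linearCombination_apply, Finsupp.sum]
    refine Finset.sum_congr rfl fun c _ => ?_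
    rw [hbS, Algebra.TensorProduct.basis_apply, TensorProduct.smul_tmul', smul_eq_mul, mul_one]
  rw [hx', ← Finset.sum_fiberwise_of_maps_to (t := a.support.image typ) (g := typ)
    (fun c hc => Finset.mem_image_of_mem _ hc)]
  refine Submodule.sum_mem _ fun ν hν => ?_
  obtain ⟨c₀, hc₀, rfl⟩ := Finset.mem_image.mp hν
  have hfil : a.support.filter (fun c => typ c = typ c₀) = orb d c₀ := by
    ext c
    rw [Finset.mem_filter, mem_orb]
    constructor
    · exact fun h => h.2
    · intro h
      refine ⟨?_, h⟩
      obtain ⟨σ, rfl⟩ := exists_perm_of_typ_eq c₀ c h.symm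
      rw [Finsupp.mem_support_iff]
      have := hsym σ c₀
      rw [show (c₀ ∘ σ) = fun l => c₀ (σ l) from rfl, this]
      exact Finsupp.mem_support_iff.mp hc₀
  rw [hfil]
  have : ∑ c ∈ orb d c₀, a c ⊗ₜ[A] Eb d e c =
      (SymTen.TS A B d).val.toLinearMap.lTensor S (a c₀ ⊗ₜ[A] osumTS d e c₀) := by
    rw [LinearMap.lTensor_tmul]
    show _ = a c₀ ⊗ₜ[A] osum d e c₀
    rw [osum, TensorProduct.tmul_sum]
    refine Finset.sum_congr rfl fun c hc => ?_
    obtain ⟨σ, rfl⟩ := exists_perm_of_typ_eq c₀ c ((mem_orb d).mp hc).symm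
    have := hsym σ c₀
    rw [show (c₀ ∘ σ) = fun l => c₀ (σ l) from rfl, this]
  rw [this]
  exact LinearMap.mem_range_self _ _

end Inv

end Groth.Agent.Lib.Helper6.ZC
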