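import Mathlib
import Groth.Prelude.Def_PolLaw
import Groth.Prelude.Def_SymTen
import Groth.Prelude.Def_PolLaw2
import Groth.Agent.Lib.Helper6.ZC.Inv
import Groth.Agent.Lib.Helper6.ZC.Trace

/-!
# The norm law `T^d(P) → TS^d(P)` of a free algebra and its naturality (helper6)
-/

set_option autoImplicit false
set_option linter.unusedSectionVars false
set_option linter.unusedVariables false
set_option linter.unusedSimpArgs false
set_option linter.style.haveILetI false
set_option maxHeartbeats 400000
universe u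
open scoped TensorProduct

namespace Groth.Agent.Lib.Helper6.ZC

section Symm

variable (A : Type u) [CommRing A] (P : Type u) [CommRing P] [Algebra A P] (d : ℕ)

lemma symmLaw_toFun' (S : Type u) [CommSemiring S] [Algebra A S] (z : S ⊗[A] Tp A P d) :
    (SymTen.symmLaw A P d).law.toFun' S z =
      ∏ σ : Equiv.Perm (Fin d),
        Algebra.TensorProduct.map (AlgHom.id S S) (SymTen.perm A P d σ) z := rfl

lemma map_perm_perm (S : Type u) [CommSemiring S] [Algebra A S] (σ τ : Equiv.Perm (Fin d))
    (z : S ⊗[A] Tp A P d) :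
    Algebra.TensorProduct.map (AlgHom.id S S) (SymTen.perm A P d τ)
      (Algebra.TensorProduct.map (AlgHom.id S S) (SymTen.perm A P d σ) z) =
      Algebra.TensorProduct.map (AlgHom.id S S) (SymTen.perm A P d (τ * σ)) z := by
  induction z using TensorProduct.induction_on with
  | zero => simp
  | tmul s m => simp only [Algebra.TensorProduct.map_tmul, perm_perm, AlgHom.id_apply]
  | add x y hx hy => simp only [map_add, hx, hy]

lemma symmLaw_invariant (S : Type u) [CommSemiring S] [Algebra A S] (τ : Equiv.Perm (Fin d))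
    (z : S ⊗[A] Tp A P d) :
    (SymTen.perm A P d τ).toLinearMap.lTensor S ((SymTen.symmLaw A P d).law.toFun' S z) =
      (SymTen.symmLaw A P d).law.toFun' S z := by
  rw [PolLaw.lTensor_algHom_apply, symmLaw_toFun', map_prod]
  simp only [map_perm_perm]
  exact Fintype.prod_equiv (Equiv.mulLeft τ) _ _ (fun σ => rfl)

end Symm

section NP

variable {A : Type u} [CommRing A] {P : Type u} [CommRing P] [Algebra A P] (d : ℕ)
variable {I : Type u} [DecidableEq I] (e : Module.Basis I A P)

/-- The norm law `T^d(P) → TS^d(P)`, `z ↦ ∏_σ σ z`. -/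
noncomputable def NPlaw : Tp A P d →ₚₗ[A] SymTen.TS A P d :=
  PolLaw.postcomp (ρ d e) (SymTen.symmLaw A P d).law

lemma NPlaw_toFun' (S : Type u) [CommSemiring S] [Algebra A S] (z : S ⊗[A] Tp A P d) :
    (NPlaw d e).toFun' S z = (ρ d e).lTensor S ((SymTen.symmLaw A P d).law.toFun' S z) := rfl

theorem val_NPlaw (S : Type u) [CommSemiring S] [Algebra A S] (z : S ⊗[A] Tp A P d) :
    (SymTen.TS A P d).val.toLinearMap.lTensor S ((NPlaw d e).toFun' S z) =
      (SymTen.symmLaw A P d).law.toFun' S z := by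
  obtain ⟨y, hy⟩ := mem_range_lTensor_val_of_invariant d e S _
    (fun σ => symmLaw_invariant A P d S σ z)
  rw [NPlaw_toFun', ← hy]
  congr 1
  have h : (ρ d e).lTensor S ∘ₗ (SymTen.TS A P d).val.toLinearMap.lTensor S = LinearMap.id := by
    rw [← LinearMap.lTensor_comp]
    have : ρ d e ∘ₗ (SymTen.TS A P d).val.toLinearMap = LinearMap.id := by
      ext t
      exact congrArg Subtype.val (ρ_val d e t)
    rw [this, LinearMap.lTensor_id]
  exact DFunLike.congr_fun h y

/-- The norm law as a multiplicative law of degree `d!`. -/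
noncomputable def NP : PolLaw.MulLaw A (Tp A P d) (SymTen.TS A P d) d.factorial where
  law := NPlaw d e
  homog := by
    intro S _ _ s x
    apply lTensor_val_injective d e S
    rw [val_NPlaw, lTensor_smul, val_NPlaw]
    exact (SymTen.symmLaw A P d).homog S s x
  mult := by
    intro S _ _
    refine ⟨?_, fun x y => ?_⟩
    · apply lTensor_val_injective d e S
      rw [val_NPlaw, ((SymTen.symmLaw A P d).mult S).1, PolLaw.lTensor_algHom_apply, map_one]
    · apply lTensor_val_injective d e S
      rw [val_NPlaw, ((SymTen.symmLaw A P d).mult S).2, PolLaw.lTensor_algHom_apply, map_mul,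
        ← PolLaw.lTensor_algHom_apply, ← PolLaw.lTensor_algHom_apply, val_NPlaw, val_NPlaw]

end NP

section Nat

variable {A : Type u} [CommRing A] {P₀ P : Type u} [CommRing P₀] [Algebra A P₀] [CommRing P]
  [Algebra A P] (d : ℕ)
variable {I₀ : Type u} [DecidableEq I₀] (e₀ : Module.Basis I₀ A P₀)
variable {I : Type u} [DecidableEq I] (e : Module.Basis I A P)
variable (Φ : P₀ →ₐ[A] P)

lemma val_comp_TSmap :
    (SymTen.TS A P d).val.toLinearMap ∘ₗ (SymTen.TSmap A d Φ).toLinearMap =
      (SymTen.tmap A d Φ).toLinearMap ∘ₗ (SymTen.TS A P₀ d).val.toLinearMap := by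
  ext t
  rfl

lemma lTensor_val_TSmap (S : Type u) [CommSemiring S] [Algebra A S]
    (y : S ⊗[A] SymTen.TS A P₀ d) :
    (SymTen.TS A P d).val.toLinearMap.lTensor S ((SymTen.TSmap A d Φ).toLinearMap.lTensor S y) =
      (SymTen.tmap A d Φ).toLinearMap.lTensor S
        ((SymTen.TS A P₀ d).val.toLinearMap.lTensor S y) := by
  rw [← LinearMap.comp_apply, ← LinearMap.lTensor_comp, val_comp_TSmap, LinearMap.lTensor_comp,
    LinearMap.comp_apply]

lemma tmap_perm (σ : Equiv.Perm (Fin d)) (z : Tp A P₀ d) :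
    SymTen.tmap A d Φ (SymTen.perm A P₀ d σ z) = SymTen.perm A P d σ (SymTen.tmap A d Φ z) := by
  rw [SymTen.perm_apply, SymTen.perm_apply, SymTen.tmap_reindex]

lemma tmap_symmLaw (S : Type u) [CommSemiring S] [Algebra A S] (z : S ⊗[A] Tp A P₀ d) :
    (SymTen.tmap A d Φ).toLinearMap.lTensor S ((SymTen.symmLaw A P₀ d).law.toFun' S z) =
      (SymTen.symmLaw A P d).law.toFun' S ((SymTen.tmap A d Φ).toLinearMap.lTensor S z) := by
  rw [PolLaw.lTensor_algHom_apply, PolLaw.lTensor_algHom_apply, symmLaw_toFun', symmLaw_toFun',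
    map_prod]
  refine Finset.prod_congr rfl fun σ _ => ?_
  induction z using TensorProduct.induction_on with
  | zero => simp
  | tmul s m => simp only [Algebra.TensorProduct.map_tmul, tmap_perm, AlgHom.id_apply]
  | add x y hx hy => simp only [map_add, hx, hy]

/-- Naturality of the norm law. -/
theorem TSmap_NPlaw (S : Type u) [CommSemiring S] [Algebra A S] (z : S ⊗[A] Tp A P₀ d) :
    (SymTen.TSmap A d Φ).toLinearMap.lTensor S ((NPlaw d e₀).toFun' S z) =
      (NPlaw d e).toFun' S ((SymTen.tmap A d Φ).toLinearMap.lTensor S z) := by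
  apply lTensor_val_injective d e S
  rw [lTensor_val_TSmap, val_NPlaw, val_NPlaw, tmap_symmLaw]

/-- Naturality of the universal law. -/
theorem TSmap_τlaw (S : Type u) [CommSemiring S] [Algebra A S] (x : S ⊗[A] P₀) :
    (SymTen.TSmap A d Φ).toLinearMap.lTensor S ((τlaw d e₀).toFun' S x) =
      (τlaw d e).toFun' S (Φ.toLinearMap.lTensor S x) := by
  apply lTensor_val_injective d e S
  rw [lTensor_val_TSmap, val_τlaw, val_τlaw, pw_natural]

variable {B C : Type u} [CommRing B] [Algebra A B] [CommRing C] [Algebra A C]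
  (γ : PolLaw.MulLaw A B C d) (π : P →ₐ[A] B)

/-- Compatibility of the maps `fC` with change of free cover. -/
theorem fC_comp_TSmap :
    (fC d γ e π).comp (SymTen.TSmap A d Φ) = fC d γ e₀ (π.comp Φ) := by
  apply AlgHom.toLinearMap_injective
  apply linearMap_ext_of_postcomp d e₀
  ext S _ _ x
  show ((fC d γ e π).comp (SymTen.TSmap A d Φ)).toLinearMap.lTensor S ((τlaw d e₀).toFun' S x) =
    (fC d γ e₀ (π.comp Φ)).toLinearMap.lTensor S ((τlaw d e₀).toFun' S x)
  have h1 : ((fC d γ e π).comp (SymTen.TSmap A d Φ)).toLinearMap =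
      (fC d γ e π).toLinearMap ∘ₗ (SymTen.TSmap A d Φ).toLinearMap := rfl
  rw [h1, LinearMap.lTensor_comp, LinearMap.comp_apply, TSmap_τlaw d e₀ e, lTensor_fC_τ,
    lTensor_fC_τ]
  congr 1
  have h2 : (π.comp Φ).toLinearMap = π.toLinearMap ∘ₗ Φ.toLinearMap := rfl
  rw [h2, LinearMap.lTensor_comp, LinearMap.comp_apply]

end Nat

end Groth.Agent.Lib.Helper6.ZC
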