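import Mathlib
import Groth.Prelude.Def_PolLaw
import Groth.Prelude.Def_SymTen
import Groth.Prelude.Def_PolLaw2
import Groth.Agent.Lib.Helper6.ZC.NormLaw
import Groth.Agent.Lib.Helper6.ZC.Ker

/-!
# Descent of the norm law to `T^d(B) → Γ^d(B)` (helper6)
-/

set_option autoImplicit false
set_option linter.unusedSectionVars false
set_option linter.unusedVariables false
set_option linter.unusedSimpArgs false
set_option linter.style.haveILetI false
set_option maxHeartbeats 400000
universe u
open scoped TensorProduct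

namespace Groth.Agent.Lib.Helper6.ZC

section TmapComp

variable {A : Type u} [CommRing A] {P₀ P B : Type u} [CommRing P₀] [Algebra A P₀] [CommRing P]
  [Algebra A P] [CommRing B] [Algebra A B] (d : ℕ)

lemma tmap_tmap (Φ : P₀ →ₐ[A] P) (π : P →ₐ[A] B) (x : Tp A P₀ d) :
    SymTen.tmap A d π (SymTen.tmap A d Φ x) = SymTen.tmap A d (π.comp Φ) x := by
  induction x using PiTensorProduct.induction_on with
  | smul_tprod r p => simp only [map_smul, SymTen.tmap_tprod, AlgHom.comp_apply]
  | add x y hx hy => simp only [map_add, hx, hy]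

lemma tmap_id (x : Tp A P d) : SymTen.tmap A d (AlgHom.id A P) x = x := by
  induction x using PiTensorProduct.induction_on with
  | smul_tprod r p => simp only [map_smul, SymTen.tmap_tprod, AlgHom.id_apply]
  | add x y hx hy => simp only [map_add, hx, hy]

lemma lTensor_tmap_tmap (Φ : P₀ →ₐ[A] P) (π : P →ₐ[A] B) (S : Type u) [CommSemiring S]
    [Algebra A S] (x : S ⊗[A] Tp A P₀ d) :
    (SymTen.tmap A d π).toLinearMap.lTensor S ((SymTen.tmap A d Φ).toLinearMap.lTensor S x) =
      (SymTen.tmap A d (π.comp Φ)).toLinearMap.lTensor S x := by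
  induction x using TensorProduct.induction_on with
  | zero => simp
  | tmul s m => simp only [LinearMap.lTensor_tmul, AlgHom.toLinearMap_apply, tmap_tmap]
  | add x y hx hy => simp only [map_add, hx, hy]

lemma lTensor_tmap_id (S : Type u) [CommSemiring S] [Algebra A S] (x : S ⊗[A] Tp A P d) :
    (SymTen.tmap A d (AlgHom.id A P)).toLinearMap.lTensor S x = x := by
  induction x using TensorProduct.induction_on with
  | zero => simp
  | tmul s m => simp only [LinearMap.lTensor_tmul, AlgHom.toLinearMap_apply, tmap_id]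
  | add x y hx hy => simp only [map_add, hx, hy]

end TmapComp

section Core

variable {A : Type u} [CommRing A] {P B C : Type u} [CommRing P] [Algebra A P] [CommRing B]
  [Algebra A B] [CommRing C] [Algebra A C] (d : ℕ)
variable {I : Type u} [DecidableEq I] (e : Module.Basis I A P)
variable (γ : PolLaw.MulLaw A B C d) (π : P →ₐ[A] B)

/-- The basis of `P[y]` over `A`. -/
noncomputable def ePoly : Module.Basis (I × ℕ) A (Polynomial P) :=
  e.smulTower (Polynomial.basisMonomials P)

/-- Evaluation `P[y] → P`, `y ↦ q`, as an `A`-algebra map. -/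
noncomputable def evq (q : P) : Polynomial P →ₐ[A] P :=
  (Polynomial.aeval (R := P) q).restrictScalars A

/-- The inclusion `P → P[y]`. -/
noncomputable def inclP : P →ₐ[A] Polynomial P := IsScalarTower.toAlgHom A P (Polynomial P)

lemma evq_comp_inclP (q : P) : (evq (A := A) q).comp (inclP (A := A) (P := P)) = AlgHom.id A P := by
  ext p
  simp [evq, inclP]

lemma evq_X (q : P) : evq (A := A) q Polynomial.X = q := by
  simp [evq]

lemma comp_evq_eq (q : P) (hq : π q = 0) : π.comp (evq q) = π.comp (evq 0) := by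
  apply AlgHom.ext
  intro f
  simp only [AlgHom.comp_apply, evq, AlgHom.restrictScalars_apply]
  rw [Polynomial.aeval_def, Polynomial.aeval_def]
  have h1 := Polynomial.hom_eval₂ f (algebraMap P P) π.toRingHom q
  have h2 := Polynomial.hom_eval₂ f (algebraMap P P) π.toRingHom 0
  have e1 : π (Polynomial.eval₂ (algebraMap P P) q f) =
      π.toRingHom (Polynomial.eval₂ (algebraMap P P) q f) := rfl
  have e2 : π (Polynomial.eval₂ (algebraMap P P) 0 f) =
      π.toRingHom (Polynomial.eval₂ (algebraMap P P) 0 f) := rfl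
  rw [e1, e2, h1, h2]
  congr 1
  show π q = π 0
  rw [hq, map_zero]

/-- The composite law `G = f ∘ N : T^d(P) → C`. -/
noncomputable def Glaw : PolLaw.MulLaw A (Tp A P d) C d.factorial :=
  PolLaw.MulLaw.postcomp (fC d γ e π) (NP d e)

lemma Glaw_toFun' (S : Type u) [CommSemiring S] [Algebra A S] (z : S ⊗[A] Tp A P d) :
    (Glaw d e γ π).law.toFun' S z =
      (fC d γ e π).toLinearMap.lTensor S ((NPlaw d e).toFun' S z) := rfl

/-- The key invariance: the law `G` does not see perturbations by `ι_k(q)`, `q ∈ ker π`. -/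
theorem Glaw_add_mul (q : P) (hq : π q = 0) (k : Fin d) (S : Type u) [CommSemiring S]
    [Algebra A S] (z w : S ⊗[A] Tp A P d) :
    (Glaw d e γ π).law.toFun' S (z + w * ((1 : S) ⊗ₜ[A] ιk A P d k q)) =
      (Glaw d e γ π).law.toFun' S z := by
  classical
  set e₀ := ePoly e with he₀
  set z₀ : S ⊗[A] Tp A (Polynomial P) d :=
    (SymTen.tmap A d (inclP (A := A) (P := P))).toLinearMap.lTensor S z +
      (SymTen.tmap A d (inclP (A := A) (P := P))).toLinearMap.lTensor S w *
        ((1 : S) ⊗ₜ[A] ιk A (Polynomial P) d k Polynomial.X) with hz₀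
  have hz : ∀ q' : P, (SymTen.tmap A d (evq (A := A) q')).toLinearMap.lTensor S z₀ =
      z + w * ((1 : S) ⊗ₜ[A] ιk A P d k q') := by
    intro q'
    rw [hz₀, map_add, lTensor_tmap_tmap, evq_comp_inclP, lTensor_tmap_id]
    congr 1
    rw [PolLaw.lTensor_algHom_apply, map_mul, ← PolLaw.lTensor_algHom_apply,
      ← PolLaw.lTensor_algHom_apply, lTensor_tmap_tmap, evq_comp_inclP, lTensor_tmap_id,
      LinearMap.lTensor_tmul, AlgHom.toLinearMap_apply, tmap_ιk, evq_X]
  have key : ∀ q' : P, (Glaw d e γ π).law.toFun' S (z + w * ((1 : S) ⊗ₜ[A] ιk A P d k q')) =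
      (fC d γ e₀ (π.comp (evq q'))).toLinearMap.lTensor S ((NPlaw d e₀).toFun' S z₀) := by
    intro q'
    rw [Glaw_toFun', ← hz q', ← TSmap_NPlaw d e₀ e (evq q') S z₀, ← fC_comp_TSmap d e₀ e (evq q') γ π]
    have h1 : ((fC d γ e π).comp (SymTen.TSmap A d (evq q'))).toLinearMap =
        (fC d γ e π).toLinearMap ∘ₗ (SymTen.TSmap A d (evq q')).toLinearMap := rfl
    rw [h1, LinearMap.lTensor_comp, LinearMap.comp_apply]
  have h0 := key 0
  rw [map_zero, TensorProduct.tmul_zero, mul_zero, add_zero] at h0
  rw [key q, h0, comp_evq_eq π q hq]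

end Core

end Groth.Agent.Lib.Helper6.ZC
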