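import Mathlib
import Groth.Prelude.Def_PolLaw
import Groth.Prelude.Def_SymTen
import Groth.Prelude.Def_PolLaw2
import Groth.Agent.Lib.Helper6.ZC.NormDesc

/-!
# Kernel of the tensor power of a surjection; descent of laws along surjections (helper6)
-/

set_option autoImplicit false
set_option linter.unusedSectionVars false
set_option linter.unusedVariables false
set_option linter.unusedSimpArgs false
set_option linter.style.haveILetI false
set_option maxHeartbeats 400000
universe u
open scoped TensorProduct

namespace Groth.Agent.Lib.Helper6.ZC

section KerTmap

variable {A : Type u} [CommRing A] {P B : Type u} [CommRing P] [Algebra A P] [CommRing B]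
  [Algebra A B] (d : ℕ) (π : P →ₐ[A] B)

/-- The ideal of `T^d(P)` generated by the `ι_k(q)`, `q ∈ ker π`. -/
def Jk : Ideal (Tp A P d) :=
  Ideal.span {x | ∃ (k : Fin d) (q : P), π q = 0 ∧ x = ιk A P d k q}

lemma tprod_update_eq (v : Fin d → P) (a : Fin d) (x : P) :
    PiTensorProduct.tprod A (Function.update v a x) =
      ιk A P d a x * PiTensorProduct.tprod A (Function.update v a 1) := by
  rw [ιk, PiTensorProduct.singleAlgHom_apply, PiTensorProduct.tprod_mul_tprod]
  congr 1
  funext i
  by_cases h : i = a
  · subst h; simp
  · simp [Function.update_of_ne h, Pi.mulSingle_eq_of_ne h]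

lemma tprod_sub_mem (p p' : Fin d → P) (h : ∀ i, π (p i) = π (p' i)) :
    PiTensorProduct.tprod A p - PiTensorProduct.tprod A p' ∈ Jk d π := by
  classical
  have key : ∀ T : Finset (Fin d), PiTensorProduct.tprod A p -
      PiTensorProduct.tprod A (fun i => if i ∈ T then p' i else p i) ∈ Jk d π := by
    intro T
    induction T using Finset.induction_on with
    | empty => simp
    | insert a T ha ih =>
      set v : Fin d → P := fun i => if i ∈ T then p' i else p i with hv
      have e1 : (fun i => if i ∈ insert a T then p' i else p i) = Function.update v a (p' a) := by
        funext i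
        by_cases hi : i = a
        · subst hi; simp
        · simp [Function.update_of_ne hi, hv, Finset.mem_insert, hi]
      have e2 : v = Function.update v a (p a) := by
        rw [Function.eq_update_iff]
        refine ⟨?_, fun _ _ => rfl⟩
        simp [hv, ha]
      have e3 : PiTensorProduct.tprod A v - PiTensorProduct.tprod A (Function.update v a (p' a)) =
          PiTensorProduct.tprod A (Function.update v a (p a - p' a)) := by
        conv_lhs => rw [e2]
        rw [Function.update_idem, (PiTensorProduct.tprod A).map_update_sub]
      rw [e1]
      have : PiTensorProduct.tprod A p - PiTensorProduct.tprod A (Function.update v a (p' a)) =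
          (PiTensorProduct.tprod A p - PiTensorProduct.tprod A v) +
          (PiTensorProduct.tprod A v - PiTensorProduct.tprod A (Function.update v a (p' a))) := by
        abel
      rw [this, e3, tprod_update_eq]
      refine Ideal.add_mem _ ih (Ideal.mul_mem_right _ _ (Ideal.subset_span ⟨a, _, ?_, rfl⟩))
      rw [map_sub, h a, sub_self]
  have := key Finset.univ
  simpa using this

/-- The kernel of `T^d(π)` is generated by the `ι_k(ker π)`. -/
theorem ker_tmap_le (hπ : Function.Surjective π) (x : Tp A P d)
    (hx : SymTen.tmap A d π x = 0) : x ∈ Jk d π := by
  classical
  set sec := Function.surjInv hπ with hsec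
  have hs : ∀ b, π (sec b) = b := Function.surjInv_eq hπ
  let Ψ : MultilinearMap A (fun _ : Fin d => B) (Tp A P d ⧸ Jk d π) :=
    { toFun := fun b => Ideal.Quotient.mkₐ A (Jk d π)
        (PiTensorProduct.tprod A (fun i => sec (b i)))
      map_update_add' := by
        intro _ b j x y
        rw [← map_add, Ideal.Quotient.mkₐ_eq_mk, Ideal.Quotient.eq]
        have h1 : ∀ v : B, (fun i => sec (Function.update b j v i)) =
            Function.update (fun i => sec (b i)) j (sec v) := by
          intro v
          funext i
          by_cases hi : i = j
          · subst hi; simp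
          · simp [Function.update_of_ne hi]
        have hinst : ‹DecidableEq (Fin d)› = instDecidableEqFin d := Subsingleton.elim _ _
        subst hinst
        rw [h1, h1, h1, ← (PiTensorProduct.tprod A).map_update_add]
        apply tprod_sub_mem
        intro i
        by_cases hi : i = j
        · subst hi; simp [hs]
        · simp [Function.update_of_ne hi]
      map_update_smul' := by
        intro _ b j a x
        rw [← map_smul, Ideal.Quotient.mkₐ_eq_mk, Ideal.Quotient.eq]
        have h1 : ∀ v : B, (fun i => sec (Function.update b j v i)) =
            Function.update (fun i => sec (b i)) j (sec v) := by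
          intro v
          funext i
          by_cases hi : i = j
          · subst hi; simp
          · simp [Function.update_of_ne hi]
        have hinst : ‹DecidableEq (Fin d)› = instDecidableEqFin d := Subsingleton.elim _ _
        subst hinst
        rw [h1, h1, ← (PiTensorProduct.tprod A).map_update_smul]
        apply tprod_sub_mem
        intro i
        by_cases hi : i = j
        · subst hi; simp [hs]
        · simp [Function.update_of_ne hi] }
  have hΨ : ∀ y : Tp A P d, PiTensorProduct.lift Ψ (SymTen.tmap A d π y) =
      Ideal.Quotient.mkₐ A (Jk d π) y := by
    intro y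
    induction y using PiTensorProduct.induction_on with
    | smul_tprod r p =>
      rw [map_smul, map_smul, map_smul, SymTen.tmap_tprod, PiTensorProduct.lift.tprod]
      congr 1
      show Ideal.Quotient.mkₐ A (Jk d π) _ = _
      rw [Ideal.Quotient.mkₐ_eq_mk, Ideal.Quotient.eq]
      apply tprod_sub_mem
      intro i
      exact hs _
    | add x y hx hy => rw [map_add, map_add, hx, hy, map_add]
  have := hΨ x
  rw [hx, map_zero, Ideal.Quotient.mkₐ_eq_mk] at this
  exact Ideal.Quotient.eq_zero_iff_mem.mp this.symm

end KerTmap

end Groth.Agent.Lib.Helper6.ZC
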