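import Mathlib
import Groth.Prelude.Def_PolLaw
import Groth.Prelude.Def_SymTen
import Groth.Prelude.Def_PolLaw2
import Groth.Agent.Lib.Helper6.ZC.NormDesc2

/-!
# The norm law `T^d(B) → Γ^d(B)` (helper6)
-/

set_option autoImplicit false
set_option linter.unusedSectionVars false
set_option linter.unusedVariables false
set_option linter.unusedSimpArgs false
set_option linter.style.haveILetI false
set_option maxHeartbeats 400000
universe u
open scoped TensorProduct

namespace Groth.Agent.Lib.Helper6.ZC

section Desc

variable {A : Type u} [CommRing A] {M N C : Type u} [AddCommGroup M] [Module A M]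
  [AddCommGroup N] [Module A N] [AddCommGroup C] [Module A C]

/-- Descent of a polynomial law along a surjective linear map. -/
noncomputable def descLaw (q : M →ₗ[A] N) (hq : Function.Surjective q) (G : M →ₚₗ[A] C)
    (hG : ∀ (S : Type u) [CommSemiring S] [Algebra A S] (z z' : S ⊗[A] M),
      q.lTensor S z = q.lTensor S z' → G.toFun' S z = G.toFun' S z') : N →ₚₗ[A] C where
  toFun' S _ _ := fun n => G.toFun' S (Function.surjInv (LinearMap.lTensor_surjective S hq) n)
  isCompat' {S} _ _ {S'} _ _ φ := by
    funext n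
    simp only [Function.comp_apply]
    have h1 := congrFun (G.isCompat' φ) (Function.surjInv (LinearMap.lTensor_surjective S hq) n)
    simp only [Function.comp_apply] at h1
    rw [h1]
    apply hG
    have h2 := Function.surjInv_eq (LinearMap.lTensor_surjective S' hq) (φ.toLinearMap.rTensor N n)
    have h3 := Function.surjInv_eq (LinearMap.lTensor_surjective S hq) n
    rw [h2, ← LinearMap.comp_apply, LinearMap.lTensor_comp_rTensor,
      ← LinearMap.rTensor_comp_lTensor, LinearMap.comp_apply, h3]

lemma descLaw_apply (q : M →ₗ[A] N) (hq : Function.Surjective q) (G : M →ₚₗ[A] C)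
    (hG : ∀ (S : Type u) [CommSemiring S] [Algebra A S] (z z' : S ⊗[A] M),
      q.lTensor S z = q.lTensor S z' → G.toFun' S z = G.toFun' S z')
    (S : Type u) [CommSemiring S] [Algebra A S] (z : S ⊗[A] M) :
    (descLaw q hq G hG).toFun' S (q.lTensor S z) = G.toFun' S z := by
  show G.toFun' S (Function.surjInv (LinearMap.lTensor_surjective S hq) (q.lTensor S z)) = _
  apply hG
  exact Function.surjInv_eq (LinearMap.lTensor_surjective S hq) (q.lTensor S z)

end Desc

section WD

variable {A : Type u} [CommRing A] {P B C : Type u} [CommRing P] [Algebra A P] [CommRing B]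
  [Algebra A B] [CommRing C] [Algebra A C] (d : ℕ)
variable {I : Type u} [DecidableEq I] (e : Module.Basis I A P)
variable (γ : PolLaw.MulLaw A B C d) (π : P →ₐ[A] B)

lemma Jk_le_ker : Jk d π ≤ PolLaw.ker (Glaw d e γ π).law := by
  rw [Jk, Ideal.span_le]
  rintro _ ⟨k, q, hq, rfl⟩
  intro S _ _ z w
  exact Glaw_add_mul d e γ π q hq k S z w

lemma Glaw_add_lTensor (hπ : Function.Surjective π) (S : Type u) [CommSemiring S] [Algebra A S]
    (v : S ⊗[A] LinearMap.ker (SymTen.tmap A d π).toLinearMap) (z : S ⊗[A] Tp A P d) :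
    (Glaw d e γ π).law.toFun' S
        (z + (LinearMap.ker (SymTen.tmap A d π).toLinearMap).subtype.lTensor S v) =
      (Glaw d e γ π).law.toFun' S z := by
  induction v using TensorProduct.induction_on generalizing z with
  | zero => simp
  | tmul s j =>
    have hj : (j : Tp A P d) ∈ PolLaw.ker (Glaw d e γ π).law :=
      Jk_le_ker d e γ π (ker_tmap_le d π hπ _ (LinearMap.mem_ker.mp j.2))
    have := hj S z (s ⊗ₜ[A] (1 : Tp A P d))
    rw [Algebra.TensorProduct.tmul_mul_tmul, mul_one, one_mul] at this
    rw [LinearMap.lTensor_tmul]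
    exact this
  | add a b ha hb => rw [map_add, ← add_assoc, hb, ha]

lemma Glaw_wd_ring (hπ : Function.Surjective π) (S : Type u) [CommRing S] [Algebra A S]
    (z z' : S ⊗[A] Tp A P d)
    (h : (SymTen.tmap A d π).toLinearMap.lTensor S z =
      (SymTen.tmap A d π).toLinearMap.lTensor S z') :
    (Glaw d e γ π).law.toFun' S z = (Glaw d e γ π).law.toFun' S z' := by
  have hex := lTensor_exact S
    (LinearMap.exact_subtype_ker_map (SymTen.tmap A d π).toLinearMap)
    (tmap_surjective d π hπ)
  have hu : (SymTen.tmap A d π).toLinearMap.lTensor S (z' - z) = 0 := by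
    rw [map_sub, h, sub_self]
  obtain ⟨v, hv⟩ := (hex (z' - z)).mp hu
  have := Glaw_add_lTensor d e γ π hπ S v z
  rw [hv, add_sub_cancel] at this
  exact this.symm

lemma Glaw_wd (hπ : Function.Surjective π) (S : Type u) [CommSemiring S] [inst : Algebra A S]
    (z z' : S ⊗[A] Tp A P d)
    (h : (SymTen.tmap A d π).toLinearMap.lTensor S z =
      (SymTen.tmap A d π).toLinearMap.lTensor S z') :
    (Glaw d e γ π).law.toFun' S z = (Glaw d e γ π).law.toFun' S z' :=
  @Glaw_wd_ring A _ P B C _ _ _ _ _ _ d I _ e γ π hπ S (commRingOfAlgebra A S) inst z z' h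

/-- The norm law `T^d(B) → C`. -/
noncomputable def Flaw (hπ : Function.Surjective π) : Tp A B d →ₚₗ[A] C :=
  descLaw (SymTen.tmap A d π).toLinearMap (tmap_surjective d π hπ) (Glaw d e γ π).law
    (Glaw_wd d e γ π hπ)

lemma Flaw_apply (hπ : Function.Surjective π) (S : Type u) [CommSemiring S] [Algebra A S]
    (z : S ⊗[A] Tp A P d) :
    (Flaw d e γ π hπ).toFun' S ((SymTen.tmap A d π).toLinearMap.lTensor S z) =
      (Glaw d e γ π).law.toFun' S z :=
  descLaw_apply _ _ _ _ S z

/-- The norm law as a multiplicative law of degree `d!`. -/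
noncomputable def FM (hπ : Function.Surjective π) :
    PolLaw.MulLaw A (Tp A B d) C d.factorial where
  law := Flaw d e γ π hπ
  homog := by
    intro S _ _ s x
    obtain ⟨z, rfl⟩ := LinearMap.lTensor_surjective S (g := (SymTen.tmap A d π).toLinearMap) (tmap_surjective d π hπ) x
    rw [← lTensor_smul, Flaw_apply, Flaw_apply]
    exact (Glaw d e γ π).homog S s z
  mult := by
    intro S _ _
    refine ⟨?_, fun x y => ?_⟩
    · have h1 : (1 : S ⊗[A] Tp A B d) = (SymTen.tmap A d π).toLinearMap.lTensor S 1 := by
        rw [PolLaw.lTensor_algHom_apply, map_one]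
      rw [h1, Flaw_apply]
      exact ((Glaw d e γ π).mult S).1
    · obtain ⟨z, rfl⟩ := LinearMap.lTensor_surjective S (g := (SymTen.tmap A d π).toLinearMap) (tmap_surjective d π hπ) x
      obtain ⟨z', rfl⟩ := LinearMap.lTensor_surjective S (g := (SymTen.tmap A d π).toLinearMap) (tmap_surjective d π hπ) y
      have h1 : (SymTen.tmap A d π).toLinearMap.lTensor S z *
          (SymTen.tmap A d π).toLinearMap.lTensor S z' =
          (SymTen.tmap A d π).toLinearMap.lTensor S (z * z') := by
        rw [PolLaw.lTensor_algHom_apply, PolLaw.lTensor_algHom_apply, PolLaw.lTensor_algHom_apply,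
          map_mul]
      rw [h1, Flaw_apply, Flaw_apply, Flaw_apply]
      exact ((Glaw d e γ π).mult S).2 z z'

end WD

end Groth.Agent.Lib.Helper6.ZC
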