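import Mathlib
import Groth.Prelude.Def_PolLaw
import Groth.Prelude.Def_SymTen
import Groth.Agent.Lib.Helper6.ZC.FlatTS
import Groth.Agent.Lib.Helper6.ZC.NormDesc3
import Groth.Agent.Lib.Helper6.ZC.CHGen

/-!
# `TS^d(B)` is the divided power algebra for `B` flat or `d!` invertible (helper6)
-/

set_option autoImplicit false
set_option linter.unusedSectionVars false
set_option linter.unusedVariables false
set_option linter.unusedSimpArgs false
set_option linter.style.haveILetI false
set_option maxHeartbeats 400000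
universe u
open scoped TensorProduct

namespace Groth.Agent.Lib.Helper6.ZC

section Skeleton

variable {A B : Type u} [CommRing A] [CommRing B] [Algebra A B] (d : ℕ)
  {P : Type u} [CommRing P] [Algebra A P] {I : Type u} [DecidableEq I] (e : Module.Basis I A P)
  (π : P →ₐ[A] B) (hπ : Function.Surjective π)
  (H1 : ∀ (S : Type u) [CommSemiring S] [Algebra A S],
    Function.Injective ((SymTen.TS A B d).val.toLinearMap.lTensor S))

include H1 in
lemma τB_wd (S : Type u) [CommSemiring S] [Algebra A S] (z z' : S ⊗[A] P)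
    (h : π.toLinearMap.lTensor S z = π.toLinearMap.lTensor S z') :
    (PolLaw.postcomp (SymTen.TSmap A d π).toLinearMap (τlaw d e)).toFun' S z =
      (PolLaw.postcomp (SymTen.TSmap A d π).toLinearMap (τlaw d e)).toFun' S z' := by
  apply H1 S
  show (SymTen.TS A B d).val.toLinearMap.lTensor S
      ((SymTen.TSmap A d π).toLinearMap.lTensor S ((τlaw d e).toFun' S z)) =
    (SymTen.TS A B d).val.toLinearMap.lTensor S
      ((SymTen.TSmap A d π).toLinearMap.lTensor S ((τlaw d e).toFun' S z'))
  rw [lTensor_val_TSmap, lTensor_val_TSmap, val_τlaw, val_τlaw, pw_natural, pw_natural, h]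

/-- The law `x ↦ x ⊗ ⋯ ⊗ x` into `TS^d(B)`. -/
noncomputable def τBlaw : B →ₚₗ[A] SymTen.TS A B d :=
  descLaw π.toLinearMap hπ (PolLaw.postcomp (SymTen.TSmap A d π).toLinearMap (τlaw d e))
    (τB_wd d e π H1)

lemma τBlaw_apply (S : Type u) [CommSemiring S] [Algebra A S] (z : S ⊗[A] P) :
    (τBlaw d e π hπ H1).toFun' S (π.toLinearMap.lTensor S z) =
      (SymTen.TSmap A d π).toLinearMap.lTensor S ((τlaw d e).toFun' S z) :=
  descLaw_apply _ _ _ _ S z

lemma val_τBlaw (S : Type u) [CommSemiring S] [Algebra A S] (x : S ⊗[A] B) :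
    (SymTen.TS A B d).val.toLinearMap.lTensor S ((τBlaw d e π hπ H1).toFun' S x) =
      (pw A B d).toFun' S x := by
  obtain ⟨z, rfl⟩ := LinearMap.lTensor_surjective S (g := π.toLinearMap) hπ x
  rw [τBlaw_apply, lTensor_val_TSmap, val_τlaw, pw_natural]

/-- The law into `TS^d(B)` as a multiplicative law. -/
noncomputable def τB : PolLaw.MulLaw A B (SymTen.TS A B d) d where
  law := τBlaw d e π hπ H1
  homog := by
    intro S _ _ s x
    apply H1 S
    rw [val_τBlaw, lTensor_smul, val_τBlaw]
    exact pw_isHomog A B d S s x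
  mult := by
    intro S _ _
    refine ⟨?_, fun x y => ?_⟩
    · apply H1 S
      rw [val_τBlaw, (pw_isMult A B d S).1, PolLaw.lTensor_algHom_apply, map_one]
    · apply H1 S
      rw [val_τBlaw, (pw_isMult A B d S).2, PolLaw.lTensor_algHom_apply, map_mul,
        ← PolLaw.lTensor_algHom_apply, ← PolLaw.lTensor_algHom_apply, val_τBlaw, val_τBlaw]

lemma τB_formula (S : Type u) [CommSemiring S] [Algebra A S] (n : ℕ) (s : Fin n → S)
    (b : Fin n → B) :
    (SymTen.TS A B d).val.toLinearMap.lTensor S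
        ((τB d e π hπ H1).law.toFun' S (∑ j, s j ⊗ₜ[A] b j)) =
      ∑ c : Fin d → Fin n, (∏ i, s (c i)) ⊗ₜ[A] PiTensorProduct.tprod A (fun i => b (c i)) := by
  show (SymTen.TS A B d).val.toLinearMap.lTensor S ((τBlaw d e π hπ H1).toFun' S _) = _
  rw [val_τBlaw, pw_sum_tmul_gen]

variable (H2 : Function.Surjective (SymTen.TSmap A d π))
  (H3 : ∀ (C' : Type u) [CommRing C'] [Algebra A C'] (F : PolLaw.MulLaw A B C' d)
    (t : SymTen.TS A P d), SymTen.tmap A d π t.1 = 0 → fA d e (F.precomp π) t = 0)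

include H2 H3 in
theorem isGammaD_τB : PolLaw.IsGammaD (τB d e π hπ H1) := by
  intro C' _ _ F
  have hker : RingHom.ker (SymTen.TSmap A d π).toRingHom ≤
      RingHom.ker (fA d e (F.precomp π)).toRingHom := by
    intro t ht
    have h0 : SymTen.TSmap A d π t = 0 := ht
    exact H3 C' F t (congrArg Subtype.val h0)
  let f : SymTen.TS A B d →ₐ[A] C' :=
    AlgHom.liftOfSurjective (SymTen.TSmap A d π) H2 (fA d e (F.precomp π)) hker
  have hf : ∀ t, f (SymTen.TSmap A d π t) = fA d e (F.precomp π) t :=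
    AlgHom.liftOfSurjective_apply _ H2 _ hker
  have hfl : f.toLinearMap ∘ₗ (SymTen.TSmap A d π).toLinearMap =
      (fA d e (F.precomp π)).toLinearMap := by
    ext t
    exact hf t
  refine ⟨f, ?_, ?_⟩
  · ext S _ _ x
    obtain ⟨z, rfl⟩ := LinearMap.lTensor_surjective S (g := π.toLinearMap) hπ x
    show f.toLinearMap.lTensor S ((τBlaw d e π hπ H1).toFun' S _) = _
    rw [τBlaw_apply, ← LinearMap.comp_apply, ← LinearMap.lTensor_comp, hfl]
    have h1 := congrArg (fun G : P →ₚₗ[A] C' => G.toFun' S z) (postcomp_fA d e (F.precomp π))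
    exact h1
  · intro g hg
    have hgl : g.toLinearMap ∘ₗ (SymTen.TSmap A d π).toLinearMap =
        (fA d e (F.precomp π)).toLinearMap := by
      apply linearMap_ext_of_postcomp d e
      ext S _ _ z
      show (g.toLinearMap ∘ₗ (SymTen.TSmap A d π).toLinearMap).lTensor S ((τlaw d e).toFun' S z) =
        (fA d e (F.precomp π)).toLinearMap.lTensor S ((τlaw d e).toFun' S z)
      rw [LinearMap.lTensor_comp, LinearMap.comp_apply, ← τBlaw_apply d e π hπ H1]
      have h1 := congrArg (fun G : B →ₚₗ[A] C' => G.toFun' S (π.toLinearMap.lTensor S z)) hg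
      have h2 := congrArg (fun G : P →ₚₗ[A] C' => G.toFun' S z) (postcomp_fA d e (F.precomp π))
      exact h1.trans h2.symm
    apply AlgHom.ext
    intro t
    obtain ⟨t', rfl⟩ := H2 t
    rw [hf]
    exact DFunLike.congr_fun hgl t'

end Skeleton

section Factorial

variable {A B : Type u} [CommRing A] [CommRing B] [Algebra A B] (d : ℕ)
  (hu : IsUnit ((d.factorial : ℕ) : A))

include hu in
/-- (H1) when `d!` is invertible. -/
lemma lTensor_val_injective_of_factorial (S : Type u) [CommSemiring S] [Algebra A S] :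
    Function.Injective ((SymTen.TS A B d).val.toLinearMap.lTensor S) := by
  obtain ⟨v, hv⟩ := hu
  let ρ' : Tp A B d →ₗ[A] SymTen.TS A B d := (↑(v⁻¹) : A) • Nsym A B d
  have h : ρ' ∘ₗ (SymTen.TS A B d).val.toLinearMap = LinearMap.id := by
    apply LinearMap.ext
    intro t
    show ((↑(v⁻¹) : A) • Nsym A B d (t : Tp A B d) : SymTen.TS A B d) = t
    rw [Nsym_val, ← Nat.cast_smul_eq_nsmul A, ← hv, smul_smul, Units.inv_mul, one_smul]
  have h2 : ρ'.lTensor S ∘ₗ (SymTen.TS A B d).val.toLinearMap.lTensor S = LinearMap.id := by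
    rw [← LinearMap.lTensor_comp, h, LinearMap.lTensor_id]
  intro x y hxy
  have := congrArg (ρ'.lTensor S) hxy
  rw [← LinearMap.comp_apply, ← LinearMap.comp_apply, h2] at this
  exact this

variable {P : Type u} [CommRing P] [Algebra A P] (π : P →ₐ[A] B)

include hu in
/-- (H2) when `d!` is invertible. -/
lemma TSmap_surjective_of_factorial (hπ : Function.Surjective π) :
    Function.Surjective (SymTen.TSmap A d π) := by
  obtain ⟨v, hv⟩ := hu
  intro t
  obtain ⟨z, hz⟩ := tmap_surjective d π hπ (t : Tp A B d)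
  refine ⟨(↑(v⁻¹) : A) • Nsym A P d z, ?_⟩
  apply Subtype.ext
  show SymTen.tmap A d π ((↑(v⁻¹) : A) • NT A P d z) = t.1
  rw [map_smul, tmap_NT, hz, NT_of_mem A B d t.2, ← Nat.cast_smul_eq_nsmul A, ← hv, smul_smul,
    Units.inv_mul, one_smul]

variable {I : Type u} [DecidableEq I] (e : Module.Basis I A P)

include hu in
/-- (H3) when `d!` is invertible. -/
lemma fA_eq_zero_of_factorial (hπ : Function.Surjective π) (C' : Type u) [CommRing C']
    [Algebra A C'] (F : PolLaw.MulLaw A B C' d) (t : SymTen.TS A P d)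
    (ht : SymTen.tmap A d π t.1 = 0) : fA d e (F.precomp π) t = 0 := by
  obtain ⟨v, hv⟩ := hu
  have h1 : d.factorial • fC d F e π t = ΘC d F e π (t : Tp A P d) := by
    show _ = fC d F e π (Nsym A P d (t : Tp A P d))
    rw [Nsym_val, map_nsmul]
  rw [ΘC_eq e π hπ, ht, map_zero] at h1
  have h2 : ((d.factorial : ℕ) : A) • fC d F e π t = 0 := by
    rw [Nat.cast_smul_eq_nsmul]; exact h1
  have h3 := congrArg (fun c => (↑(v⁻¹) : A) • c) h2
  simp only [smul_zero] at h3
  rw [← hv, smul_smul, Units.inv_mul, one_smul] at h3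
  exact h3

end Factorial

section Main

variable {A B : Type u} [CommRing A] [CommRing B] [Algebra A B] (d : ℕ)

/-- `TS^d(B)` is the divided power algebra of `B` when `B` is flat or `d!` is invertible. -/
theorem exists_τ_isGammaD (h : Module.Flat A B ∨ IsUnit ((d.factorial : ℕ) : A)) :
    ∃ τ : PolLaw.MulLaw A B (SymTen.TS A B d) d,
      (∀ (S : Type u) [CommSemiring S] [Algebra A S] (n : ℕ) (s : Fin n → S) (b : Fin n → B),
        (SymTen.TS A B d).val.toLinearMap.lTensor S (τ.law.toFun' S (∑ j, s j ⊗ₜ[A] b j)) =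
          ∑ c : Fin d → Fin n, (∏ i, s (c i)) ⊗ₜ[A] PiTensorProduct.tprod A (fun i => b (c i))) ∧
      PolLaw.IsGammaD τ := by
  classical
  rcases h with hflat | hu
  · haveI := hflat
    have H1 := fun (S : Type u) [CommSemiring S] [Algebra A S] =>
      lTensor_val_injective_of_flat (A := A) (B := B) d S
    refine ⟨τB d (MvPolynomial.basisMonomials B A) (πB A B) (πB_surjective A B) H1,
      τB_formula d _ _ _ H1, ?_⟩
    exact isGammaD_τB d _ _ _ H1 (TSmap_surjective_of_flat d (πB A B) (πB_surjective A B))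
      (fun C' _ _ F t ht =>
        fL_eq_zero_of_flat d (πB A B) (MvPolynomial.basisMonomials B A) F.law F.homog t ht)
  · have H1 := fun (S : Type u) [CommSemiring S] [Algebra A S] =>
      lTensor_val_injective_of_factorial (A := A) (B := B) d hu S
    refine ⟨τB d (MvPolynomial.basisMonomials B A) (πB A B) (πB_surjective A B) H1,
      τB_formula d _ _ _ H1, ?_⟩
    exact isGammaD_τB d _ _ _ H1
      (TSmap_surjective_of_factorial d hu (πB A B) (πB_surjective A B))
      (fun C' _ _ F t ht => fA_eq_zero_of_factorial d hu (πB A B)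
        (MvPolynomial.basisMonomials B A) (πB_surjective A B) C' F t ht)

end Main

end Groth.Agent.Lib.Helper6.ZC
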