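import Mathlib

/-!
# Idempotents, additive degree functions and counting components of a spectrum (helper6)

The first section (`idem_trivial`, `eq_X_pow`) is copied from helper4's `PolLawProd1`.
-/

set_option autoImplicit false
set_option linter.unusedSectionVars false
set_option linter.unusedVariables false
set_option linter.unusedSimpArgs false
set_option linter.style.haveILetI false
set_option maxHeartbeats 400000
universe u
open Polynomial

namespace Groth.Agent.Lib.Helper6.ZC

section Copied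

theorem idem_trivial {A : Type u} [CommRing A] [ConnectedSpace (PrimeSpectrum A)] (e : A)
    (he : IsIdempotentElem e) : e = 0 ∨ e = 1 := by
  have hcl : IsClopen ((PrimeSpectrum.basicOpen e : TopologicalSpace.Opens (PrimeSpectrum A)) :
      Set (PrimeSpectrum A)) := PrimeSpectrum.isClopen_iff.mpr ⟨e, he, rfl⟩
  rcases isClopen_iff.mp hcl with h | h
  · left
    have h1 : PrimeSpectrum.basicOpen e = ⊥ := by
      ext x; simp only [TopologicalSpace.Opens.coe_bot]; rw [← h]
    have hn := (PrimeSpectrum.basicOpen_eq_bot_iff e).mp h1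
    obtain ⟨n, hn⟩ := hn
    rcases Nat.eq_zero_or_pos n with rfl | hpos
    · rw [pow_zero] at hn
      have : Subsingleton A := subsingleton_of_zero_eq_one hn.symm
      exact Subsingleton.elim _ _
    · obtain ⟨n', rfl⟩ := Nat.exists_eq_succ_of_ne_zero (Nat.pos_iff_ne_zero.mp hpos)
      rwa [he.pow_succ_eq n'] at hn
  · right
    have h1 : PrimeSpectrum.basicOpen e = PrimeSpectrum.basicOpen (1 : A) := by
      rw [PrimeSpectrum.basicOpen_one]
      ext x; simp only [TopologicalSpace.Opens.coe_top]; rw [← h]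
    exact PrimeSpectrum.basicOpen_injOn_isIdempotentElem he IsIdempotentElem.one h1

variable {A : Type u} [CommRing A]

theorem aeval_CX (P : A[X]) : aeval (Polynomial.C (X : A[X]) : A[X][X]) P = Polynomial.C P := by
  have := Polynomial.aeval_algHom_apply (Polynomial.CAlgHom : A[X] →ₐ[A] A[X][X]) (X : A[X]) P
  rw [Polynomial.aeval_X_left_apply] at this
  exact this

theorem aeval_comp' (q : A[X][X]) (P : A[X]) :
    aeval q P = (P.map (Polynomial.C : A →+* A[X])).comp q := by
  rw [Polynomial.comp, Polynomial.eval₂_map, Polynomial.aeval_def]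
  rfl

theorem aeval_X' (P : A[X]) : aeval (X : A[X][X]) P = P.map (Polynomial.C : A →+* A[X]) := by
  rw [aeval_comp', Polynomial.comp_X]

theorem eq_X_pow [ConnectedSpace (PrimeSpectrum A)] (P : A[X]) (h1 : P.eval 1 = 1)
    (hmul : aeval (Polynomial.C (X : A[X]) : A[X][X]) P * aeval (X : A[X][X]) P =
      aeval (Polynomial.C (X : A[X]) * X : A[X][X]) P) : ∃ k : ℕ, P = X ^ k := by
  rw [aeval_CX, aeval_X', aeval_comp'] at hmul
  have hkl : ∀ k l : ℕ, P.coeff k * P.coeff l = if k = l then P.coeff l else 0 := by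
    intro k l
    have h2 := congrArg (fun p => (p.coeff l).coeff k) hmul
    simp only [Polynomial.coeff_C_mul, Polynomial.coeff_map, Polynomial.comp_C_mul_X_coeff,
      Polynomial.coeff_mul_C, Polynomial.coeff_C_mul, Polynomial.coeff_X_pow] at h2
    rw [h2]
    split_ifs <;> simp
  have hidem : ∀ k, P.coeff k = 0 ∨ P.coeff k = 1 := by
    intro k
    apply idem_trivial
    have := hkl k k
    rwa [if_pos rfl] at this
  have hnt : Nontrivial A := by
    by_contra hn
    rw [not_nontrivial_iff_subsingleton] at hn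
    have : IsEmpty (PrimeSpectrum A) := inferInstance
    exact (not_isEmpty_of_nonempty (PrimeSpectrum A)) this
  have hex : ∃ k, P.coeff k = 1 := by
    by_contra hne
    push Not at hne
    have : P = 0 := by
      ext k
      rcases hidem k with h | h
      · simpa using h
      · exact absurd h (hne k)
    rw [this, Polynomial.eval_zero] at h1
    exact zero_ne_one h1
  obtain ⟨k, hk⟩ := hex
  refine ⟨k, ?_⟩
  ext l
  rw [Polynomial.coeff_X_pow]
  by_cases hlk : l = k
  · rw [if_pos hlk, hlk, hk]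
  · rw [if_neg hlk]
    have := hkl l k
    rw [if_neg hlk, hk, mul_one] at this
    exact this

theorem nontrivial_of_connected [ConnectedSpace (PrimeSpectrum A)] : Nontrivial A := by
  by_contra hn
  rw [not_nontrivial_iff_subsingleton] at hn
  have : IsEmpty (PrimeSpectrum A) := inferInstance
  exact (not_isEmpty_of_nonempty (PrimeSpectrum A)) this

end Copied

section Count

variable {R : Type*} [CommRing R]

lemma basicOpen_add_of_mul_eq_zero {e₁ e₂ : R} (h : e₁ * e₂ = 0) :
    (PrimeSpectrum.basicOpen (e₁ + e₂) : Set (PrimeSpectrum R)) =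
      (PrimeSpectrum.basicOpen e₁ : Set (PrimeSpectrum R)) ∪ PrimeSpectrum.basicOpen e₂ := by
  ext x
  simp only [Set.mem_union, SetLike.mem_coe, PrimeSpectrum.mem_basicOpen]
  constructor
  · intro hx
    by_contra hcon
    push Not at hcon
    exact hx (x.asIdeal.add_mem hcon.1 hcon.2)
  · rintro (hx | hx)
    · intro hsum
      have h2 : e₂ ∈ x.asIdeal := by
        have : e₁ * e₂ ∈ x.asIdeal := by rw [h]; exact x.asIdeal.zero_mem
        exact (x.2.mem_or_mem this).resolve_left hx
      exact hx (by simpa using x.asIdeal.sub_mem hsum h2)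
    · intro hsum
      have h2 : e₁ ∈ x.asIdeal := by
        have : e₁ * e₂ ∈ x.asIdeal := by rw [h]; exact x.asIdeal.zero_mem
        exact (x.2.mem_or_mem this).resolve_right hx
      exact hx (by simpa using x.asIdeal.sub_mem hsum h2)

/-- The abstract counting lemma. -/
theorem ncard_image_basicOpen_le {Y : Type*} (q : PrimeSpectrum R → Y) (μ : R → ℕ)
    (hμ0 : ∀ e : R, IsIdempotentElem e → μ e = 0 → e = 0)
    (hμadd : ∀ e₁ e₂ : R, IsIdempotentElem e₁ → IsIdempotentElem e₂ → e₁ * e₂ = 0 →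
      μ (e₁ + e₂) = μ e₁ + μ e₂)
    (hsplit : ∀ e : R, IsIdempotentElem e →
      (q '' (PrimeSpectrum.basicOpen e : Set (PrimeSpectrum R))).Subsingleton ∨
      ∃ e₁ e₂ : R, IsIdempotentElem e₁ ∧ IsIdempotentElem e₂ ∧ e₁ * e₂ = 0 ∧ e₁ + e₂ = e ∧
        e₁ ≠ 0 ∧ e₂ ≠ 0) :
    ∀ (n : ℕ) (e : R), IsIdempotentElem e → μ e = n →
      (q '' (PrimeSpectrum.basicOpen e : Set (PrimeSpectrum R))).Finite ∧
      (q '' (PrimeSpectrum.basicOpen e : Set (PrimeSpectrum R))).ncard ≤ n := by
  intro n
  induction n using Nat.strong_induction_on with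
  | _ n ih =>
    intro e he hn
    by_cases he0 : e = 0
    · subst he0
      simp
    have hn0 : n ≠ 0 := fun h => he0 (hμ0 e he (hn.trans h))
    rcases hsplit e he with hs | ⟨e₁, e₂, h1, h2, h12, hsum, hne1, hne2⟩
    · refine ⟨hs.finite, ?_⟩
      have h3 : (q '' (PrimeSpectrum.basicOpen e : Set (PrimeSpectrum R))).ncard ≤ 1 :=
        (Set.ncard_le_one hs.finite).mpr (fun a ha b hb => hs ha hb)
      omega
    · have hadd := hμadd e₁ e₂ h1 h2 h12
      rw [hsum, hn] at hadd
      have hm1 : μ e₁ ≠ 0 := fun h => hne1 (hμ0 e₁ h1 h)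
      have hm2 : μ e₂ ≠ 0 := fun h => hne2 (hμ0 e₂ h2 h)
      obtain ⟨hf1, hc1⟩ := ih (μ e₁) (by omega) e₁ h1 rfl
      obtain ⟨hf2, hc2⟩ := ih (μ e₂) (by omega) e₂ h2 rfl
      rw [← hsum, basicOpen_add_of_mul_eq_zero h12, Set.image_union]
      refine ⟨hf1.union hf2, ?_⟩
      have := Set.ncard_union_le (q '' (PrimeSpectrum.basicOpen e₁ : Set (PrimeSpectrum R)))
        (q '' (PrimeSpectrum.basicOpen e₂ : Set (PrimeSpectrum R)))
      omega

lemma idem_mul_ne_zero_of_mem {e f : R} {x : PrimeSpectrum R}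
    (hx : x ∈ (PrimeSpectrum.basicOpen e : Set (PrimeSpectrum R))) (hf : f ∉ x.asIdeal) :
    e * f ≠ 0 := by
  intro h
  have : e * f ∈ x.asIdeal := by rw [h]; exact x.asIdeal.zero_mem
  rcases x.2.mem_or_mem this with h1 | h1
  · exact hx h1
  · exact hf h1

lemma split_of_idem {e f : R} (he : IsIdempotentElem e) (hf : IsIdempotentElem f)
    {x y : PrimeSpectrum R}
    (hx : x ∈ (PrimeSpectrum.basicOpen e : Set (PrimeSpectrum R)))
    (hy : y ∈ (PrimeSpectrum.basicOpen e : Set (PrimeSpectrum R)))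
    (hfx : f ∈ x.asIdeal) (hfy : f ∉ y.asIdeal) :
    ∃ e₁ e₂ : R, IsIdempotentElem e₁ ∧ IsIdempotentElem e₂ ∧ e₁ * e₂ = 0 ∧ e₁ + e₂ = e ∧
      e₁ ≠ 0 ∧ e₂ ≠ 0 := by
  refine ⟨e * f, e * (1 - f), he.mul hf, he.mul hf.one_sub, ?_, by ring, ?_, ?_⟩
  · have h1 : f * (1 - f) = 0 := by
      have := hf.eq
      linear_combination -this
    calc e * f * (e * (1 - f)) = e * e * (f * (1 - f)) := by ring
      _ = 0 := by rw [h1, mul_zero]
  · exact idem_mul_ne_zero_of_mem hy hfy
  · refine idem_mul_ne_zero_of_mem hx ?_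
    intro h
    have : (1 : R) ∈ x.asIdeal := by
      have := x.asIdeal.add_mem h hfx
      simpa using this
    exact x.2.ne_top ((Ideal.eq_top_iff_one _).mpr this)

lemma split_of_not_preconnected {e : R} (he : IsIdempotentElem e)
    (h : ¬ IsPreconnected (PrimeSpectrum.basicOpen e : Set (PrimeSpectrum R))) :
    ∃ e₁ e₂ : R, IsIdempotentElem e₁ ∧ IsIdempotentElem e₂ ∧ e₁ * e₂ = 0 ∧ e₁ + e₂ = e ∧
      e₁ ≠ 0 ∧ e₂ ≠ 0 := by
  set D : Set (PrimeSpectrum R) := (PrimeSpectrum.basicOpen e : Set (PrimeSpectrum R)) with hD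
  have hDclopen : IsClopen D := PrimeSpectrum.isClopen_iff.mpr ⟨e, he, rfl⟩
  unfold IsPreconnected at h
  push Not at h
  obtain ⟨u, v, hu, hv, huv, ⟨x, hxD, hxu⟩, ⟨y, hyD, hyv⟩, hempty⟩ := h
  have hW : IsClopen (D ∩ u) := by
    refine ⟨?_, hDclopen.2.inter hu⟩
    have : D ∩ u = D ∩ vᶜ := by
      ext z
      constructor
      · rintro ⟨hz1, hz2⟩
        refine ⟨hz1, fun hz3 => ?_⟩
        exact (Set.eq_empty_iff_forall_notMem.mp hempty z) ⟨hz1, hz2, hz3⟩
      · rintro ⟨hz1, hz2⟩
        exact ⟨hz1, (huv hz1).resolve_right hz2⟩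
    rw [this]
    exact hDclopen.1.inter hv.isClosed_compl
  obtain ⟨f, hf, hWf⟩ := PrimeSpectrum.isClopen_iff.mp hW
  -- `x ∈ D(f)`, `y ∉ D(f)`
  have hxf : (1 - f) ∈ x.asIdeal := by
    have hx1 : x ∈ (PrimeSpectrum.basicOpen f : Set (PrimeSpectrum R)) := by
      rw [← hWf]; exact ⟨hxD, hxu⟩
    have h1 : f * (1 - f) ∈ x.asIdeal := by
      have : f * (1 - f) = 0 := by
        have := hf.eq
        linear_combination -this
      rw [this]; exact x.asIdeal.zero_mem
    exact (x.2.mem_or_mem h1).resolve_left hx1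
  have hyf : (1 - f) ∉ y.asIdeal := by
    intro h1
    have hy1 : y ∉ (PrimeSpectrum.basicOpen f : Set (PrimeSpectrum R)) := by
      rw [← hWf]
      rintro ⟨_, hyu⟩
      exact (Set.eq_empty_iff_forall_notMem.mp hempty y) ⟨hyD, hyu, hyv⟩
    have hy2 : f ∈ y.asIdeal := by
      by_contra h2
      exact hy1 h2
    have : (1 : R) ∈ y.asIdeal := by
      have := y.asIdeal.add_mem h1 hy2
      simpa using this
    exact y.2.ne_top ((Ideal.eq_top_iff_one _).mpr this)
  exact split_of_idem he hf.one_sub hxD hyD hxf hyf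

/-- Counting connected components with an additive degree function on idempotents. -/
theorem card_connectedComponents_le (μ : R → ℕ) (d : ℕ)
    (hμ0 : ∀ e : R, IsIdempotentElem e → μ e = 0 → e = 0)
    (hμadd : ∀ e₁ e₂ : R, IsIdempotentElem e₁ → IsIdempotentElem e₂ → e₁ * e₂ = 0 →
      μ (e₁ + e₂) = μ e₁ + μ e₂)
    (hμ1 : μ 1 = d) :
    Finite (ConnectedComponents (PrimeSpectrum R)) ∧
      Nat.card (ConnectedComponents (PrimeSpectrum R)) ≤ d := by
  have hsplit : ∀ e : R, IsIdempotentElem e →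
      ((ConnectedComponents.mk : PrimeSpectrum R → _) ''
        (PrimeSpectrum.basicOpen e : Set (PrimeSpectrum R))).Subsingleton ∨
      ∃ e₁ e₂ : R, IsIdempotentElem e₁ ∧ IsIdempotentElem e₂ ∧ e₁ * e₂ = 0 ∧ e₁ + e₂ = e ∧
        e₁ ≠ 0 ∧ e₂ ≠ 0 := by
    intro e he
    by_cases hpre : IsPreconnected (PrimeSpectrum.basicOpen e : Set (PrimeSpectrum R))
    · left
      rintro _ ⟨x, hx, rfl⟩ _ ⟨y, hy, rfl⟩
      rw [ConnectedComponents.coe_eq_coe']
      exact hpre.subset_connectedComponent hy hx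
    · right
      exact split_of_not_preconnected he hpre
  obtain ⟨hfin, hcard⟩ := ncard_image_basicOpen_le (ConnectedComponents.mk) μ hμ0 hμadd hsplit d 1
    IsIdempotentElem.one hμ1
  have h1 : ((ConnectedComponents.mk : PrimeSpectrum R → _) ''
      (PrimeSpectrum.basicOpen (1 : R) : Set (PrimeSpectrum R))) = Set.univ := by
    rw [PrimeSpectrum.basicOpen_one]
    simp only [TopologicalSpace.Opens.coe_top, Set.image_univ]
    exact Set.range_eq_univ.mpr ConnectedComponents.surjective_coe
  rw [h1] at hfin hcard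
  have : Finite (ConnectedComponents (PrimeSpectrum R)) := Set.finite_univ_iff.mp hfin
  refine ⟨this, ?_⟩
  rw [Set.ncard_univ] at hcard
  exact hcard

/-- Counting points with an additive degree function on idempotents, when points are separated
by idempotents. -/
theorem card_primeSpectrum_le (μ : R → ℕ) (d : ℕ)
    (hμ0 : ∀ e : R, IsIdempotentElem e → μ e = 0 → e = 0)
    (hμadd : ∀ e₁ e₂ : R, IsIdempotentElem e₁ → IsIdempotentElem e₂ → e₁ * e₂ = 0 →
      μ (e₁ + e₂) = μ e₁ + μ e₂)
    (hμ1 : μ 1 = d)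
    (hsep : ∀ x y : PrimeSpectrum R, x ≠ y → ∃ f : R, IsIdempotentElem f ∧ f ∈ x.asIdeal ∧
      f ∉ y.asIdeal) :
    Finite (PrimeSpectrum R) ∧ Nat.card (PrimeSpectrum R) ≤ d := by
  have hsplit : ∀ e : R, IsIdempotentElem e →
      ((id : PrimeSpectrum R → _) ''
        (PrimeSpectrum.basicOpen e : Set (PrimeSpectrum R))).Subsingleton ∨
      ∃ e₁ e₂ : R, IsIdempotentElem e₁ ∧ IsIdempotentElem e₂ ∧ e₁ * e₂ = 0 ∧ e₁ + e₂ = e ∧
        e₁ ≠ 0 ∧ e₂ ≠ 0 := by
    intro e he
    by_cases hs : (PrimeSpectrum.basicOpen e : Set (PrimeSpectrum R)).Subsingleton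
    · left
      rw [Set.image_id]
      exact hs
    · right
      rw [Set.not_subsingleton_iff] at hs
      obtain ⟨x, hx, y, hy, hxy⟩ := hs
      obtain ⟨f, hf, hfx, hfy⟩ := hsep x y hxy
      exact split_of_idem he hf hx hy hfx hfy
  obtain ⟨hfin, hcard⟩ := ncard_image_basicOpen_le id μ hμ0 hμadd hsplit d 1
    IsIdempotentElem.one hμ1
  rw [Set.image_id, PrimeSpectrum.basicOpen_one] at hfin hcard
  simp only [TopologicalSpace.Opens.coe_top] at hfin hcard
  have : Finite (PrimeSpectrum R) := Set.finite_univ_iff.mp hfin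
  refine ⟨this, ?_⟩
  rw [Set.ncard_univ] at hcard
  exact hcard

end Count

section Sep

lemma isMaximal_of_isIntegral_field (k : Type*) [Field k] {R : Type*} [CommRing R] [Algebra k R]
    [Algebra.IsIntegral k R] (P : Ideal R) [P.IsPrime] : P.IsMaximal := by
  have h1 : (P.comap (algebraMap k R)).IsMaximal := by
    have : P.comap (algebraMap k R) = ⊥ := by
      have hp : (P.comap (algebraMap k R)).IsPrime := Ideal.comap_isPrime _ _
      rcases Ideal.eq_bot_or_top (P.comap (algebraMap k R)) with h | h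
      · exact h
      · exact absurd h hp.ne_top
    rw [this]
    exact Ideal.bot_isMaximal
  exact Ideal.isMaximal_of_isIntegral_of_isMaximal_comap P h1

/-- In a ring integral over a field, distinct primes are separated by idempotents. -/
theorem exists_idem_sep (k : Type*) [Field k] {R : Type*} [CommRing R] [Algebra k R]
    [Algebra.IsIntegral k R] (x y : PrimeSpectrum R) (hxy : x ≠ y) :
    ∃ f : R, IsIdempotentElem f ∧ f ∈ x.asIdeal ∧ f ∉ y.asIdeal := by
  have hxmax : x.asIdeal.IsMaximal := isMaximal_of_isIntegral_field k x.asIdeal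
  -- an element of `x` not in `y`
  have h1 : ¬ x.asIdeal ≤ y.asIdeal := by
    intro hle
    apply hxy
    ext1
    exact hxmax.eq_of_le y.2.ne_top hle
  obtain ⟨a, hax, hay⟩ := Set.not_subset.mp h1
  obtain ⟨μ, hμmonic, hμa⟩ := Algebra.IsIntegral.isIntegral (R := k) a
  rw [← Polynomial.aeval_def] at hμa
  have hμ0 : μ ≠ 0 := hμmonic.ne_zero
  obtain ⟨g, hg, hgdvd⟩ := Polynomial.exists_eq_pow_rootMultiplicity_mul_and_not_dvd μ hμ0 0
  set m := Polynomial.rootMultiplicity 0 μ with hm
  rw [Polynomial.C_0, sub_zero] at hg hgdvd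
  -- `m ≥ 1`
  have hm1 : m ≠ 0 := by
    intro hm0
    rw [hm0, pow_zero, one_mul] at hg
    -- `g(a) = 0`, so `g(0) ∈ x`, so `g(0) = 0`
    have h2 : Polynomial.aeval a g = 0 := by rw [← hg]; exact hμa
    have h3 : algebraMap k R (g.coeff 0) ∈ x.asIdeal := by
      have h4 := Polynomial.aeval_eq_sum_range (p := g) a
      -- use `g = X * divX g + C (g.coeff 0)`
      have h5 := Polynomial.divX_mul_X_add g
      have h6 : Polynomial.aeval a g = Polynomial.aeval a g.divX * a +
          algebraMap k R (g.coeff 0) := by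
        conv_lhs => rw [← h5]
        simp
      rw [h2] at h6
      have h7 : algebraMap k R (g.coeff 0) = -(Polynomial.aeval a g.divX * a) := by
        linear_combination -h6
      rw [h7]
      exact x.asIdeal.neg_mem (x.asIdeal.mul_mem_left _ hax)
    have h8 : g.coeff 0 = 0 := by
      by_contra hne
      have : (1 : R) ∈ x.asIdeal := by
        have := x.asIdeal.mul_mem_left (algebraMap k R (g.coeff 0)⁻¹) h3
        rwa [← map_mul, inv_mul_cancel₀ hne, map_one] at this
      exact x.2.ne_top ((Ideal.eq_top_iff_one _).mpr this)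
    exact hgdvd (Polynomial.X_dvd_iff.mpr h8)
  -- coprimality
  have hcop : IsCoprime ((Polynomial.X : Polynomial k) ^ m) g :=
    IsCoprime.pow_left ((Polynomial.irreducible_X.coprime_iff_not_dvd).mpr hgdvd)
  obtain ⟨u, v, huv⟩ := hcop
  have h9 := congrArg (Polynomial.aeval a) huv
  simp only [map_add, map_mul, map_pow, Polynomial.aeval_X, map_one] at h9
  have h10 : a ^ m * Polynomial.aeval a g = 0 := by
    have := hμa
    rw [hg] at this
    simpa using this
  set f := Polynomial.aeval a u * a ^ m with hf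
  have hf1 : 1 - f = Polynomial.aeval a v * Polynomial.aeval a g := by
    rw [hf]; linear_combination -h9
  refine ⟨f, ?_, ?_, ?_⟩
  · have : f * (1 - f) = 0 := by
      rw [hf1, hf]
      calc Polynomial.aeval a u * a ^ m * (Polynomial.aeval a v * Polynomial.aeval a g)
          = Polynomial.aeval a u * Polynomial.aeval a v * (a ^ m * Polynomial.aeval a g) := by ring
        _ = 0 := by rw [h10, mul_zero]
    show f * f = f
    linear_combination -this
  · rw [hf]
    refine x.asIdeal.mul_mem_left _ ?_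
    obtain ⟨m', hm'⟩ := Nat.exists_eq_succ_of_ne_zero hm1
    rw [hm', pow_succ]
    exact x.asIdeal.mul_mem_left _ hax
  · intro hfy
    have h11 : Polynomial.aeval a g ∈ y.asIdeal := by
      have : a ^ m * Polynomial.aeval a g ∈ y.asIdeal := by rw [h10]; exact y.asIdeal.zero_mem
      rcases y.2.mem_or_mem this with h | h
      · exact absurd (y.2.mem_of_pow_mem m h) hay
      · exact h
    have : (1 : R) ∈ y.asIdeal := by
      have h12 : (1 : R) = f + (1 - f) := by ring
      rw [h12, hf1]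
      exact y.asIdeal.add_mem hfy (y.asIdeal.mul_mem_left _ h11)
    exact y.2.ne_top ((Ideal.eq_top_iff_one _).mpr this)

end Sep

end Groth.Agent.Lib.Helper6.ZC
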