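import Mathlib
import Groth.Prelude.Def_PolLaw
import Groth.Agent.Lib.Helper6.ZC.BCRad
import Groth.Agent.Lib.Helper6.ZC.Idem

/-!
# The relative kernel of a multiplicative law and the degree of an idempotent (helper6)
-/

set_option autoImplicit false
set_option linter.unusedSectionVars false
set_option linter.unusedVariables false
set_option linter.unusedSimpArgs false
set_option linter.style.haveILetI false
set_option maxHeartbeats 400000
universe u
open scoped TensorProduct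
open Polynomial

namespace Groth.Agent.Lib.Helper6.ZC

section RelKer

variable {A : Type u} [CommRing A] {B : Type u} [CommRing B] [Algebra A B] {d : ℕ}
variable (F : PolLaw.MulLaw A B A d)
variable (T : Type u) [CommRing T] [Algebra A T]

/-- The kernel of the base change of `F` to `T`, as an ideal of `T ⊗ B`. -/
def relKer : Ideal (T ⊗[A] B) where
  carrier := {z | InKer F.law T z}
  zero_mem' := InKer.zero
  add_mem' hz hz' := hz.add hz'
  smul_mem' c z hz := hz.mul_left c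

lemma mem_relKer {z : T ⊗[A] B} : z ∈ relKer F T ↔ InKer F.law T z := Iff.rfl

lemma extKer_le_relKer : extKer F.law T ≤ relKer F T := fun z hz => inKer_of_mem_map hz

lemma relKer_le_radical : relKer F T ≤ (extKer F.law T).radical := by
  intro z hz
  refine ⟨d, ?_⟩
  have h1 := hz (Polynomial T) Polynomial.CAlgHom
    (-((Polynomial.X : Polynomial T) ⊗ₜ[A] (1 : B))) 1
  have h3 := neg_pow_mem_extKer F T z h1
  have h4 : z ^ d = (-1) ^ d * (-z) ^ d := by
    rw [← mul_pow]; simp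
  rw [h4]
  exact Ideal.mul_mem_left _ _ h3

lemma radical_relKer : (relKer F T).radical = (extKer F.law T).radical := by
  apply le_antisymm
  · rw [Ideal.radical_le_radical_iff]
    exact relKer_le_radical F T
  · exact Ideal.radical_mono (extKer_le_relKer F T)

variable {T}

lemma Fh_one (S : Type u) [CommRing S] [Algebra A S] : Fh F.law S 1 = 1 := by
  rw [Fh, (F.mult S).1, map_one]

lemma Fh_mul (S : Type u) [CommRing S] [Algebra A S] (x y : S ⊗[A] B) :
    Fh F.law S (x * y) = Fh F.law S x * Fh F.law S y := by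
  rw [Fh, (F.mult S).2, map_mul]
  rfl

lemma Fh_relKer {z : T ⊗[A] B} (hz : z ∈ relKer F T) {S : Type u} [CommRing S] [Algebra A S]
    (φ : T →ₐ[A] S) (p w : S ⊗[A] B) :
    Fh F.law S (p + w * bc B φ z) = Fh F.law S p :=
  (Fh_eq_iff _ _ _ _).mpr (hz S φ p w)

end RelKer

section Pe

variable {A : Type u} [CommRing A] {B : Type u} [CommRing B] [Algebra A B] {d : ℕ}
variable (F : PolLaw.MulLaw A B A d)
variable {T : Type u} [CommRing T] [Algebra A T]

/-- The element `(1 - e) + s e` over `S`. -/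
noncomputable def gE {S : Type u} [CommRing S] [Algebra A S] (φ : T →ₐ[A] S) (e : T ⊗[A] B)
    (s : S) : S ⊗[A] B :=
  (1 - bc B φ e) + (s ⊗ₜ[A] (1 : B)) * bc B φ e

lemma bc_gE {S S' : Type u} [CommRing S] [Algebra A S] [CommRing S'] [Algebra A S']
    (φ : T →ₐ[A] S) (ψ : S →ₐ[A] S') (e : T ⊗[A] B) (s : S) :
    bc B ψ (gE φ e s) = gE (ψ.comp φ) e (ψ s) := by
  rw [gE, gE, map_add, map_sub, map_one, map_mul, bc_comp, bc_tmul]

lemma tmul_one_mul {S : Type u} [CommRing S] [Algebra A S] (s t : S) :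
    (s * t) ⊗ₜ[A] (1 : B) = (s ⊗ₜ[A] (1 : B)) * (t ⊗ₜ[A] (1 : B)) := by
  rw [Algebra.TensorProduct.tmul_mul_tmul, mul_one]

/-- The polynomial `P_e(X) = F((1 - e) + X e)`. -/
noncomputable def Pe (e : T ⊗[A] B) : Polynomial T :=
  Fh F.law (Polynomial T) (gE (Polynomial.CAlgHom (R := A) (A := T)) e Polynomial.X)

lemma eval₂_Pe {S : Type u} [CommRing S] [Algebra A S] (φ : T →ₐ[A] S) (s : S) (e : T ⊗[A] B) :
    Polynomial.eval₂ (φ : T →+* S) s (Pe F e) = Fh F.law S (gE φ e s) := by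
  let ψ : Polynomial T →ₐ[A] S := Polynomial.eval₂AlgHom φ s (fun _ => Commute.all _ _)
  have h1 : ψ (Pe F e) = Polynomial.eval₂ (φ : T →+* S) s (Pe F e) := rfl
  rw [← h1, Pe, Fh_natural]
  show Fh F.law S (bc B ψ _) = _
  rw [bc_gE]
  have h2 : ψ.comp (Polynomial.CAlgHom (R := A) (A := T)) = φ := by
    apply AlgHom.ext
    intro t
    simp [ψ]
  have h3 : ψ Polynomial.X = s := by simp [ψ]
  rw [h2, h3]

/-- `e` is idempotent modulo the relative kernel. -/
def IsIdemMod (e : T ⊗[A] B) : Prop := e * e - e ∈ relKer F T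

lemma Fh_gE_mul {e : T ⊗[A] B} (he : IsIdemMod F e) {S : Type u} [CommRing S] [Algebra A S]
    (φ : T →ₐ[A] S) (s t : S) :
    Fh F.law S (gE φ e s) * Fh F.law S (gE φ e t) = Fh F.law S (gE φ e (s * t)) := by
  rw [← Fh_mul]
  have h1 : gE φ e s * gE φ e t = gE φ e (s * t) +
      ((1 - s ⊗ₜ[A] (1 : B)) * (1 - t ⊗ₜ[A] (1 : B))) * bc B φ (e * e - e) := by
    rw [gE, gE, gE, tmul_one_mul, map_sub, map_mul]
    ring
  rw [h1, Fh_relKer F he]

lemma Fh_gE_one (e : T ⊗[A] B) {S : Type u} [CommRing S] [Algebra A S] (φ : T →ₐ[A] S) :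
    Fh F.law S (gE φ e 1) = 1 := by
  have : gE φ e (1 : S) = 1 := by
    rw [gE, ← Algebra.TensorProduct.one_def]
    ring
  rw [this, Fh_one]

lemma Pe_eval_one (e : T ⊗[A] B) : (Pe F e).eval 1 = 1 := by
  have h := eval₂_Pe F (AlgHom.id A T) 1 e
  rw [Fh_gE_one] at h
  exact h

/-- Over a connected base, `P_e` is a power of `X`. -/
theorem Pe_eq_X_pow [ConnectedSpace (PrimeSpectrum T)] {e : T ⊗[A] B} (he : IsIdemMod F e) :
    ∃ k : ℕ, Pe F e = Polynomial.X ^ k := by
  apply eq_X_pow (Pe F e) (Pe_eval_one F e)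
  let φ : T →ₐ[A] Polynomial (Polynomial T) :=
    (Polynomial.CAlgHom (R := A) (A := Polynomial T)).comp (Polynomial.CAlgHom (R := A) (A := T))
  have h1 : ∀ s : Polynomial (Polynomial T), Polynomial.aeval s (Pe F e) =
      Polynomial.eval₂ (φ : T →+* Polynomial (Polynomial T)) s (Pe F e) := by
    intro s
    rw [Polynomial.aeval_def]
    rfl
  rw [h1, h1, h1, eval₂_Pe, eval₂_Pe, eval₂_Pe, Fh_gE_mul F he]

lemma Pe_congr {e e' : T ⊗[A] B} (h : e - e' ∈ relKer F T) : Pe F e = Pe F e' := by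
  rw [Pe, Pe]
  have h1 : gE (Polynomial.CAlgHom (R := A) (A := T)) e Polynomial.X =
      gE (Polynomial.CAlgHom (R := A) (A := T)) e' Polynomial.X +
        ((Polynomial.X : Polynomial T) ⊗ₜ[A] (1 : B) - 1) *
          bc B (Polynomial.CAlgHom (R := A) (A := T)) (e - e') := by
    rw [gE, gE, map_sub]
    ring
  rw [h1, Fh_relKer F h]

lemma Pe_add {e₁ e₂ : T ⊗[A] B} (h : e₁ * e₂ ∈ relKer F T) :
    Pe F (e₁ + e₂) = Pe F e₁ * Pe F e₂ := by
  rw [Pe, Pe, Pe, ← Fh_mul]
  have h1 : gE (Polynomial.CAlgHom (R := A) (A := T)) e₁ Polynomial.X *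
      gE (Polynomial.CAlgHom (R := A) (A := T)) e₂ Polynomial.X =
      gE (Polynomial.CAlgHom (R := A) (A := T)) (e₁ + e₂) Polynomial.X +
        ((1 - (Polynomial.X : Polynomial T) ⊗ₜ[A] (1 : B)) *
          (1 - (Polynomial.X : Polynomial T) ⊗ₜ[A] (1 : B))) *
          bc B (Polynomial.CAlgHom (R := A) (A := T)) (e₁ * e₂) := by
    rw [gE, gE, gE, map_add, map_mul]
    ring
  rw [h1, Fh_relKer F h]

lemma Pe_one : Pe F (1 : T ⊗[A] B) = Polynomial.X ^ d := by
  rw [Pe]
  have h1 : gE (Polynomial.CAlgHom (R := A) (A := T)) (1 : T ⊗[A] B) Polynomial.X =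
      (Polynomial.X : Polynomial T) ⊗ₜ[A] (1 : B) := by
    rw [gE, map_one]
    ring
  rw [h1, Fh_tmul_one]

/-- The element `(1 - e) + v e` over `S`, for a general `v`. -/
noncomputable def gV {S : Type u} [CommRing S] [Algebra A S] (φ : T →ₐ[A] S) (e : T ⊗[A] B)
    (v : S ⊗[A] B) : S ⊗[A] B :=
  (1 - bc B φ e) + v * bc B φ e

lemma bc_gV {S S' : Type u} [CommRing S] [Algebra A S] [CommRing S'] [Algebra A S']
    (φ : T →ₐ[A] S) (ψ : S →ₐ[A] S') (e : T ⊗[A] B) (v : S ⊗[A] B) :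
    bc B ψ (gV φ e v) = gV (ψ.comp φ) e (bc B ψ v) := by
  rw [gV, gV, map_add, map_sub, map_one, map_mul, bc_comp]

/-- If `P_e = 1` then `F((1 - e) + v e) = 1` for every `v`. -/
lemma Fh_gV_eq_one {e : T ⊗[A] B} (he : IsIdemMod F e) (hP : Pe F e = 1)
    {S : Type u} [CommRing S] [Algebra A S] (φ : T →ₐ[A] S) (v : S ⊗[A] B) :
    Fh F.law S (gV φ e v) = 1 := by
  let φ' : T →ₐ[A] Polynomial S := (Polynomial.CAlgHom (R := A) (A := S)).comp φ
  let v' : Polynomial S ⊗[A] B := bc B (Polynomial.CAlgHom (R := A) (A := S)) v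
  let Λ : Polynomial S ⊗[A] B := (Polynomial.X : Polynomial S) ⊗ₜ[A] (1 : B)
  have h1 : gE φ' e Polynomial.X * gV φ' e v' = gV φ' e (Λ * v') +
      ((1 - Λ) * (1 - v')) * bc B φ' (e * e - e) := by
    rw [gE, gV, gV, map_sub, map_mul]
    ring
  have h2 : Fh F.law (Polynomial S) (gE φ' e Polynomial.X) = 1 := by
    rw [← eval₂_Pe, hP, Polynomial.eval₂_one]
  have h3 : Fh F.law (Polynomial S) (gV φ' e (Λ * v')) = Fh F.law (Polynomial S) (gV φ' e v') := by
    rw [← Fh_relKer F he φ' (gV φ' e (Λ * v')) ((1 - Λ) * (1 - v')), ← h1, Fh_mul, h2, one_mul]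
  have h4 := congrArg (ev0 (A := A) S) h3
  rw [Fh_natural, Fh_natural] at h4
  have h5 : (ev0 (A := A) S).comp φ' = φ := by
    apply AlgHom.ext
    intro t
    simp [φ']
  have h6 : bc B (ev0 (A := A) S) v' = v := by
    simp only [v']
    rw [bc_comp]
    have : (ev0 (A := A) S).comp (Polynomial.CAlgHom (R := A) (A := S)) = AlgHom.id A S := by
      apply AlgHom.ext
      intro t
      simp
    rw [this, bc_id]
  have h7 : bc B (ev0 (A := A) S) Λ = 0 := by
    simp only [Λ]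
    rw [bc_tmul, ev0_X, TensorProduct.zero_tmul]
  change Fh F.law S (bc B (ev0 S) (gV φ' e (Λ * v'))) =
    Fh F.law S (bc B (ev0 S) (gV φ' e v')) at h4
  rw [bc_gV, bc_gV, h5, map_mul, h6, h7, zero_mul] at h4
  rw [← h4]
  have h8 : gV φ e (0 : S ⊗[A] B) = gE φ e 0 := by
    rw [gV, gE, TensorProduct.zero_tmul]
  rw [h8, ← eval₂_Pe, hP, Polynomial.eval₂_one]

/-- Degree zero: if `P_e = 1` then `e` lies in the relative kernel. -/
theorem mem_relKer_of_Pe_eq_one {e : T ⊗[A] B} (he : IsIdemMod F e) (hP : Pe F e = 1) :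
    e ∈ relKer F T := by
  intro S _ _ φ p w
  rw [← Fh_eq_iff]
  set E := bc B φ e with hE
  have hu : bc B φ (e * e - e) = E * E - E := by rw [map_sub, map_mul]
  have h1 : p + w * E = (p * (1 - E) + E) * gV φ e (p + w) +
      (-(2 * p - p * p - p * w - 1 + w)) * bc B φ (e * e - e) := by
    rw [hu, gV]
    ring
  have h2 : p = (p * (1 - E) + E) * gV φ e p +
      (-(2 * p - p * p - 1)) * bc B φ (e * e - e) := by
    rw [hu, gV]
    ring
  rw [h1, Fh_relKer F he, Fh_mul, Fh_gV_eq_one F he hP]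
  conv_rhs => rw [h2, Fh_relKer F he, Fh_mul, Fh_gV_eq_one F he hP]

end Pe

end Groth.Agent.Lib.Helper6.ZC
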