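import Mathlib
import Groth.Prelude.Def_PolLaw
import Groth.Agent.Lib.Helper6.ZC.Rel

/-!
# Counting the components and points of the relative support (helper6)
-/

set_option autoImplicit false
set_option linter.unusedSectionVars false
set_option linter.unusedVariables false
set_option linter.unusedSimpArgs false
set_option linter.style.haveILetI false
set_option maxHeartbeats 400000
universe u
open scoped TensorProduct
open Polynomial

namespace Groth.Agent.Lib.Helper6.ZC

section Quot

variable {A : Type u} [CommRing A] {B : Type u} [CommRing B] [Algebra A B] {d : ℕ}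
variable (F : PolLaw.MulLaw A B A d)
variable (T : Type u) [CommRing T] [Algebra A T]

/-- The coordinate ring of the relative image. -/
abbrev RT : Type u := (T ⊗[A] B) ⧸ relKer F T

variable {T}

/-- A lift of an element of the quotient. -/
noncomputable def liftRT (x : RT F T) : T ⊗[A] B :=
  Function.surjInv (Ideal.Quotient.mk_surjective (I := relKer F T)) x

lemma mk_liftRT (x : RT F T) : Ideal.Quotient.mk (relKer F T) (liftRT F x) = x :=
  Function.surjInv_eq _ x

lemma isIdemMod_liftRT {x : RT F T} (hx : IsIdempotentElem x) : IsIdemMod F (liftRT F x) := by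
  rw [IsIdemMod, ← Ideal.Quotient.eq_zero_iff_mem, map_sub, map_mul, mk_liftRT, hx.eq, sub_self]

section Connected

variable [ConnectedSpace (PrimeSpectrum T)]

/-- The degree of an idempotent of the quotient. -/
noncomputable def μT (x : RT F T) : ℕ := by
  classical
  exact if h : IsIdempotentElem x then Classical.choose (Pe_eq_X_pow F (isIdemMod_liftRT F h))
    else 0

lemma Pe_liftRT {x : RT F T} (hx : IsIdempotentElem x) :
    Pe F (liftRT F x) = Polynomial.X ^ μT F x := by
  rw [μT, dif_pos hx]
  exact Classical.choose_spec (Pe_eq_X_pow F (isIdemMod_liftRT F hx))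

lemma X_pow_inj_T {m n : ℕ} (h : (Polynomial.X : Polynomial T) ^ m = Polynomial.X ^ n) :
    m = n := by
  haveI : Nontrivial T := nontrivial_of_connected
  have := congrArg Polynomial.natDegree h
  rwa [Polynomial.natDegree_X_pow, Polynomial.natDegree_X_pow] at this

lemma μT_eq_zero {x : RT F T} (hx : IsIdempotentElem x) (h : μT F x = 0) : x = 0 := by
  have h1 := Pe_liftRT F hx
  rw [h, pow_zero] at h1
  have h2 := mem_relKer_of_Pe_eq_one F (isIdemMod_liftRT F hx) h1
  rw [← mk_liftRT F x]
  exact Ideal.Quotient.eq_zero_iff_mem.mpr h2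

lemma μT_add {x₁ x₂ : RT F T} (h1 : IsIdempotentElem x₁) (h2 : IsIdempotentElem x₂)
    (h12 : x₁ * x₂ = 0) : μT F (x₁ + x₂) = μT F x₁ + μT F x₂ := by
  have h3 : IsIdempotentElem (x₁ + x₂) := by
    show (x₁ + x₂) * (x₁ + x₂) = x₁ + x₂
    have e1 := h1.eq
    have e2 := h2.eq
    linear_combination e1 + e2 + 2 * h12
  apply X_pow_inj_T (T := T)
  rw [← Pe_liftRT F h3, pow_add, ← Pe_liftRT F h1, ← Pe_liftRT F h2]
  have h4 : liftRT F (x₁ + x₂) - (liftRT F x₁ + liftRT F x₂) ∈ relKer F T := by
    rw [← Ideal.Quotient.eq_zero_iff_mem, map_sub, map_add, mk_liftRT, mk_liftRT, mk_liftRT,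
      sub_self]
  have h5 : liftRT F x₁ * liftRT F x₂ ∈ relKer F T := by
    rw [← Ideal.Quotient.eq_zero_iff_mem, map_mul, mk_liftRT, mk_liftRT, h12]
  rw [Pe_congr F h4, Pe_add F h5]

lemma μT_one : μT F (1 : RT F T) = d := by
  apply X_pow_inj_T (T := T)
  rw [← Pe_liftRT F IsIdempotentElem.one, ← Pe_one F (T := T)]
  apply Pe_congr
  rw [← Ideal.Quotient.eq_zero_iff_mem, map_sub, mk_liftRT, map_one, sub_self]

/-- Over a connected base the relative support has at most `d` connected components. -/
theorem card_connectedComponents_RT_le :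
    Finite (ConnectedComponents (PrimeSpectrum (RT F T))) ∧
      Nat.card (ConnectedComponents (PrimeSpectrum (RT F T))) ≤ d :=
  card_connectedComponents_le (μT F) d (fun _ he h => μT_eq_zero F he h)
    (fun _ _ h1 h2 h12 => μT_add F h1 h2 h12) (μT_one F)

end Connected

section Integral

/-- The monic characteristic polynomial over `T`. -/
noncomputable def chiMT (y : T ⊗[A] B) : Polynomial T :=
  Polynomial.C ((-1 : T) ^ d) * chi T F.law y

lemma chiMT_monic (y : T ⊗[A] B) : (chiMT F y).Monic := by
  apply Polynomial.monic_of_natDegree_le_of_coeff_eq_one d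
  · rw [chiMT]
    exact (Polynomial.natDegree_C_mul_le _ _).trans (chi_natDegree_le T F y)
  · rw [chiMT, Polynomial.coeff_C_mul, chi_coeff_d, ← mul_pow]
    simp

lemma aeval_chiMT_mem (y : T ⊗[A] B) : Polynomial.aeval y (chiMT F y) ∈ relKer F T := by
  rw [chiMT, map_mul]
  exact Ideal.mul_mem_left _ _ (inKer_aeval_chi F y)

instance isIntegral_RT : Algebra.IsIntegral T (RT F T) := by
  constructor
  intro x
  obtain ⟨y, rfl⟩ := Ideal.Quotient.mk_surjective x
  refine ⟨chiMT F y, chiMT_monic F y, ?_⟩
  have h := Polynomial.aeval_algHom_apply (Ideal.Quotient.mkₐ T (relKer F T)) y (chiMT F y)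
  rw [← Polynomial.aeval_def]
  show Polynomial.aeval ((Ideal.Quotient.mkₐ T (relKer F T)) y) (chiMT F y) = 0
  rw [h]
  exact Ideal.Quotient.eq_zero_iff_mem.mpr (aeval_chiMT_mem F y)

end Integral

end Quot

section Field

variable {A : Type u} [CommRing A] {B : Type u} [CommRing B] [Algebra A B] {d : ℕ}
variable (F : PolLaw.MulLaw A B A d)
variable (K : Type u) [Field K] [Algebra A K]

/-- Over a field the relative support consists of at most `d` points. -/
theorem card_primeSpectrum_RT_le :
    Finite (PrimeSpectrum (RT F K)) ∧ Nat.card (PrimeSpectrum (RT F K)) ≤ d :=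
  card_primeSpectrum_le (μT F) d (fun _ he h => μT_eq_zero F he h)
    (fun _ _ h1 h2 h12 => μT_add F h1 h2 h12) (μT_one F)
    (fun x y hxy => exists_idem_sep K x y hxy)

theorem isMaximal_of_prime_RT (P : Ideal (RT F K)) [P.IsPrime] : P.IsMaximal :=
  isMaximal_of_isIntegral_field K P

end Field

end Groth.Agent.Lib.Helper6.ZC
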