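import Mathlib
import Groth.Prelude.Def_PolLaw
import Groth.Agent.Lib.Helper6.ZC.RelCount

/-!
# Components and points of the image of a family of zero cycles (helper6)
-/

set_option autoImplicit false
set_option linter.unusedSectionVars false
set_option linter.unusedVariables false
set_option linter.unusedSimpArgs false
set_option linter.style.haveILetI false
set_option maxHeartbeats 400000
universe u
open scoped TensorProduct
open Polynomial

namespace Groth.Agent.Lib.Helper6.ZC

section Iso

variable {A : Type u} [CommRing A] {B : Type u} [CommRing B] [Algebra A B] {d : ℕ}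
variable (F : PolLaw.MulLaw A B A d)

lemma relKer_self_eq_map :
    relKer F A = (PolLaw.ker F.law).map
      ((Algebra.TensorProduct.lid A B).symm : B ≃+* A ⊗[A] B) := by
  apply le_antisymm
  · intro z hz
    have h1 : z = (1 : A) ⊗ₜ[A] (Algebra.TensorProduct.lid A B z) := by
      rw [← Algebra.TensorProduct.lid_symm_apply, AlgEquiv.symm_apply_apply]
    have hz' := hz
    rw [h1] at hz'
    have h2 := mem_ker_of_inKer hz'
    have h3 := Ideal.mem_map_of_mem
      (((Algebra.TensorProduct.lid A B).symm : B ≃+* A ⊗[A] B)) h2
    have h4 : ((Algebra.TensorProduct.lid A B).symm : B ≃+* A ⊗[A] B)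
        (Algebra.TensorProduct.lid A B z) = z := by simp
    rw [h4] at h3
    exact h3
  · rw [Ideal.map_le_iff_le_comap]
    intro b hb
    rw [Ideal.mem_comap]
    have : ((Algebra.TensorProduct.lid A B).symm : B ≃+* A ⊗[A] B) b = (1 : A) ⊗ₜ[A] b := by
      simp
    rw [this]
    exact inKer_one_tmul hb

/-- The image of `F` is isomorphic to the relative image over the base. -/
noncomputable def imageEquivRT : PolLaw.image F.law ≃+* RT F A :=
  Ideal.quotientEquiv (PolLaw.ker F.law) (relKer F A)
    ((Algebra.TensorProduct.lid A B).symm : B ≃+* A ⊗[A] B) (relKer_self_eq_map F)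

/-- `S13727`. -/
theorem card_connectedComponents_image_le [ConnectedSpace (PrimeSpectrum A)] :
    Finite (ConnectedComponents (PrimeSpectrum (PolLaw.image F.law))) ∧
      Nat.card (ConnectedComponents (PrimeSpectrum (PolLaw.image F.law))) ≤ d := by
  obtain ⟨hfin, hcard⟩ := card_connectedComponents_RT_le (T := A) F
  let h := (PrimeSpectrum.homeomorphOfRingEquiv (imageEquivRT F)).symm
  have hsurj := Continuous.connectedComponentsMap_surjective h.continuous h.surjective
  have hfin' : Finite (ConnectedComponents (PrimeSpectrum (PolLaw.image F.law))) :=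
    Finite.of_surjective _ hsurj
  refine ⟨hfin', ?_⟩
  exact (Nat.card_le_card_of_surjective _ hsurj).trans hcard

end Iso

section FieldCase

variable {k : Type u} [Field k] {B : Type u} [CommRing B] [Algebra k B] {d : ℕ}
variable (F : PolLaw.MulLaw k B k d)

theorem card_primeSpectrum_image_le :
    Finite (PrimeSpectrum (PolLaw.image F.law)) ∧
      Nat.card (PrimeSpectrum (PolLaw.image F.law)) ≤ d := by
  obtain ⟨hfin, hcard⟩ := card_primeSpectrum_RT_le F k
  let h := (PrimeSpectrum.homeomorphOfRingEquiv (imageEquivRT F)).symm
  have hfin' : Finite (PrimeSpectrum (PolLaw.image F.law)) :=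
    Finite.of_surjective _ h.surjective
  refine ⟨hfin', ?_⟩
  exact (Nat.card_le_card_of_surjective _ h.surjective).trans hcard

theorem isMaximal_of_prime_image (P : PrimeSpectrum (PolLaw.image F.law)) :
    P.asIdeal.IsMaximal := by
  haveI := image_isIntegral F
  exact isMaximal_of_isIntegral_field k P.asIdeal

end FieldCase

end Groth.Agent.Lib.Helper6.ZC
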