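import Mathlib
import Groth.Prelude.Def_PolLaw
import Groth.Prelude.Def_SymTen
import Groth.Prelude.Def_PolLaw2
import Groth.Prelude.Def_W4c5normfunctorschNorm

/-!
# The span of pure tensors with two equal factors in the tensor power of a free module (helper6)
-/

set_option autoImplicit false
set_option linter.unusedSectionVars false
set_option linter.unusedVariables false
set_option linter.unusedSimpArgs false
set_option linter.style.haveILetI false
set_option maxHeartbeats 400000
universe u
open scoped TensorProduct

namespace Groth.Agent.Lib.Helper6.ZC

section AltSpan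

variable {R : Type u} [CommRing R] {M : Type u} [CommRing M] [Algebra R M] {d : ℕ}

lemma tprod_mem_altSpan (p : Fin d → M) (i j : Fin d) (hij : i ≠ j) (h : p i = p j) :
    PiTensorProduct.tprod R p ∈ SymTen.altSpan R M d :=
  Submodule.subset_span ⟨p, i, j, hij, h, rfl⟩

lemma swap_add_mem (q : Fin d → M) (i j : Fin d) (hij : i ≠ j) :
    PiTensorProduct.tprod R (q ∘ Equiv.swap i j) + PiTensorProduct.tprod R q ∈
      SymTen.altSpan R M d := by
  have hji : j ≠ i := fun h => hij h.symm
  set u := Function.update (Function.update q i (q i + q j)) j (q i + q j) with hu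
  have h0 : PiTensorProduct.tprod R u ∈ SymTen.altSpan R M d := by
    apply tprod_mem_altSpan u i j hij
    rw [hu, Function.update_self, Function.update_of_ne hij, Function.update_self]
  have e1 : PiTensorProduct.tprod R u =
      PiTensorProduct.tprod R (Function.update (Function.update q j (q i)) i (q i)) +
      PiTensorProduct.tprod R (Function.update (Function.update q j (q i)) i (q j)) +
      (PiTensorProduct.tprod R (Function.update (Function.update q j (q j)) i (q i)) +
      PiTensorProduct.tprod R (Function.update (Function.update q j (q j)) i (q j))) := by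
    rw [hu, (PiTensorProduct.tprod R).map_update_add,
      Function.update_comm hij (q i + q j) (q i) q,
      Function.update_comm hij (q i + q j) (q j) q,
      (PiTensorProduct.tprod R).map_update_add, (PiTensorProduct.tprod R).map_update_add]
  have t1 : PiTensorProduct.tprod R (Function.update (Function.update q j (q i)) i (q i)) ∈
      SymTen.altSpan R M d := by
    apply tprod_mem_altSpan _ i j hij
    rw [Function.update_self, Function.update_of_ne hji, Function.update_self]
  have t4 : PiTensorProduct.tprod R (Function.update (Function.update q j (q j)) i (q j)) ∈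
      SymTen.altSpan R M d := by
    apply tprod_mem_altSpan _ i j hij
    rw [Function.update_self, Function.update_of_ne hji, Function.update_self]
  have e2 : Function.update (Function.update q j (q i)) i (q j) = q ∘ Equiv.swap i j := by
    funext k
    by_cases hki : k = i
    · subst hki
      simp
    · by_cases hkj : k = j
      · subst hkj
        simp [Function.update_of_ne hki]
      · simp [Function.update_of_ne hki, Function.update_of_ne hkj,
          Equiv.swap_apply_of_ne_of_ne hki hkj]
  have e3 : Function.update (Function.update q j (q j)) i (q i) = q := by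
    rw [Function.update_eq_self, Function.update_eq_self]
  rw [e2, e3] at e1
  have : PiTensorProduct.tprod R (q ∘ Equiv.swap i j) + PiTensorProduct.tprod R q =
      PiTensorProduct.tprod R u -
        PiTensorProduct.tprod R (Function.update (Function.update q j (q i)) i (q i)) -
        PiTensorProduct.tprod R (Function.update (Function.update q j (q j)) i (q j)) := by
    rw [e1]; abel
  rw [this]
  exact Submodule.sub_mem _ (Submodule.sub_mem _ h0 t1) t4

end AltSpan

section Basis

variable {R : Type u} [CommRing R] {M : Type u} [CommRing M] [Algebra R M] {d : ℕ}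
variable {I : Type*} [Fintype I] [LinearOrder I] (e : Module.Basis I R M)

/-- The basis of the tensor power. -/
noncomputable def EbG : Module.Basis (Fin d → I) R (⨂[R] _ : Fin d, M) :=
  Basis.piTensorProduct (fun _ : Fin d => e)

lemma EbG_apply (c : Fin d → I) : EbG (d := d) e c = PiTensorProduct.tprod R (fun k => e (c k)) :=
  Basis.piTensorProduct_apply _ _

theorem reprG_reindex (σ : Equiv.Perm (Fin d)) (x : ⨂[R] _ : Fin d, M) (c : Fin d → I) :
    (EbG (d := d) e).repr (PiTensorProduct.reindex R (fun _ : Fin d => M) σ x) c =
      (EbG (d := d) e).repr x (fun l => c (σ l)) := by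
  induction x using PiTensorProduct.induction_on with
  | smul_tprod r x =>
    simp only [map_smul, PiTensorProduct.reindex_tprod, Finsupp.smul_apply, EbG,
      Basis.piTensorProduct_repr_tprod_apply]
    congr 1
    exact (Equiv.prod_comp σ (fun l => e.repr (x (σ.symm l)) (c l))).symm.trans (by simp)
  | add x y hx hy => simp only [map_add, Finsupp.add_apply, hx, hy]

include e in
/-- A tensor invariant under a transposition lies in `altSpan`. -/
theorem mem_altSpan_of_swap_invariant (y : ⨂[R] _ : Fin d, M) (i j : Fin d) (hij : i ≠ j)
    (h : SymTen.perm R M d (Equiv.swap i j) y = y) : y ∈ SymTen.altSpan R M d := by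
  classical
  set r := (EbG (d := d) e).repr y with hr
  have hsym : ∀ c : Fin d → I, r (c ∘ Equiv.swap i j) = r c := by
    intro c
    have h1 := reprG_reindex e (Equiv.swap i j) y c
    rw [← SymTen.perm_apply, h] at h1
    exact h1.symm
  have hy : y = ∑ c : Fin d → I, r c • EbG (d := d) e c := ((EbG (d := d) e).sum_repr y).symm
  rw [hy]
  have hsplit : ∑ c : Fin d → I, r c • EbG (d := d) e c =
      ∑ c ∈ Finset.univ.filter (fun c : Fin d → I => c i = c j), r c • EbG (d := d) e c +
      (∑ c ∈ Finset.univ.filter (fun c : Fin d → I => c i < c j), r c • EbG (d := d) e c +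
       ∑ c ∈ Finset.univ.filter (fun c : Fin d → I => c j < c i), r c • EbG (d := d) e c) := by
    rw [← Finset.sum_filter_add_sum_filter_not Finset.univ (fun c : Fin d → I => c i = c j)]
    congr 1
    rw [← Finset.sum_filter_add_sum_filter_not (Finset.univ.filter (fun c : Fin d → I => ¬ c i = c j))
      (fun c : Fin d → I => c i < c j)]
    congr 1
    · apply Finset.sum_congr _ (fun _ _ => rfl)
      ext c
      simp only [Finset.mem_filter, Finset.mem_univ, true_and]
      constructor
      · rintro ⟨_, h2⟩; exact h2
      · intro h2; exact ⟨ne_of_lt h2, h2⟩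
    · apply Finset.sum_congr _ (fun _ _ => rfl)
      ext c
      simp only [Finset.mem_filter, Finset.mem_univ, true_and]
      constructor
      · rintro ⟨h1, h2⟩
        exact lt_of_le_of_ne (not_lt.mp h2) (fun h3 => h1 h3.symm)
      · intro h2
        exact ⟨fun h3 => absurd h2 (by rw [h3]; exact lt_irrefl _), not_lt.mpr (le_of_lt h2)⟩
  have hthird : ∑ c ∈ Finset.univ.filter (fun c : Fin d → I => c j < c i), r c • EbG (d := d) e c =
      ∑ c ∈ Finset.univ.filter (fun c : Fin d → I => c i < c j),
        r c • EbG (d := d) e (c ∘ Equiv.swap i j) := by
    refine Finset.sum_bij' (fun c _ => c ∘ Equiv.swap i j) (fun c _ => c ∘ Equiv.swap i j)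
      ?_ ?_ ?_ ?_ ?_
    · intro c hc
      simp only [Finset.mem_filter, Finset.mem_univ, true_and, Function.comp_apply,
        Equiv.swap_apply_left, Equiv.swap_apply_right] at hc ⊢
      exact hc
    · intro c hc
      simp only [Finset.mem_filter, Finset.mem_univ, true_and, Function.comp_apply,
        Equiv.swap_apply_left, Equiv.swap_apply_right] at hc ⊢
      exact hc
    · intro c _
      funext k
      simp
    · intro c _
      funext k
      simp
    · intro c _
      rw [hsym]
      congr 2
      funext k
      simp
  rw [hsplit, hthird, ← Finset.sum_add_distrib]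
  refine Submodule.add_mem _ (Submodule.sum_mem _ fun c hc => ?_) (Submodule.sum_mem _ fun c hc => ?_)
  · apply Submodule.smul_mem
    rw [EbG_apply]
    simp only [Finset.mem_filter, Finset.mem_univ, true_and] at hc
    exact tprod_mem_altSpan _ i j hij (by rw [hc])
  · rw [← smul_add]
    apply Submodule.smul_mem
    rw [EbG_apply, EbG_apply, add_comm]
    exact swap_add_mem (fun k => e (c k)) i j hij

end Basis

end Groth.Agent.Lib.Helper6.ZC
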