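import Mathlib
import Groth.Prelude.Def_PolLaw
import Groth.Prelude.Def_SymTen
import Groth.Agent.Lib.Helper6.ZC.PwGen

/-!
# Base change of a multiplicative law `B → K` over `A` to a law `K ⊗_A B → K` over `K` (helper6)
-/

set_option autoImplicit false
set_option linter.unusedSectionVars false
set_option linter.unusedVariables false
set_option linter.unusedSimpArgs false
set_option linter.style.haveILetI false
set_option maxHeartbeats 400000
universe u
open scoped TensorProduct

namespace Groth.Agent.Lib.Helper6.ZC

section BCLaw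

variable {A : Type u} [CommRing A] {K : Type u} [CommRing K] [Algebra A K]
  {B : Type u} [CommRing B] [Algebra A B] {d : ℕ}

section Tower

variable (A K B) (S : Type u) [CommSemiring S] [Algebra A S] [Algebra K S] [IsScalarTower A K S]

/-- `S ⊗_K (K ⊗_A B) ≃ S ⊗_A B`. -/
noncomputable def eBK : S ⊗[K] (K ⊗[A] B) ≃ₐ[S] S ⊗[A] B :=
  Algebra.TensorProduct.cancelBaseChange A K S S B

/-- Multiplication `S ⊗_A K → S`. -/
noncomputable def μK : S ⊗[A] K →ₐ[S] S :=
  Algebra.TensorProduct.productLeftAlgHom (AlgHom.id S S) (IsScalarTower.toAlgHom A K S)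

lemma μK_tmul (s : S) (k : K) : μK A K S (s ⊗ₜ[A] k) = s * algebraMap K S k := rfl

lemma eBK_tmul (s : S) (k : K) (b : B) :
    eBK A K B S (s ⊗ₜ[K] (k ⊗ₜ[A] b)) = (k • s) ⊗ₜ[A] b :=
  Algebra.TensorProduct.cancelBaseChange_tmul A K S S B s k b

lemma eBK_symm_tmul (s : S) (b : B) :
    (eBK A K B S).symm (s ⊗ₜ[A] b) = s ⊗ₜ[K] ((1 : K) ⊗ₜ[A] b) :=
  Algebra.TensorProduct.cancelBaseChange_symm_tmul A K S S B s b

end Tower

variable (F : PolLaw.MulLaw A B K d)

/-- The value of the base-changed law on a `K`-algebra `S` (with compatible `A`-structure). -/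
noncomputable def bcFun (S : Type u) [CommSemiring S] [Algebra A S] [Algebra K S]
    [IsScalarTower A K S] (x : S ⊗[K] (K ⊗[A] B)) : S ⊗[K] K :=
  (Algebra.TensorProduct.rid K S S).symm (μK A K S (F.law.toFun' S (eBK A K B S x)))

lemma bcFun_compat (S : Type u) [CommSemiring S] [Algebra A S] [Algebra K S] [IsScalarTower A K S]
    (S' : Type u) [CommSemiring S'] [Algebra A S'] [Algebra K S'] [IsScalarTower A K S']
    (ψ : S →ₐ[K] S') (x : S ⊗[K] (K ⊗[A] B)) :
    ψ.toLinearMap.rTensor K (bcFun F S x) = bcFun F S' (ψ.toLinearMap.rTensor (K ⊗[A] B) x) := by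
  unfold bcFun
  have h1 : ∀ s : S, ψ.toLinearMap.rTensor K ((Algebra.TensorProduct.rid K S S).symm s) =
      (Algebra.TensorProduct.rid K S' S').symm (ψ s) := by
    intro s
    simp [LinearMap.rTensor_tmul]
  have h2 : ∀ u : S ⊗[A] K, ψ (μK A K S u) =
      μK A K S' ((ψ.restrictScalars A).toLinearMap.rTensor K u) := by
    intro u
    induction u using TensorProduct.induction_on with
    | zero => simp
    | tmul s k =>
      rw [LinearMap.rTensor_tmul, μK_tmul, μK_tmul, map_mul]
      simp
    | add a b ha hb => simp only [map_add, ha, hb]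
  have h3 : ∀ y : S ⊗[K] (K ⊗[A] B),
      (ψ.restrictScalars A).toLinearMap.rTensor B (eBK A K B S y) =
        eBK A K B S' (ψ.toLinearMap.rTensor (K ⊗[A] B) y) := by
    intro y
    induction y using TensorProduct.induction_on with
    | zero => simp
    | tmul s r =>
      induction r using TensorProduct.induction_on with
      | zero => simp
      | tmul k b =>
        rw [LinearMap.rTensor_tmul, eBK_tmul, eBK_tmul, LinearMap.rTensor_tmul]
        simp
      | add a b ha hb => simp only [TensorProduct.tmul_add, map_add, ha, hb]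
    | add a b ha hb => simp only [map_add, ha, hb]
  rw [h1, h2, PolynomialLaw.isCompat_apply', h3]

/-- The base change of the law `F : B → K` over `A` to a law `K ⊗_A B → K` over `K`. -/
noncomputable def bcLaw : (K ⊗[A] B) →ₚₗ[K] K where
  toFun' S _ _ := fun x =>
    letI : Algebra A S := Algebra.compHom S (algebraMap A K)
    haveI : IsScalarTower A K S := IsScalarTower.of_algebraMap_eq fun _ => rfl
    bcFun F S x
  isCompat' {S _ _ S' _ _} ψ := by
    letI : Algebra A S := Algebra.compHom S (algebraMap A K)
    haveI : IsScalarTower A K S := IsScalarTower.of_algebraMap_eq fun _ => rfl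
    letI : Algebra A S' := Algebra.compHom S' (algebraMap A K)
    haveI : IsScalarTower A K S' := IsScalarTower.of_algebraMap_eq fun _ => rfl
    funext x
    exact bcFun_compat F S S' ψ x

lemma bcLaw_toFun' (S : Type u) [CommSemiring S] [Algebra A S] [Algebra K S]
    [IsScalarTower A K S] (x : S ⊗[K] (K ⊗[A] B)) :
    (bcLaw F).toFun' S x = bcFun F S x := by
  have h : ‹Algebra A S› = Algebra.compHom S (algebraMap A K) :=
    Algebra.algebra_ext _ _ (fun a => IsScalarTower.algebraMap_apply A K S a)
  subst h
  rfl

/-- The base-changed law is multiplicative and homogeneous of the same degree. -/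
noncomputable def bcMulLaw : PolLaw.MulLaw K (K ⊗[A] B) K d where
  law := bcLaw F
  homog := by
    intro S _ _ s x
    letI : Algebra A S := Algebra.compHom S (algebraMap A K)
    haveI : IsScalarTower A K S := IsScalarTower.of_algebraMap_eq fun _ => rfl
    rw [bcLaw_toFun', bcLaw_toFun']
    unfold bcFun
    rw [map_smul, F.homog S s, map_smul, map_smul]
  mult := by
    intro S _ _
    letI : Algebra A S := Algebra.compHom S (algebraMap A K)
    haveI : IsScalarTower A K S := IsScalarTower.of_algebraMap_eq fun _ => rfl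
    refine ⟨?_, fun x y => ?_⟩
    · rw [bcLaw_toFun']
      unfold bcFun
      rw [map_one, (F.mult S).1, map_one, map_one]
    · rw [bcLaw_toFun', bcLaw_toFun', bcLaw_toFun']
      unfold bcFun
      rw [map_mul, (F.mult S).2, map_mul, map_mul]

lemma bcMulLaw_toFun' (S : Type u) [CommSemiring S] [Algebra A S] [Algebra K S]
    [IsScalarTower A K S] (x : S ⊗[K] (K ⊗[A] B)) :
    (bcMulLaw F).law.toFun' S x = bcFun F S x := bcLaw_toFun' F S x

end BCLaw

end Groth.Agent.Lib.Helper6.ZC
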