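import Mathlib
import Groth.Prelude.Def_PolLaw
import Groth.Prelude.Def_SymTen
import Groth.Agent.Lib.Helper6.ZC.PwGen

/-!
# Base change of tensor powers and symmetric tensors along `A → K` (helper6)

`Θ : T^d_A(B) → T^d_K(K ⊗_A B)` and the induced map on symmetric tensors.
-/

set_option autoImplicit false
set_option linter.unusedSectionVars false
set_option linter.unusedVariables false
set_option linter.unusedSimpArgs false
set_option linter.style.haveILetI false
set_option maxHeartbeats 400000
universe u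
open scoped TensorProduct

namespace Groth.Agent.Lib.Helper6.ZC

section Theta

variable (A : Type u) [CommRing A] (K : Type u) [CommRing K] [Algebra A K]
  (B : Type u) [CommRing B] [Algebra A B] (d : ℕ)

/-- The multilinear map underlying `Θ`. -/
noncomputable def ΘKM : MultilinearMap A (fun _ : Fin d => B) (Tp K (K ⊗[A] B) d) :=
  ((PiTensorProduct.tprod K (s := fun _ : Fin d => K ⊗[A] B)).restrictScalars A).compLinearMap
    fun _ => (Algebra.TensorProduct.includeRight : B →ₐ[A] K ⊗[A] B).toLinearMap

lemma ΘKM_apply (b : Fin d → B) :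
    ΘKM A K B d b = PiTensorProduct.tprod K (fun i => (1 : K) ⊗ₜ[A] b i) := rfl

/-- Base change of the tensor power. -/
noncomputable def ΘK : Tp A B d →ₐ[A] Tp K (K ⊗[A] B) d :=
  PiTensorProduct.liftAlgHom (ΘKM A K B d)
    (by
      rw [ΘKM_apply]
      exact (PiTensorProduct.one_def (R := K) (A := fun _ : Fin d => K ⊗[A] B)).symm)
    (by
      intro x y
      rw [ΘKM_apply, ΘKM_apply, ΘKM_apply, PiTensorProduct.tprod_mul_tprod]
      congr 1
      funext i
      simp [Algebra.TensorProduct.tmul_mul_tmul])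

@[simp]
lemma ΘK_tprod (b : Fin d → B) :
    ΘK A K B d (PiTensorProduct.tprod A b) =
      PiTensorProduct.tprod K (fun i => (1 : K) ⊗ₜ[A] b i) := by
  simp [ΘK, ΘKM_apply]

lemma ΘK_reindex (σ : Equiv.Perm (Fin d)) (t : Tp A B d) :
    ΘK A K B d (PiTensorProduct.reindex A (fun _ : Fin d => B) σ t) =
      PiTensorProduct.reindex K (fun _ : Fin d => K ⊗[A] B) σ (ΘK A K B d t) := by
  induction t using PiTensorProduct.induction_on with
  | smul_tprod r g =>
    rw [map_smul, map_smul, map_smul, PiTensorProduct.reindex_tprod, ΘK_tprod, ΘK_tprod,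
      ← algebraMap_smul K r (PiTensorProduct.tprod K fun i => (1 : K) ⊗ₜ[A] g i), map_smul,
      PiTensorProduct.reindex_tprod, algebraMap_smul]
  | add x y hx hy => simp [hx, hy]

/-- Base change of symmetric tensors. -/
noncomputable def ΘKS : SymTen.TS A B d →ₐ[A] SymTen.TS K (K ⊗[A] B) d where
  toFun t := ⟨ΘK A K B d t.1, fun σ => by rw [← ΘK_reindex, t.2 σ]⟩
  map_one' := Subtype.ext (map_one (ΘK A K B d))
  map_mul' x y := Subtype.ext (map_mul (ΘK A K B d) x.1 y.1)
  map_zero' := Subtype.ext (map_zero (ΘK A K B d))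
  map_add' x y := Subtype.ext (map_add (ΘK A K B d) x.1 y.1)
  commutes' a := Subtype.ext ((ΘK A K B d).commutes a)

lemma ΘKS_coe (t : SymTen.TS A B d) :
    ((ΘKS A K B d t : SymTen.TS K (K ⊗[A] B) d) : Tp K (K ⊗[A] B) d) = ΘK A K B d t.1 := rfl

end Theta

end Groth.Agent.Lib.Helper6.ZC
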