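import Mathlib
import Groth.Prelude.Def_PolLaw
import Groth.Prelude.Def_SymTen
import Groth.Agent.Lib.Helper6.ZC.BCLaw

/-!
# The semilinear comparison `S ⊗_A M → S ⊗_K M'` (helper6)
-/

set_option autoImplicit false
set_option linter.unusedSectionVars false
set_option linter.unusedVariables false
set_option linter.unusedSimpArgs false
set_option linter.style.haveILetI false
set_option maxHeartbeats 400000
universe u
open scoped TensorProduct

namespace Groth.Agent.Lib.Helper6.ZC

section Xi

variable (A : Type u) [CommRing A] (K : Type u) [CommRing K] [Algebra A K]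
  (S : Type u) [CommSemiring S] [Algebra A S] [Algebra K S] [IsScalarTower A K S]
  {M : Type u} [AddCommGroup M] [Module A M]
  {M' : Type u} [AddCommGroup M'] [Module K M'] [Module A M'] [IsScalarTower A K M']

/-- `s ⊗ m ↦ s ⊗ θ m`. -/
noncomputable def ΞK (θ : M →ₗ[A] M') : S ⊗[A] M →ₗ[A] S ⊗[K] M' :=
  (TensorProduct.mapOfCompatibleSMul K A A S M') ∘ₗ (TensorProduct.map LinearMap.id θ)

@[simp]
lemma ΞK_tmul (θ : M →ₗ[A] M') (s : S) (m : M) : ΞK A K S θ (s ⊗ₜ[A] m) = s ⊗ₜ[K] θ m := rfl

lemma ΞK_lTensor_pre {M₀ : Type u} [AddCommGroup M₀] [Module A M₀] (θ : M →ₗ[A] M')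
    (h : M₀ →ₗ[A] M) (t : S ⊗[A] M₀) :
    ΞK A K S θ (h.lTensor S t) = ΞK A K S (θ ∘ₗ h) t := by
  induction t using TensorProduct.induction_on with
  | zero => simp
  | tmul s m => rfl
  | add a b ha hb => simp only [map_add, ha, hb]

lemma ΞK_lTensor_post {M'' : Type u} [AddCommGroup M''] [Module K M''] [Module A M'']
    [IsScalarTower A K M''] (θ : M →ₗ[A] M') (g : M' →ₗ[K] M'') (t : S ⊗[A] M) :
    g.lTensor S (ΞK A K S θ t) = ΞK A K S (g.restrictScalars A ∘ₗ θ) t := by
  induction t using TensorProduct.induction_on with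
  | zero => simp
  | tmul s m => rfl
  | add a b ha hb => simp only [map_add, ha, hb]

lemma ΞK_rid (θ : M →ₗ[A] M') (g : M' →ₗ[K] K) (t : S ⊗[A] M) :
    Algebra.TensorProduct.rid K S S (g.lTensor S (ΞK A K S θ t)) =
      μK A K S ((g.restrictScalars A ∘ₗ θ).lTensor S t) := by
  induction t using TensorProduct.induction_on with
  | zero => simp
  | tmul s m =>
    rw [ΞK_tmul, LinearMap.lTensor_tmul, LinearMap.lTensor_tmul, μK_tmul,
      Algebra.TensorProduct.rid_tmul, Algebra.smul_def, mul_comm]
    rfl
  | add a b ha hb => simp only [map_add, ha, hb]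

end Xi

section Retract

variable (A : Type u) [CommRing A] (K : Type u) [CommRing K] [Algebra A K]
  (S : Type u) [CommSemiring S] [Algebra A S]

/-- Multiplying back after extending scalars to `K ⊗_A S` is the commutativity isomorphism. -/
lemma μK_rTensor_includeRight (u : S ⊗[A] K) :
    μK A K (K ⊗[A] S)
      ((Algebra.TensorProduct.includeRight : S →ₐ[A] K ⊗[A] S).toLinearMap.rTensor K u) =
      TensorProduct.comm A S K u := by
  induction u using TensorProduct.induction_on with
  | zero => simp
  | tmul s k =>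
    rw [LinearMap.rTensor_tmul, μK_tmul, TensorProduct.comm_tmul]
    simp [Algebra.TensorProduct.tmul_mul_tmul]
  | add a b ha hb => simp only [map_add, ha, hb]

end Retract

end Groth.Agent.Lib.Helper6.ZC
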