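import Mathlib
import Groth.Prelude.Def_PolLaw
import Groth.Prelude.Def_SymTen
import Groth.Agent.Lib.Helper6.ZC.BCTheta
import Groth.Agent.Lib.Helper6.ZC.BCXi
import Groth.Agent.Lib.Helper6.ZC.Trace

/-!
# Lifting field-valued points of `Γ^d(B)` to `TS^d(B)` (helper6)
-/

set_option autoImplicit false
set_option linter.unusedSectionVars false
set_option linter.unusedVariables false
set_option linter.unusedSimpArgs false
set_option linter.style.haveILetI false
set_option maxHeartbeats 400000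
universe u
open scoped TensorProduct

namespace Groth.Agent.Lib.Helper6.ZC

section Lift

variable {A B C : Type u} [CommRing A] [CommRing B] [Algebra A B] [CommRing C] [Algebra A C]
  {d : ℕ} {γ : PolLaw.MulLaw A B C d} {φ : C →ₐ[A] SymTen.TS A B d}
  {K : Type u} [CommRing K] [Algebra A K]
  {I : Type u} [DecidableEq I] (ε : Module.Basis I K (K ⊗[A] B)) (ev : C →ₐ[A] K)

variable (γ) in
/-- The `K`-algebra map `TS^d_K(K ⊗ B) → K` attached to a `K`-point of `Γ^d(B)`. -/
noncomputable def χtil : SymTen.TS K (K ⊗[A] B) d →ₐ[K] K :=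
  fA d ε (bcMulLaw (PolLaw.MulLaw.postcomp ev γ))

variable (γ) in
/-- The lift of a `K`-point of `Γ^d(B)` to `TS^d(B)`. -/
noncomputable def χK : SymTen.TS A B d →ₐ[A] K :=
  ((χtil γ ε ev).restrictScalars A).comp (ΘKS A K B d)

lemma χK_toLinearMap :
    (χK γ ε ev).toLinearMap =
      (χtil γ ε ev).toLinearMap.restrictScalars A ∘ₗ (ΘKS A K B d).toLinearMap := rfl

include ε in
/-- The key comparison of universal laws over `A` and over `K`. -/
lemma ΞK_phi_gamma (hφ : HPhi d γ φ) (S : Type u) [CommSemiring S] [Algebra A S] [Algebra K S]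
    [IsScalarTower A K S] (y : S ⊗[A] B) :
    ΞK A K S (ΘKS A K B d).toLinearMap (φ.toLinearMap.lTensor S (γ.law.toFun' S y)) =
      (τlaw d ε).toFun' S ((eBK A K B S).symm y) := by
  apply lTensor_val_injective d ε S
  rw [val_τlaw, ΞK_lTensor_post]
  have h1 : (SymTen.TS K (K ⊗[A] B) d).val.toLinearMap.restrictScalars A ∘ₗ
      (ΘKS A K B d).toLinearMap =
      (ΘK A K B d).toLinearMap ∘ₗ (SymTen.TS A B d).val.toLinearMap := by
    ext t
    rfl
  have h2 : ∀ w : S ⊗[A] C, (SymTen.TS A B d).val.toLinearMap.lTensor S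
      (φ.toLinearMap.lTensor S w) =
      ((SymTen.TS A B d).val.comp φ).toLinearMap.lTensor S w := by
    intro w
    rw [← LinearMap.comp_apply, ← LinearMap.lTensor_comp]
    rfl
  rw [h1, ← ΞK_lTensor_pre, h2, val_phi_gamma hφ]
  obtain ⟨n, s, b, rfl⟩ := exists_fin_sum_tmul_semi y
  rw [pw_sum_tmul_gen, map_sum, map_sum]
  simp only [eBK_symm_tmul, ΞK_tmul]
  rw [pw_sum_tmul_gen]
  refine Finset.sum_congr rfl fun c _ => ?_
  congr 1
  exact ΘK_tprod A K B d _

include ε in
lemma μK_χK (hφ : HPhi d γ φ) (S : Type u) [CommSemiring S] [Algebra A S] [Algebra K S]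
    [IsScalarTower A K S] (y : S ⊗[A] B) :
    μK A K S (((χK γ ε ev).comp φ).toLinearMap.lTensor S (γ.law.toFun' S y)) =
      μK A K S (ev.toLinearMap.lTensor S (γ.law.toFun' S y)) := by
  have h0 : ((χK γ ε ev).comp φ).toLinearMap = (χK γ ε ev).toLinearMap ∘ₗ φ.toLinearMap := rfl
  rw [h0, LinearMap.lTensor_comp, LinearMap.comp_apply, χK_toLinearMap, ← ΞK_rid,
    ΞK_phi_gamma ε hφ S y]
  have h1 := postcomp_fA d ε (bcMulLaw (PolLaw.MulLaw.postcomp ev γ))
  have h2 : (χtil γ ε ev).toLinearMap.lTensor S ((τlaw d ε).toFun' S ((eBK A K B S).symm y)) =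
      (bcMulLaw (PolLaw.MulLaw.postcomp ev γ)).law.toFun' S ((eBK A K B S).symm y) := by
    rw [← h1]
    rfl
  rw [h2, bcMulLaw_toFun']
  unfold bcFun
  rw [AlgEquiv.apply_symm_apply, AlgEquiv.apply_symm_apply]
  rfl

include ε in
theorem postcomp_χK_comp (hφ : HPhi d γ φ) :
    PolLaw.postcomp ((χK γ ε ev).comp φ).toLinearMap γ.law =
      PolLaw.postcomp ev.toLinearMap γ.law := by
  ext S _ _ x
  apply (TensorProduct.comm A S K).injective
  rw [← μK_rTensor_includeRight, ← μK_rTensor_includeRight]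
  have hc : ∀ g : C →ₗ[A] K,
      (Algebra.TensorProduct.includeRight : S →ₐ[A] K ⊗[A] S).toLinearMap.rTensor K
        ((PolLaw.postcomp g γ.law).toFun' S x) =
      g.lTensor (K ⊗[A] S) (γ.law.toFun' (K ⊗[A] S)
        ((Algebra.TensorProduct.includeRight : S →ₐ[A] K ⊗[A] S).toLinearMap.rTensor B x)) := by
    intro g
    rw [← PolynomialLaw.isCompat_apply']
    show (Algebra.TensorProduct.includeRight : S →ₐ[A] K ⊗[A] S).toLinearMap.rTensor K
      (g.lTensor S (γ.law.toFun' S x)) = _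
    rw [← LinearMap.comp_apply, LinearMap.rTensor_comp_lTensor, ← LinearMap.lTensor_comp_rTensor,
      LinearMap.comp_apply]
  rw [hc, hc]
  exact μK_χK ε ev hφ (K ⊗[A] S) _

include ε in
theorem χK_comp (hγ : PolLaw.IsGammaD γ) (hφ : HPhi d γ φ) : (χK γ ε ev).comp φ = ev := by
  obtain ⟨f, -, hf⟩ := hγ K (PolLaw.MulLaw.postcomp ev γ)
  rw [hf ((χK γ ε ev).comp φ) (postcomp_χK_comp ε ev hφ), hf ev rfl]

end Lift

section Field

variable {A B C : Type u} [CommRing A] [CommRing B] [Algebra A B] [CommRing C] [Algebra A C]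
  {d : ℕ} {γ : PolLaw.MulLaw A B C d} {φ : C →ₐ[A] SymTen.TS A B d}

/-- Field-valued points of `Γ^d(B)` lift to `TS^d(B)`. -/
theorem exists_lift_point (hγ : PolLaw.IsGammaD γ) (hφ : HPhi d γ φ)
    (K : Type u) [Field K] [Algebra A K] (ev : C →ₐ[A] K) :
    ∃ χ : SymTen.TS A B d →ₐ[A] K, χ.comp φ = ev := by
  classical
  exact ⟨χK γ (Module.Free.chooseBasis K (K ⊗[A] B)) ev, χK_comp _ ev hγ hφ⟩

end Field

end Groth.Agent.Lib.Helper6.ZC
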