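import Mathlib
import Groth.Prelude.Def_PolLaw
import Groth.Prelude.Def_PolLaw2
import Groth.Agent.Lib.Helper6.PolyLawFam
import Groth.Agent.Lib.Helper6.ZC.BCLaw
import Groth.Agent.Lib.Helper6.ZC.GenG
import Groth.Agent.Lib.Helper6.ZC.DetInt

/-!
# The determinant law over a normal base (helper6)
-/

set_option autoImplicit false
set_option linter.unusedSectionVars false
set_option linter.unusedVariables false
set_option linter.unusedSimpArgs false
set_option linter.style.haveILetI false
set_option maxHeartbeats 400000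
universe u
open scoped TensorProduct

namespace Groth.Agent.Lib.Helper6.ZC

section BC

variable {A : Type u} [CommRing A] (K : Type u) [CommRing K] [Algebra A K]
  {B : Type u} [CommRing B] [Algebra A B]
  (M : Type u) [AddCommGroup M] [Module A M] [Module B M] [IsScalarTower A B M]

/-- `K ⊗ B` acts on `K ⊗ M`. -/
@[reducible] noncomputable def modBK : Module (K ⊗[A] B) (K ⊗[A] M) :=
  Module.compHom (K ⊗[A] M) (PolLaw.actEnd M K).toRingHom

attribute [local instance] modBK

lemma modBK_smul (x : K ⊗[A] B) (v : K ⊗[A] M) : x • v = PolLaw.actEnd M K x v := rfl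

lemma modBK_tower : IsScalarTower K (K ⊗[A] B) (K ⊗[A] M) where
  smul_assoc k x v := by
    rw [modBK_smul, modBK_smul, map_smul]
    rfl

attribute [local instance] modBK_tower

variable (R : Type u) [CommRing R] [Algebra A R] [Algebra K R] [IsScalarTower A K R]

lemma cancel_actEnd (y : R ⊗[K] (K ⊗[A] B)) (w : R ⊗[K] (K ⊗[A] M)) :
    TensorProduct.AlgebraTensorModule.cancelBaseChange A K R R M
        (PolLaw.actEnd (K ⊗[A] M) R y w) =
      PolLaw.actEnd M R (eBK A K B R y)
        (TensorProduct.AlgebraTensorModule.cancelBaseChange A K R R M w) := by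
  induction y using TensorProduct.induction_on with
  | zero => simp
  | tmul r kb =>
    induction kb using TensorProduct.induction_on with
    | zero => simp
    | tmul k b =>
      induction w using TensorProduct.induction_on with
      | zero => simp
      | tmul r' km =>
        induction km using TensorProduct.induction_on with
        | zero => simp
        | tmul k' m =>
          rw [PolLaw.actEnd_tmul_tmul, modBK_smul, PolLaw.actEnd_tmul_tmul, eBK_tmul,
            TensorProduct.AlgebraTensorModule.cancelBaseChange_tmul,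
            TensorProduct.AlgebraTensorModule.cancelBaseChange_tmul, PolLaw.actEnd_tmul_tmul]
          congr 1
          rw [smul_mul_smul_comm]
        | add km km' h h' =>
          simp only [TensorProduct.tmul_add, map_add, h, h']
      | add w w' h h' => simp only [map_add, h, h']
    | add kb kb' h h' =>
      simp only [TensorProduct.tmul_add, map_add, LinearMap.add_apply, h, h']
  | add y y' h h' =>
    simp only [map_add, LinearMap.add_apply, h, h']

lemma detAct_cancel (y : R ⊗[K] (K ⊗[A] B)) :
    PolLaw.detAct (K ⊗[A] M) R y = PolLaw.detAct M R (eBK A K B R y) := by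
  unfold PolLaw.detAct
  have h : PolLaw.actEnd M R (eBK A K B R y) =
      ((TensorProduct.AlgebraTensorModule.cancelBaseChange A K R R M : _ ≃ₗ[R] _) : _ →ₗ[R] _) ∘ₗ
        (PolLaw.actEnd (K ⊗[A] M) R y) ∘ₗ
        (((TensorProduct.AlgebraTensorModule.cancelBaseChange A K R R M).symm : _ ≃ₗ[R] _) :
          _ →ₗ[R] _) := by
    apply LinearMap.ext
    intro w
    simp only [LinearMap.coe_comp, LinearEquiv.coe_coe, Function.comp_apply]
    rw [cancel_actEnd, LinearEquiv.apply_symm_apply]
  rw [h, LinearMap.det_conj]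

lemma detAct_eq_cancel (x : R ⊗[A] B) :
    PolLaw.detAct M R x = PolLaw.detAct (K ⊗[A] M) R ((eBK A K B R).symm x) := by
  rw [detAct_cancel, AlgEquiv.apply_symm_apply]

variable {R}

lemma eBK_symm_natural {R' : Type u} [CommRing R'] [Algebra A R'] [Algebra K R']
    [IsScalarTower A K R'] (ψ : R →ₐ[K] R') (x : R ⊗[A] B) :
    (eBK A K B R').symm (Algebra.TensorProduct.map (ψ.restrictScalars A) (AlgHom.id A B) x) =
      Algebra.TensorProduct.map ψ (AlgHom.id K (K ⊗[A] B)) ((eBK A K B R).symm x) := by
  induction x using TensorProduct.induction_on with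
  | zero => simp
  | tmul r b =>
    rw [Algebra.TensorProduct.map_tmul, eBK_symm_tmul, eBK_symm_tmul,
      Algebra.TensorProduct.map_tmul]
    rfl
  | add x x' h h' => simp only [map_add, h, h']

variable [Module.Free K (K ⊗[A] M)] [Module.Finite K (K ⊗[A] M)]

/-- Naturality of the determinant of the action of `B` on `M` along maps of `K`-algebras. -/
theorem detAct_map_of_tower {R' : Type u} [CommRing R'] [Algebra A R'] [Algebra K R']
    [IsScalarTower A K R'] (ψ : R →ₐ[K] R') (x : R ⊗[A] B) :
    PolLaw.detAct M R' (Algebra.TensorProduct.map (ψ.restrictScalars A) (AlgHom.id A B) x) =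
      ψ (PolLaw.detAct M R x) := by
  rw [detAct_eq_cancel K M R', eBK_symm_natural, PolLaw.detAct_map, ← detAct_eq_cancel]

theorem detAct_smul_of_tower (r : R) (x : R ⊗[A] B) :
    PolLaw.detAct M R (r • x) = r ^ Module.finrank K (K ⊗[A] M) * PolLaw.detAct M R x := by
  rw [detAct_eq_cancel K M R, map_smul, PolLaw.detAct_smul, ← detAct_eq_cancel]

end BC

section Integral

open Polynomial

variable {A : Type u} [CommRing A] {B : Type u} [CommRing B] [Algebra A B]
  (M : Type u) [AddCommGroup M] [Module A M] [Module B M] [IsScalarTower A B M]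
  {P L : Type u} [CommRing P] [Algebra A P] [Field L] [Algebra A L] [Algebra P L]
  [IsScalarTower A P L]

lemma rTensor_toAlgHom_smul (c : P) (z : P ⊗[A] M) :
    (IsScalarTower.toAlgHom A P L).toLinearMap.rTensor M (c • z) =
      algebraMap P L c • (IsScalarTower.toAlgHom A P L).toLinearMap.rTensor M z := by
  induction z using TensorProduct.induction_on with
  | zero => simp
  | tmul t a =>
    simp [LinearMap.rTensor_tmul, TensorProduct.smul_tmul', Algebra.smul_def]
  | add x y hx hy => simp only [smul_add, map_add, hx, hy]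

lemma actEnd_pow_rTensor (x : P ⊗[A] B) (k : ℕ) (z : P ⊗[A] M) :
    ((PolLaw.actEnd M L (Algebra.TensorProduct.map (IsScalarTower.toAlgHom A P L)
        (AlgHom.id A B) x)) ^ k) ((IsScalarTower.toAlgHom A P L).toLinearMap.rTensor M z) =
      (IsScalarTower.toAlgHom A P L).toLinearMap.rTensor M (((PolLaw.actEnd M P x) ^ k) z) := by
  induction k generalizing z with
  | zero => simp
  | succ k ih =>
    rw [pow_succ, pow_succ, Module.End.mul_apply, Module.End.mul_apply, ← PolLaw.rTensor_actEnd, ih]

lemma aeval_actEnd_rTensor (x : P ⊗[A] B) (q : P[X]) (z : P ⊗[A] M) :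
    (aeval (PolLaw.actEnd M L (Algebra.TensorProduct.map (IsScalarTower.toAlgHom A P L)
        (AlgHom.id A B) x)) (q.map (algebraMap P L)))
        ((IsScalarTower.toAlgHom A P L).toLinearMap.rTensor M z) =
      (IsScalarTower.toAlgHom A P L).toLinearMap.rTensor M ((aeval (PolLaw.actEnd M P x) q) z) := by
  induction q using Polynomial.induction_on' with
  | add q q' h h' =>
    rw [Polynomial.map_add, map_add, map_add, LinearMap.add_apply, LinearMap.add_apply, h, h',
      map_add]
  | monomial k c =>
    rw [Polynomial.map_monomial, aeval_monomial, aeval_monomial, Module.End.mul_apply,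
      Module.End.mul_apply, actEnd_pow_rTensor, Module.algebraMap_end_apply,
      Module.algebraMap_end_apply, rTensor_toAlgHom_smul]

variable [Module.Finite A M]

theorem isIntegral_detAct (x : P ⊗[A] B) :
    IsIntegral P (PolLaw.detAct M L (Algebra.TensorProduct.map (IsScalarTower.toAlgHom A P L)
        (AlgHom.id A B) x)) := by
  have hint : IsIntegral P (PolLaw.actEnd M P x) :=
    Algebra.IsIntegral.isIntegral (R := P) (A := Module.End P (P ⊗[A] M)) _
  obtain ⟨p, hp, hp0⟩ := hint
  unfold PolLaw.detAct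
  refine isIntegral_det_of_aeval_eq_zero _ p hp ?_
  apply LinearMap.ext
  intro w
  rw [LinearMap.zero_apply]
  induction w using TensorProduct.induction_on with
  | zero => simp
  | tmul l m =>
    have h1 : l ⊗ₜ[A] m = l • (IsScalarTower.toAlgHom A P L).toLinearMap.rTensor M
        ((1 : P) ⊗ₜ[A] m) := by
      rw [LinearMap.rTensor_tmul, AlgHom.toLinearMap_apply, map_one, TensorProduct.smul_tmul',
        smul_eq_mul, mul_one]
    rw [h1, map_smul, aeval_actEnd_rTensor]
    have h2 : (aeval (PolLaw.actEnd M P x)) p = 0 := hp0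
    rw [h2, LinearMap.zero_apply, map_zero, smul_zero]
  | add w w' h h' => rw [map_add, h, h', add_zero]

end Integral

section FamLaw

open Groth.Agent.Lib.Helper6

variable {A : Type u} [CommRing A] {B C : Type u} [CommRing B] [Algebra A B] [CommRing C]
  [Algebra A C] {d : ℕ}
  (T : ∀ n : ℕ, MvPolynomial (Fin n) A ⊗[A] B → MvPolynomial (Fin n) A ⊗[A] C)
  (hT : ∀ (n m : ℕ) (φ : MvPolynomial (Fin n) A →ₐ[A] MvPolynomial (Fin m) A),
    φ.toLinearMap.rTensor C ∘ T n = T m ∘ φ.toLinearMap.rTensor B)
  (h1 : ∀ n, T n 1 = 1) (hmul : ∀ n p q, T n (p * q) = T n p * T n q)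
  (hsm : ∀ n (s : MvPolynomial (Fin n) A) p, T n (s • p) = s ^ d • T n p)

lemma famLaw_lift (S : Type u) [CommSemiring S] [Algebra A S] {n : ℕ}
    (ψ : MvPolynomial (Fin n) A →ₐ[A] S) (p : MvPolynomial (Fin n) A ⊗[A] B) :
    (PolyLawFam.law T hT).toFun' S (ψ.toLinearMap.rTensor B p) =
      ψ.toLinearMap.rTensor C (T n p) := by
  rw [← (PolyLawFam.law T hT).isCompat_apply' ψ p, PolyLawFam.law_toFun' T hT]

include h1 hmul in
lemma famLaw_isMult : PolLaw.IsMult (PolyLawFam.law T hT) := by
  intro S _ _
  refine ⟨?_, fun x y => ?_⟩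
  · let ψ₀ : MvPolynomial (Fin 0) A →ₐ[A] S := MvPolynomial.aeval Fin.elim0
    have h2 : (1 : S ⊗[A] B) = ψ₀.toLinearMap.rTensor B 1 := by
      rw [rTensor_eq_map, map_one]
    rw [h2, famLaw_lift, h1, rTensor_eq_map, map_one]
  · obtain ⟨n, ψ, p, q, rfl, rfl⟩ := exists_lift_pair (R := A) x y
    have h2 : ψ.toLinearMap.rTensor B p * ψ.toLinearMap.rTensor B q =
        ψ.toLinearMap.rTensor B (p * q) := by
      rw [rTensor_eq_map, rTensor_eq_map, rTensor_eq_map, map_mul]
    rw [h2, famLaw_lift, famLaw_lift, famLaw_lift, hmul, rTensor_eq_map, rTensor_eq_map,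
      rTensor_eq_map, map_mul]

include hsm in
lemma famLaw_isHomog : PolLaw.IsHomog (PolyLawFam.law T hT) d := by
  intro S _ _ s x
  obtain ⟨n, ψ, p, q, rfl, rfl⟩ := PolynomialLaw.exists_lift' (R := A) x s
  rw [← rTensor_smul', famLaw_lift, famLaw_lift, hsm, rTensor_smul', map_pow]

/-- The multiplicative law attached to a compatible multiplicative homogeneous family on
polynomial rings. -/
noncomputable def famMulLaw : PolLaw.MulLaw A B C d where
  law := PolyLawFam.law T hT
  homog := famLaw_isHomog T hT hsm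
  mult := famLaw_isMult T hT h1 hmul

lemma famMulLaw_poly (n : ℕ) :
    (famMulLaw T hT h1 hmul hsm).law.toFun' (MvPolynomial (Fin n) A) = T n :=
  PolyLawFam.law_toFun' T hT n

end FamLaw

section Poly

attribute [local instance] MvPolynomial.algebraMvPolynomial

variable (A : Type u) [CommRing A] [IsDomain A]

theorem isIntegrallyClosed_mvPolynomial_fin [IsIntegrallyClosed A] :
    ∀ n : ℕ, IsIntegrallyClosed (MvPolynomial (Fin n) A)
  | 0 => IsIntegrallyClosed.of_equiv (MvPolynomial.isEmptyAlgEquiv A (Fin 0)).symm.toRingEquiv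
  | (n + 1) => by
      haveI := isIntegrallyClosed_mvPolynomial_fin n
      exact IsIntegrallyClosed.of_equiv (MvPolynomial.finSuccEquiv A n).symm.toRingEquiv

/-- Polynomial ring over `A`. -/
abbrev DNP (n : ℕ) := MvPolynomial (Fin n) A
/-- Polynomial ring over the fraction field. -/
abbrev DNPK (n : ℕ) := MvPolynomial (Fin n) (FractionRing A)
/-- Fraction field of the polynomial ring. -/
abbrev DNL (n : ℕ) := FractionRing (MvPolynomial (Fin n) A)

/-- The fraction field of `A[t]` as an algebra over the fraction field of `A`. -/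
@[reducible] noncomputable def algKL (n : ℕ) : Algebra (FractionRing A) (DNL A n) :=
  FractionRing.liftAlgebra A (DNL A n)

attribute [local instance] algKL

lemma towKL (n : ℕ) : IsScalarTower A (FractionRing A) (DNL A n) :=
  FractionRing.isScalarTower_liftAlgebra A _

attribute [local instance] towKL

/-- `K[t] → Frac(A[t])`. -/
noncomputable def θn (n : ℕ) : DNPK A n →ₐ[FractionRing A] DNL A n :=
  MvPolynomial.aeval (fun i => algebraMap (DNP A n) (DNL A n) (MvPolynomial.X i))

/-- `A[t] → K[t]`. -/
noncomputable def jn' (n : ℕ) : DNP A n →ₐ[A] DNPK A n := IsScalarTower.toAlgHom A _ _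

lemma jn'_apply (n : ℕ) (p : DNP A n) :
    jn' A n p = MvPolynomial.map (algebraMap A (FractionRing A)) p := rfl

lemma jn'_injective (n : ℕ) : Function.Injective (jn' A n) :=
  MvPolynomial.map_injective _ (IsFractionRing.injective A (FractionRing A))

lemma θn_comp (n : ℕ) :
    ((θn A n).restrictScalars A).comp (jn' A n) = IsScalarTower.toAlgHom A (DNP A n) (DNL A n) := by
  apply MvPolynomial.algHom_ext
  intro i
  simp [θn, jn'_apply]

lemma θn_jn' (n : ℕ) (p : DNP A n) : θn A n (jn' A n p) = algebraMap (DNP A n) (DNL A n) p :=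
  AlgHom.congr_fun (θn_comp A n) p

lemma θn_injective (n : ℕ) : Function.Injective (θn A n) := by
  rw [injective_iff_map_eq_zero]
  intro f hf
  obtain ⟨⟨g, s⟩, hs⟩ := IsLocalization.surj
    ((nonZeroDivisors A).map (MvPolynomial.C (σ := Fin n))) f
  have hs' : f * jn' A n s.1 = jn' A n g := hs
  have h1 := congrArg (θn A n) hs'
  rw [map_mul, hf, zero_mul, θn_jn'] at h1
  have hg : g = 0 := by
    apply IsFractionRing.injective (DNP A n) (DNL A n)
    rw [map_zero, ← h1]
  rw [hg, map_zero] at hs'
  rcases mul_eq_zero.mp hs' with h2 | h2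
  · exact h2
  · exfalso
    have h3 : (s : DNP A n) = 0 := jn'_injective A n (by rw [h2, map_zero])
    obtain ⟨a, ha, has⟩ := s.2
    rw [← has] at h3
    have : a = 0 := MvPolynomial.C_injective (Fin n) A (by rw [h3, map_zero])
    exact (nonZeroDivisors.ne_zero ha) this

end Poly

section Main

attribute [local instance] MvPolynomial.algebraMvPolynomial algKL towKL modBK modBK_tower

variable {A : Type u} [CommRing A] [IsDomain A] [IsIntegrallyClosed A]
  {B : Type u} [CommRing B] [Algebra A B]
  (M : Type u) [AddCommGroup M] [Module A M] [Module B M] [IsScalarTower A B M]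
  [Module.Finite A M]

/-- The image of `x` over the fraction field of the polynomial ring. -/
noncomputable def xLn (n : ℕ) (x : DNP A n ⊗[A] B) : DNL A n ⊗[A] B :=
  Algebra.TensorProduct.map (IsScalarTower.toAlgHom A (DNP A n) (DNL A n)) (AlgHom.id A B) x

lemma exists_Tn (n : ℕ) (x : DNP A n ⊗[A] B) :
    ∃ t : DNP A n, algebraMap (DNP A n) (DNL A n) t = PolLaw.detAct M (DNL A n) (xLn n x) := by
  haveI := isIntegrallyClosed_mvPolynomial_fin A n
  exact IsIntegrallyClosed.isIntegral_iff.mp (isIntegral_detAct M x)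

/-- The value of the determinant law on the polynomial ring. -/
noncomputable def Tn (n : ℕ) (x : DNP A n ⊗[A] B) : DNP A n := (exists_Tn M n x).choose

lemma algebraMap_Tn (n : ℕ) (x : DNP A n ⊗[A] B) :
    algebraMap (DNP A n) (DNL A n) (Tn M n x) = PolLaw.detAct M (DNL A n) (xLn n x) :=
  (exists_Tn M n x).choose_spec

/-- The determinant over `K[t]`. -/
noncomputable def Yn (n : ℕ) (x : DNP A n ⊗[A] B) : DNPK A n :=
  PolLaw.detAct M (DNPK A n) (Algebra.TensorProduct.map (jn' A n) (AlgHom.id A B) x)

lemma θn_Yn (n : ℕ) (x : DNP A n ⊗[A] B) :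
    θn A n (Yn M n x) = PolLaw.detAct M (DNL A n) (xLn n x) := by
  unfold Yn xLn
  have hcomp : (Algebra.TensorProduct.map ((θn A n).restrictScalars A) (AlgHom.id A B)).comp
      (Algebra.TensorProduct.map (jn' A n) (AlgHom.id A B)) =
      Algebra.TensorProduct.map (IsScalarTower.toAlgHom A (DNP A n) (DNL A n)) (AlgHom.id A B) := by
    rw [← Algebra.TensorProduct.map_comp, θn_comp, AlgHom.comp_id]
  rw [← detAct_map_of_tower (FractionRing A) M (θn A n), ← AlgHom.comp_apply, hcomp]

lemma jn'_Tn (n : ℕ) (x : DNP A n ⊗[A] B) : jn' A n (Tn M n x) = Yn M n x := by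
  apply θn_injective A n
  rw [θn_jn', algebraMap_Tn, θn_Yn]

/-- The extension of a substitution to `K[t]`. -/
noncomputable def φKn {n m : ℕ} (φ : DNP A n →ₐ[A] DNP A m) :
    DNPK A n →ₐ[FractionRing A] DNPK A m :=
  MvPolynomial.aeval (fun i => jn' A m (φ (MvPolynomial.X i)))

lemma φKn_comp {n m : ℕ} (φ : DNP A n →ₐ[A] DNP A m) :
    ((φKn φ).restrictScalars A).comp (jn' A n) = (jn' A m).comp φ := by
  apply MvPolynomial.algHom_ext
  intro i
  simp [φKn, jn'_apply]

lemma Tn_compat {n m : ℕ} (φ : DNP A n →ₐ[A] DNP A m) (x : DNP A n ⊗[A] B) :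
    Tn M m (Algebra.TensorProduct.map φ (AlgHom.id A B) x) = φ (Tn M n x) := by
  apply jn'_injective A m
  rw [jn'_Tn]
  unfold Yn
  have h1 : Algebra.TensorProduct.map (jn' A m) (AlgHom.id A B)
      (Algebra.TensorProduct.map φ (AlgHom.id A B) x) =
      Algebra.TensorProduct.map ((φKn φ).restrictScalars A) (AlgHom.id A B)
        (Algebra.TensorProduct.map (jn' A n) (AlgHom.id A B) x) := by
    rw [← AlgHom.comp_apply, ← AlgHom.comp_apply, ← Algebra.TensorProduct.map_comp,
      ← Algebra.TensorProduct.map_comp, φKn_comp]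
  rw [h1, detAct_map_of_tower (FractionRing A) M (φKn φ)]
  change φKn φ (Yn M n x) = _
  rw [← jn'_Tn]
  exact AlgHom.congr_fun (φKn_comp φ) (Tn M n x)

lemma Tn_one (n : ℕ) : Tn M n (1 : DNP A n ⊗[A] B) = 1 := by
  apply IsFractionRing.injective (DNP A n) (DNL A n)
  rw [algebraMap_Tn, map_one]
  unfold xLn
  rw [map_one, PolLaw.detAct_one]

lemma Tn_mul (n : ℕ) (x y : DNP A n ⊗[A] B) : Tn M n (x * y) = Tn M n x * Tn M n y := by
  apply IsFractionRing.injective (DNP A n) (DNL A n)
  rw [algebraMap_Tn, map_mul, algebraMap_Tn, algebraMap_Tn]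
  unfold xLn
  rw [map_mul, PolLaw.detAct_mul]

lemma xLn_smul (n : ℕ) (q : DNP A n) (x : DNP A n ⊗[A] B) :
    xLn n (q • x) = algebraMap (DNP A n) (DNL A n) q • xLn n x := by
  unfold xLn
  rw [smul_eq_tmul_one_mul, smul_eq_tmul_one_mul, map_mul, Algebra.TensorProduct.map_tmul,
    map_one]
  rfl

lemma Tn_smul (n : ℕ) (q : DNP A n) (x : DNP A n ⊗[A] B) :
    Tn M n (q • x) =
      q ^ Module.finrank (FractionRing A) (FractionRing A ⊗[A] M) * Tn M n x := by
  apply IsFractionRing.injective (DNP A n) (DNL A n)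
  rw [algebraMap_Tn, map_mul, map_pow, algebraMap_Tn, xLn_smul,
    detAct_smul_of_tower (FractionRing A) M]

/-- The family with values in `A[t] ⊗ A`. -/
noncomputable def TnFam (n : ℕ) (x : DNP A n ⊗[A] B) : DNP A n ⊗[A] A :=
  Tn M n x ⊗ₜ[A] (1 : A)

lemma TnFam_compat (n m : ℕ) (φ : DNP A n →ₐ[A] DNP A m) :
    φ.toLinearMap.rTensor A ∘ TnFam M n = TnFam M m ∘ φ.toLinearMap.rTensor B := by
  funext x
  simp only [Function.comp_apply]
  unfold TnFam
  rw [LinearMap.rTensor_tmul, AlgHom.toLinearMap_apply, rTensor_eq_map, Tn_compat]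

/-- Existence of the determinant law over a normal base. -/
theorem exists_detLaw_normal (d : ℕ)
    (hd : Module.finrank (FractionRing A) (FractionRing A ⊗[A] M) = d) :
    ∃ N : PolLaw.MulLaw A B A d, ∀ (n : ℕ) (x : MvPolynomial (Fin n) A ⊗[A] B),
      algebraMap (MvPolynomial (Fin n) A) (FractionRing (MvPolynomial (Fin n) A))
          (TensorProduct.rid A (MvPolynomial (Fin n) A)
            (N.law.toFun' (MvPolynomial (Fin n) A) x)) =
        LinearMap.det (PolLaw.actEnd M (FractionRing (MvPolynomial (Fin n) A))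
          (Algebra.TensorProduct.map
            (IsScalarTower.toAlgHom A (MvPolynomial (Fin n) A)
              (FractionRing (MvPolynomial (Fin n) A)))
            (AlgHom.id A B) x)) := by
  have h1 : ∀ n, TnFam (A := A) (B := B) M n 1 = (1 : DNP A n ⊗[A] A) := by
    intro n
    unfold TnFam
    rw [Tn_one]
    rfl
  have hmul : ∀ n (p q : DNP A n ⊗[A] B), TnFam M n (p * q) = TnFam M n p * TnFam M n q := by
    intro n p q
    unfold TnFam
    rw [Tn_mul, Algebra.TensorProduct.tmul_mul_tmul, mul_one]
  have hsm : ∀ n (s : DNP A n) (p : DNP A n ⊗[A] B), TnFam M n (s • p) = s ^ d • TnFam M n p := by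
    intro n s p
    unfold TnFam
    rw [Tn_smul, hd, TensorProduct.smul_tmul', smul_eq_mul]
  refine ⟨famMulLaw (TnFam M) (TnFam_compat M) h1 hmul hsm, fun n x => ?_⟩
  rw [famMulLaw_poly]
  unfold TnFam
  rw [TensorProduct.rid_tmul, one_smul, algebraMap_Tn]
  rfl

end Main

end Groth.Agent.Lib.Helper6.ZC
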