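import Mathlib
import Groth.Prelude.Def_PolLaw
import Groth.Prelude.Def_PolLaw2
import Groth.Agent.Lib.Helper6.ZC.Ker

/-!
# The determinant law of a finitely generated projective module (helper6)

For a commutative `A`-algebra `B` and a `B`-module `M` which is finitely generated projective over
`A` we construct a multiplicative polynomial law `B → A` whose member over a local test ring `S`
is the determinant of the action on the free module `S ⊗ M`.  The construction uses a complement
`Q` with `M × Q` finite free, the product ring `B × A` acting on `M × Q`, and the prelude's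
determinant law of a free module.
-/

set_option autoImplicit false
set_option linter.unusedSectionVars false
set_option linter.unusedVariables false
set_option linter.unusedSimpArgs false
set_option linter.style.haveILetI false
set_option maxHeartbeats 400000
universe u
open scoped TensorProduct

namespace Groth.Agent.Lib.Helper6.ZC

section Loc

variable {A : Type u} [CommRing A]

lemma rid_rTensor_algHom {S S' : Type u} [CommSemiring S] [Algebra A S] [CommSemiring S']
    [Algebra A S'] (φ : S →ₐ[A] S') (u : S ⊗[A] A) :
    TensorProduct.rid A S' (φ.toLinearMap.rTensor A u) = φ (TensorProduct.rid A S u) := by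
  induction u using TensorProduct.induction_on with
  | zero => simp
  | tmul s a => simp [LinearMap.rTensor_tmul]
  | add x y hx hy => simp only [map_add, hx, hy]

lemma rTensor_algHom_smul {N : Type u} [AddCommGroup N] [Module A N]
    {S S' : Type u} [CommSemiring S] [Algebra A S] [CommSemiring S']
    [Algebra A S'] (φ : S →ₐ[A] S') (s : S) (u : S ⊗[A] N) :
    φ.toLinearMap.rTensor N (s • u) = φ s • φ.toLinearMap.rTensor N u := by
  induction u using TensorProduct.induction_on with
  | zero => simp
  | tmul t a => simp [LinearMap.rTensor_tmul, TensorProduct.smul_tmul']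
  | add x y hx hy => simp only [smul_add, map_add, hx, hy]

/-- Two elements of `S ⊗ A` that agree in all localisations of `S` at maximal ideals agree. -/
theorem eq_of_forall_localization {S : Type u} [CommRing S] [Algebra A S] (u v : S ⊗[A] A)
    (h : ∀ (J : Ideal S) [J.IsMaximal],
      (IsScalarTower.toAlgHom A S (Localization.AtPrime J)).toLinearMap.rTensor A u =
        (IsScalarTower.toAlgHom A S (Localization.AtPrime J)).toLinearMap.rTensor A v) :
    u = v := by
  apply (TensorProduct.rid A S).injective
  rw [← sub_eq_zero]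
  apply eq_zero_of_localization
  intro J hJ
  have h1 := congrArg (TensorProduct.rid A (Localization.AtPrime J)) (h J)
  rw [rid_rTensor_algHom, rid_rTensor_algHom] at h1
  rw [map_sub, sub_eq_zero]
  exact h1

/-- Two polynomial laws with values in `A` that agree over all local test rings are equal. -/
theorem law_ext_of_local {B : Type u} [AddCommGroup B] [Module A B] {N N' : B →ₚₗ[A] A}
    (h : ∀ (S : Type u) [CommRing S] [IsLocalRing S] [Algebra A S] (x : S ⊗[A] B),
      N.toFun' S x = N'.toFun' S x) : N = N' := by
  ext S _ instA x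
  letI : CommRing S := commRingOfAlgebra A S
  apply eq_of_forall_localization
  intro J _
  rw [PolynomialLaw.isCompat_apply', PolynomialLaw.isCompat_apply', h]

end Loc

section ProdMod

variable {A : Type u} [CommRing A] {B : Type u} [CommRing B] [Algebra A B]
  (M : Type u) [AddCommGroup M] [Module A M] [Module B M] [IsScalarTower A B M]
  (Q : Type u) [AddCommGroup Q] [Module A Q]

/-- The product ring `B × A` acts on `M × Q` componentwise. -/
@[reducible] def prodModule : Module (B × A) (M × Q) where
  smul c z := (c.1 • z.1, c.2 • z.2)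
  one_smul z := Prod.ext (one_smul _ _) (one_smul _ _)
  mul_smul c c' z := Prod.ext (mul_smul _ _ _) (mul_smul _ _ _)
  smul_zero c := Prod.ext (smul_zero _) (smul_zero _)
  smul_add c z z' := Prod.ext (smul_add _ _ _) (smul_add _ _ _)
  add_smul c c' z := Prod.ext (add_smul _ _ _) (add_smul _ _ _)
  zero_smul z := Prod.ext (zero_smul _ _) (zero_smul _ _)

attribute [local instance] prodModule

lemma prodModule_smul_def (c : B × A) (z : M × Q) : c • z = (c.1 • z.1, c.2 • z.2) := rfl

lemma prodModule_isScalarTower : IsScalarTower A (B × A) (M × Q) where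
  smul_assoc a c z := Prod.ext (smul_assoc _ _ _) (smul_assoc _ _ _)

attribute [local instance] prodModule_isScalarTower

/-- The affine map `x ↦ (x, 1)` on test algebras. -/
noncomputable def ιU (S : Type u) [CommSemiring S] [Algebra A S] (x : S ⊗[A] B) :
    S ⊗[A] (B × A) :=
  (LinearMap.inl A B A).lTensor S x + (1 : S) ⊗ₜ[A] ((0 : B), (1 : A))

lemma inl_lTensor_mul (S : Type u) [CommSemiring S] [Algebra A S] (x y : S ⊗[A] B) :
    (LinearMap.inl A B A).lTensor S (x * y) =
      (LinearMap.inl A B A).lTensor S x * (LinearMap.inl A B A).lTensor S y := by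
  induction x using TensorProduct.induction_on with
  | zero => simp
  | tmul s b =>
    induction y using TensorProduct.induction_on with
    | zero => simp
    | tmul t c =>
      simp only [Algebra.TensorProduct.tmul_mul_tmul, LinearMap.lTensor_tmul, LinearMap.inl_apply]
      congr 1
      ext <;> simp
    | add y y' hy hy' => simp only [mul_add, map_add, hy, hy']
  | add x x' hx hx' => simp only [add_mul, map_add, hx, hx']

lemma inl_lTensor_mul_e (S : Type u) [CommSemiring S] [Algebra A S] (x : S ⊗[A] B) :
    (LinearMap.inl A B A).lTensor S x * ((1 : S) ⊗ₜ[A] ((0 : B), (1 : A))) = 0 := by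
  induction x using TensorProduct.induction_on with
  | zero => simp
  | tmul s b =>
    simp only [Algebra.TensorProduct.tmul_mul_tmul, LinearMap.lTensor_tmul, LinearMap.inl_apply]
    have : ((b, (0 : A)) * ((0 : B), (1 : A)) : B × A) = 0 := by ext <;> simp
    rw [this, TensorProduct.tmul_zero]
  | add x x' hx hx' => simp only [add_mul, map_add, hx, hx', add_zero]

lemma ιU_one (S : Type u) [CommSemiring S] [Algebra A S] : ιU (A := A) (B := B) S 1 = 1 := by
  unfold ιU
  rw [Algebra.TensorProduct.one_def, LinearMap.lTensor_tmul, ← TensorProduct.tmul_add,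
    Algebra.TensorProduct.one_def]
  congr 1
  ext <;> simp

lemma ιU_mul (S : Type u) [CommSemiring S] [Algebra A S] (x y : S ⊗[A] B) :
    ιU (A := A) (B := B) S (x * y) = ιU S x * ιU S y := by
  unfold ιU
  have he : ((1 : S) ⊗ₜ[A] ((0 : B), (1 : A))) * ((1 : S) ⊗ₜ[A] ((0 : B), (1 : A))) =
      (1 : S) ⊗ₜ[A] ((0 : B), (1 : A)) := by
    rw [Algebra.TensorProduct.tmul_mul_tmul, one_mul]
    congr 1
    ext <;> simp
  have h1 := inl_lTensor_mul_e (A := A) (B := B) S x
  have h2 : ((1 : S) ⊗ₜ[A] ((0 : B), (1 : A))) * (LinearMap.inl A B A).lTensor S y = 0 := by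
    rw [mul_comm]
    exact inl_lTensor_mul_e (A := A) (B := B) S y
  rw [add_mul, mul_add, mul_add, h1, h2, he, ← inl_lTensor_mul, add_zero, zero_add]

lemma ιU_compat {S S' : Type u} [CommSemiring S] [Algebra A S] [CommSemiring S'] [Algebra A S']
    (φ : S →ₐ[A] S') (x : S ⊗[A] B) :
    φ.toLinearMap.rTensor (B × A) (ιU S x) = ιU S' (φ.toLinearMap.rTensor B x) := by
  unfold ιU
  rw [map_add, LinearMap.rTensor_tmul, AlgHom.toLinearMap_apply, map_one,
    ← LinearMap.comp_apply, LinearMap.rTensor_comp_lTensor, ← LinearMap.lTensor_comp_rTensor,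
    LinearMap.comp_apply]

variable [Module.Free A (M × Q)] [Module.Finite A (M × Q)]

/-- The determinant law of the projective module `M` with complement `Q`. -/
noncomputable def detProjLaw : B →ₚₗ[A] A where
  toFun' S _ _ x := PolLaw.detFun A (B × A) (M × Q) S (ιU S x)
  isCompat' φ := by
    funext x
    simp only [Function.comp_apply]
    rw [PolLaw.detFun_compat, ιU_compat]

lemma detProjLaw_toFun' (S : Type u) [CommSemiring S] [Algebra A S] (x : S ⊗[A] B) :
    (detProjLaw (A := A) (B := B) M Q).toFun' S x =
      PolLaw.detFun A (B × A) (M × Q) S (ιU S x) := rfl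

theorem detProjLaw_isMult : PolLaw.IsMult (detProjLaw (A := A) (B := B) M Q) := by
  intro S _ _
  refine ⟨?_, fun x y => ?_⟩
  · rw [detProjLaw_toFun', ιU_one, PolLaw.detFun_one]
  · rw [detProjLaw_toFun', detProjLaw_toFun', detProjLaw_toFun', ιU_mul, PolLaw.detFun_mul]

/-- The action of `ι x` on `S ⊗ (M × Q)` is `x` on `S ⊗ M` and the identity on `S ⊗ Q`. -/
lemma prodRight_actEnd_inl (S : Type u) [CommRing S] [Algebra A S] (x : S ⊗[A] B)
    (z : S ⊗[A] (M × Q)) :
    TensorProduct.prodRight A S S M Q
        (PolLaw.actEnd (M × Q) S ((LinearMap.inl A B A).lTensor S x) z) =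
      (PolLaw.actEnd M S x (TensorProduct.prodRight A S S M Q z).1, 0) := by
  induction x using TensorProduct.induction_on with
  | zero => (simp; rfl)
  | tmul s b =>
    induction z using TensorProduct.induction_on with
    | zero => (simp; rfl)
    | tmul t mq =>
      rw [LinearMap.lTensor_tmul, PolLaw.actEnd_tmul_tmul, TensorProduct.prodRight_tmul,
        TensorProduct.prodRight_tmul, PolLaw.actEnd_tmul_tmul, prodModule_smul_def]
      simp
    | add z z' hz hz' =>
      rw [map_add, map_add, hz, hz', map_add, Prod.fst_add, map_add]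
      simp
  | add x x' hx hx' =>
    rw [map_add, map_add, LinearMap.add_apply, map_add, hx, hx', map_add, LinearMap.add_apply]
    simp

lemma prodRight_actEnd_e (S : Type u) [CommRing S] [Algebra A S] (z : S ⊗[A] (M × Q)) :
    TensorProduct.prodRight A S S M Q
        (PolLaw.actEnd (M × Q) S ((1 : S) ⊗ₜ[A] (((0 : B), (1 : A)) : B × A)) z) =
      (0, (TensorProduct.prodRight A S S M Q z).2) := by
  induction z using TensorProduct.induction_on with
  | zero => (simp; rfl)
  | tmul t mq =>
    rw [PolLaw.actEnd_tmul_tmul, TensorProduct.prodRight_tmul,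
      TensorProduct.prodRight_tmul, prodModule_smul_def]
    simp
  | add z z' hz hz' =>
    rw [map_add, map_add, hz, hz', map_add, Prod.snd_add]
    simp

lemma actEnd_ιU_eq (S : Type u) [CommRing S] [Algebra A S] (x : S ⊗[A] B) :
    PolLaw.actEnd (M × Q) S (ιU S x) =
      ((TensorProduct.prodRight A S S M Q).symm).toLinearMap ∘ₗ
        (LinearMap.prodMap (PolLaw.actEnd M S x) (LinearMap.id : S ⊗[A] Q →ₗ[S] S ⊗[A] Q)) ∘ₗ
        ((TensorProduct.prodRight A S S M Q).symm.symm).toLinearMap := by
  apply LinearMap.ext
  intro z
  apply (TensorProduct.prodRight A S S M Q).injective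
  simp only [LinearMap.coe_comp, LinearEquiv.coe_coe, Function.comp_apply,
    LinearEquiv.apply_symm_apply, LinearEquiv.symm_symm]
  unfold ιU
  rw [map_add, LinearMap.add_apply, map_add, prodRight_actEnd_inl, prodRight_actEnd_e]
  simp

theorem detAct_ιU (S : Type u) [CommRing S] [Algebra A S]
    [Module.Free S (S ⊗[A] M)] [Module.Finite S (S ⊗[A] M)]
    [Module.Free S (S ⊗[A] Q)] [Module.Finite S (S ⊗[A] Q)] (x : S ⊗[A] B) :
    PolLaw.detAct (M × Q) S (ιU S x) = PolLaw.detAct M S x := by
  unfold PolLaw.detAct
  rw [actEnd_ιU_eq, LinearMap.det_conj, LinearMap.det_prodMap, LinearMap.det_id, mul_one]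

/-- The local formula. -/
theorem detProjLaw_local [Module.Finite A M] [Module.Projective A M]
    [Module.Finite A Q] [Module.Projective A Q]
    (S : Type u) [CommRing S] [IsLocalRing S] [Algebra A S] (x : S ⊗[A] B) :
    (detProjLaw (A := A) (B := B) M Q).toFun' S x = PolLaw.detAct M S x ⊗ₜ[A] (1 : A) := by
  haveI : Module.Free S (S ⊗[A] M) := Module.free_of_flat_of_isLocalRing
  haveI : Module.Free S (S ⊗[A] Q) := Module.free_of_flat_of_isLocalRing
  rw [detProjLaw_toFun', PolLaw.detFun_eq_detAct, detAct_ιU]

end ProdMod

section Main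

variable {A : Type u} [CommRing A] {B : Type u} [CommRing B] [Algebra A B]
  (M : Type u) [AddCommGroup M] [Module A M] [Module B M] [IsScalarTower A B M]
  [Module.Finite A M] [Module.Projective A M]

/-- A finitely generated projective module has a finitely generated projective complement with
finite free sum. -/
theorem exists_complement : ∃ (Q : Type u) (_ : AddCommGroup Q) (_ : Module A Q),
    Module.Free A (M × Q) ∧ Module.Finite A (M × Q) ∧ Module.Finite A Q ∧
      Module.Projective A Q := by
  obtain ⟨n, f, g, hf, hg, hfg⟩ := Module.Finite.exists_comp_eq_id_of_projective A M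
  have hfg' : ∀ m, f (g m) = m := fun m => LinearMap.congr_fun hfg m
  refine ⟨LinearMap.ker f, inferInstance, inferInstance, ?_⟩
  let e : (M × LinearMap.ker f) ≃ₗ[A] (Fin n → A) :=
    { toFun := fun z => g z.1 + z.2.1
      map_add' := fun z z' => by
        simp only [Prod.fst_add, Prod.snd_add, map_add, Submodule.coe_add]
        abel
      map_smul' := fun a z => by
        simp only [Prod.smul_fst, Prod.smul_snd, map_smul, Submodule.coe_smul, RingHom.id_apply,
          smul_add]
      invFun := fun v => (f v, ⟨v - g (f v), by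
        rw [LinearMap.mem_ker, map_sub, hfg', sub_self]⟩)
      left_inv := fun z => by
        obtain ⟨m, q, hq⟩ := z
        rw [LinearMap.mem_ker] at hq
        ext
        · simp [hfg', hq]
        · simp [hfg', hq]
      right_inv := fun v => by simp }
  have hfree : Module.Free A (M × LinearMap.ker f) := Module.Free.of_equiv e.symm
  have hfin : Module.Finite A (M × LinearMap.ker f) := Module.Finite.equiv e.symm
  refine ⟨hfree, hfin, ?_, ?_⟩
  · exact Module.Finite.of_surjective (LinearMap.snd A M (LinearMap.ker f))
      LinearMap.snd_surjective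
  · exact Module.Projective.of_split (LinearMap.inr A M (LinearMap.ker f))
      (LinearMap.snd A M (LinearMap.ker f)) (by ext; simp)

/-- Existence of the determinant law of a finitely generated projective module. -/
theorem exists_detLaw_local : ∃ N : B →ₚₗ[A] A, PolLaw.IsMult N ∧
    ∀ (S : Type u) [CommRing S] [IsLocalRing S] [Algebra A S] (x : S ⊗[A] B),
      N.toFun' S x = PolLaw.detAct M S x ⊗ₜ[A] (1 : A) := by
  obtain ⟨Q, iQ1, iQ2, h1, h2, h3, h4⟩ := exists_complement (A := A) M
  exact ⟨detProjLaw M Q, detProjLaw_isMult M Q, fun S _ _ _ x => detProjLaw_local M Q S x⟩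

lemma detAct_smul_of_local (S : Type u) [CommRing S] [IsLocalRing S] [Algebra A S] (d : ℕ)
    (hd : ∀ p : PrimeSpectrum A, Module.rankAtStalk M p = d) (r : S) (x : S ⊗[A] B) :
    PolLaw.detAct M S (r • x) = r ^ d * PolLaw.detAct M S x := by
  haveI : Module.Free S (S ⊗[A] M) := Module.free_of_flat_of_isLocalRing
  unfold PolLaw.detAct
  rw [map_smul, LinearMap.det_smul]
  congr 2
  have h1 := congrFun (Module.rankAtStalk_eq_finrank_of_free (R := S) (M := S ⊗[A] M))
    (IsLocalRing.closedPoint S)
  rw [Module.rankAtStalk_baseChange, hd] at h1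
  simpa using h1.symm

/-- A law given by determinants over local rings is homogeneous of the (constant) rank. -/
theorem isHomog_of_local (N : B →ₚₗ[A] A)
    (hN : ∀ (S : Type u) [CommRing S] [IsLocalRing S] [Algebra A S] (x : S ⊗[A] B),
      N.toFun' S x = PolLaw.detAct M S x ⊗ₜ[A] (1 : A))
    (d : ℕ) (hd : ∀ p : PrimeSpectrum A, Module.rankAtStalk M p = d) : PolLaw.IsHomog N d := by
  intro S _ instA s x
  letI : CommRing S := commRingOfAlgebra A S
  apply eq_of_forall_localization
  intro J _
  rw [PolynomialLaw.isCompat_apply', rTensor_algHom_smul, rTensor_algHom_smul,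
    PolynomialLaw.isCompat_apply', hN, hN, detAct_smul_of_local M _ d hd, map_pow,
    TensorProduct.smul_tmul', smul_eq_mul]

end Main

end Groth.Agent.Lib.Helper6.ZC
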