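import Mathlib
import Groth.Prelude.Def_PolLaw
import Groth.Agent.Lib.Helper6.ZC.Abs

/-!
# The fibres of the image of a family of zero cycles (helper6)
-/

set_option autoImplicit false
set_option linter.unusedSectionVars false
set_option linter.unusedVariables false
set_option linter.unusedSimpArgs false
set_option linter.style.haveILetI false
set_option maxHeartbeats 400000
universe u
open scoped TensorProduct
open Polynomial

namespace Groth.Agent.Lib.Helper6.ZC

section Nil

variable {R₁ R₂ : Type*} [CommRing R₁] [CommRing R₂]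

lemma comap_surjective_of_nil_ker (f : R₁ →+* R₂) (hf : Function.Surjective f)
    (hker : ∀ x, f x = 0 → IsNilpotent x) :
    Function.Surjective (PrimeSpectrum.comap f) := by
  intro P
  have hle : RingHom.ker f ≤ P.asIdeal := by
    intro x hx
    obtain ⟨n, hn⟩ := hker x hx
    exact P.2.mem_of_pow_mem n (by rw [hn]; exact P.asIdeal.zero_mem)
  have hprime : (P.asIdeal.map f).IsPrime := Ideal.map_isPrime_of_surjective hf hle
  refine ⟨⟨P.asIdeal.map f, hprime⟩, ?_⟩
  ext1
  show (P.asIdeal.map f).comap f = P.asIdeal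
  rw [Ideal.comap_map_of_surjective f hf]
  exact sup_eq_left.mpr hle

end Nil

section Fibre

variable {A : Type u} [CommRing A] {B : Type u} [CommRing B] [Algebra A B] {d : ℕ}
variable (F : PolLaw.MulLaw A B A d)
variable (T : Type u) [CommRing T] [Algebra A T]

/-- `B ⧸ ker F → (T ⊗ B) ⧸ relKer`. -/
noncomputable def gT : PolLaw.image F.law →ₐ[A] RT F T :=
  Ideal.Quotient.liftₐ (PolLaw.ker F.law)
    (((Ideal.Quotient.mkₐ A (relKer F T))).comp
      (Algebra.TensorProduct.includeRight : B →ₐ[A] T ⊗[A] B))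
    (by
      intro b hb
      rw [AlgHom.comp_apply, Ideal.Quotient.mkₐ_eq_mk, Ideal.Quotient.eq_zero_iff_mem]
      exact inKer_one_tmul hb)

/-- `T → (T ⊗ B) ⧸ relKer`. -/
noncomputable def hT : T →ₐ[A] RT F T :=
  ((Ideal.Quotient.mkₐ A (relKer F T))).comp
    (Algebra.TensorProduct.includeLeft : T →ₐ[A] T ⊗[A] B)

/-- The comparison map `T ⊗ (B ⧸ ker F) → (T ⊗ B) ⧸ relKer`. -/
noncomputable def fT : T ⊗[A] PolLaw.image F.law →ₐ[A] RT F T :=
  Algebra.TensorProduct.productMap (hT F T) (gT F T)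

/-- `T ⊗ B → T ⊗ (B ⧸ ker F)`. -/
noncomputable def qT : T ⊗[A] B →ₐ[A] T ⊗[A] PolLaw.image F.law :=
  Algebra.TensorProduct.map (AlgHom.id A T) (Ideal.Quotient.mkₐ A (PolLaw.ker F.law))

lemma qT_eq_lTensor (w : T ⊗[A] B) : qT F T w =
    (Ideal.Quotient.mkₐ A (PolLaw.ker F.law)).toLinearMap.lTensor T w := by
  induction w using TensorProduct.induction_on with
  | zero => simp
  | tmul a b => rfl
  | add a b ha hb => rw [map_add, map_add, ha, hb]

lemma qT_surjective : Function.Surjective (qT F T) := by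
  intro z
  obtain ⟨w, hw⟩ := LinearMap.lTensor_surjective T
    (g := (Ideal.Quotient.mkₐ A (PolLaw.ker F.law)).toLinearMap)
    (Ideal.Quotient.mkₐ_surjective A _) z
  exact ⟨w, by rw [qT_eq_lTensor, hw]⟩

lemma gT_mk (b : B) : gT F T (Ideal.Quotient.mk (PolLaw.ker F.law) b) =
    Ideal.Quotient.mk (relKer F T) ((1 : T) ⊗ₜ[A] b) := rfl

lemma hT_apply (t : T) : hT F T t = Ideal.Quotient.mk (relKer F T) (t ⊗ₜ[A] (1 : B)) := rfl

lemma fT_qT (z : T ⊗[A] B) : fT F T (qT F T z) = Ideal.Quotient.mk (relKer F T) z := by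
  have h : (fT F T).comp (qT F T) = Ideal.Quotient.mkₐ A (relKer F T) := by
    apply Algebra.TensorProduct.ext'
    intro t b
    rw [AlgHom.comp_apply, qT, Algebra.TensorProduct.map_tmul, fT,
      Algebra.TensorProduct.productMap_apply_tmul, AlgHom.id_apply, hT_apply,
      Ideal.Quotient.mkₐ_eq_mk, gT_mk, ← map_mul, Algebra.TensorProduct.tmul_mul_tmul, mul_one,
      one_mul, Ideal.Quotient.mkₐ_eq_mk]
  exact DFunLike.congr_fun h z

lemma fT_surjective : Function.Surjective (fT F T) := by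
  intro x
  obtain ⟨z, rfl⟩ := Ideal.Quotient.mk_surjective x
  exact ⟨qT F T z, fT_qT F T z⟩

lemma qT_extKer {z : T ⊗[A] B} (hz : z ∈ extKer F.law T) : qT F T z = 0 := by
  have h : extKer F.law T ≤ RingHom.ker (qT F T : T ⊗[A] B →+* T ⊗[A] PolLaw.image F.law) := by
    rw [extKer, Ideal.map_le_iff_le_comap]
    intro b hb
    rw [Ideal.mem_comap, RingHom.mem_ker]
    show qT F T ((1 : T) ⊗ₜ[A] b) = 0
    rw [qT, Algebra.TensorProduct.map_tmul, Ideal.Quotient.mkₐ_eq_mk,
      Ideal.Quotient.eq_zero_iff_mem.mpr hb, TensorProduct.tmul_zero]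
  exact h hz

lemma fT_nil (x : T ⊗[A] PolLaw.image F.law) (hx : fT F T x = 0) : IsNilpotent x := by
  obtain ⟨z, rfl⟩ := qT_surjective F T x
  rw [fT_qT, Ideal.Quotient.eq_zero_iff_mem] at hx
  obtain ⟨n, hn⟩ := relKer_le_radical F T hx
  refine ⟨n, ?_⟩
  rw [← map_pow]
  exact qT_extKer F T hn

theorem comap_fT_surjective :
    Function.Surjective (PrimeSpectrum.comap (fT F T : T ⊗[A] PolLaw.image F.law →+* RT F T)) :=
  comap_surjective_of_nil_ker _ (fT_surjective F T) (fT_nil F T)

end Fibre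

section FibreField

variable {A : Type u} [CommRing A] {B : Type u} [CommRing B] [Algebra A B] {d : ℕ}
variable (F : PolLaw.MulLaw A B A d)
variable (K : Type u) [Field K] [Algebra A K]

/-- `S13723`. -/
theorem card_primeSpectrum_fibre_le :
    Finite (PrimeSpectrum (K ⊗[A] PolLaw.image F.law)) ∧
      Nat.card (PrimeSpectrum (K ⊗[A] PolLaw.image F.law)) ≤ d := by
  obtain ⟨hfin, hcard⟩ := card_primeSpectrum_RT_le F K
  have hsurj := comap_fT_surjective F K
  have hfin' : Finite (PrimeSpectrum (K ⊗[A] PolLaw.image F.law)) :=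
    Finite.of_surjective _ hsurj
  exact ⟨hfin', (Nat.card_le_card_of_surjective _ hsurj).trans hcard⟩

end FibreField

end Groth.Agent.Lib.Helper6.ZC
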