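import Mathlib
import Groth.Prelude.Def_PolLaw
import Groth.Agent.Lib.Helper6.ZC.Fibre
import Groth.Agent.Lib.Helper6.ZC.GenG

/-!
# Over a domain the image of a family of zero cycles is torsion free (helper6)
-/

set_option autoImplicit false
set_option linter.unusedSectionVars false
set_option linter.unusedVariables false
set_option linter.unusedSimpArgs false
set_option linter.style.haveILetI false
set_option maxHeartbeats 400000
universe u
open scoped TensorProduct

namespace Groth.Agent.Lib.Helper6.ZC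

section TF

variable {A : Type u} [CommRing A] [IsDomain A] {B : Type u} [CommRing B] [Algebra A B]
variable (F : B →ₚₗ[A] A)

/-- Membership in the kernel can be tested over the fraction field. -/
theorem mem_ker_of_inKer_fractionRing {b : B}
    (h : InKer F (FractionRing A) ((1 : FractionRing A) ⊗ₜ[A] b)) : b ∈ PolLaw.ker F := by
  apply mem_ker_of_commRing
  intro S _ _ x w
  obtain ⟨n, ψ, p, q, rfl, rfl⟩ := exists_lift_pair (R := A) x w
  have h1 : ψ.toLinearMap.rTensor B p + ψ.toLinearMap.rTensor B q * (1 : S) ⊗ₜ[A] b =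
      ψ.toLinearMap.rTensor B (p + q * (1 : MvPolynomial (Fin n) A) ⊗ₜ[A] b) := by
    rw [rTensor_eq_map, rTensor_eq_map, rTensor_eq_map, map_add, map_mul,
      Algebra.TensorProduct.map_tmul, map_one, AlgHom.id_apply]
  rw [h1, ← F.isCompat_apply', ← F.isCompat_apply']
  congr 1
  rw [← Fh_eq_iff]
  let ι : MvPolynomial (Fin n) A →ₐ[A] MvPolynomial (Fin n) (FractionRing A) :=
    MvPolynomial.mapAlgHom (Algebra.ofId A (FractionRing A))
  have hι : Function.Injective ι := by
    have : (ι : MvPolynomial (Fin n) A → MvPolynomial (Fin n) (FractionRing A)) =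
        MvPolynomial.map (algebraMap A (FractionRing A)) := by
      funext z
      rfl
    rw [this]
    exact MvPolynomial.map_injective _ (IsFractionRing.injective A (FractionRing A))
  apply hι
  rw [Fh_natural, Fh_natural]
  let φ : FractionRing A →ₐ[A] MvPolynomial (Fin n) (FractionRing A) :=
    IsScalarTower.toAlgHom A (FractionRing A) (MvPolynomial (Fin n) (FractionRing A))
  have h2 := h (MvPolynomial (Fin n) (FractionRing A)) φ (bc B ι p) (bc B ι q)
  rw [bc_tmul, map_one] at h2
  rw [← Fh_eq_iff] at h2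
  show Fh F _ (bc B ι (p + q * (1 : MvPolynomial (Fin n) A) ⊗ₜ[A] b)) = Fh F _ (bc B ι p)
  rw [map_add, map_mul, bc_tmul, map_one]
  exact h2

theorem mem_ker_of_smul_mem {a : A} (ha : a ≠ 0) {b : B} (h : a • b ∈ PolLaw.ker F) :
    b ∈ PolLaw.ker F := by
  apply mem_ker_of_inKer_fractionRing
  have h1 : InKer F (FractionRing A) ((1 : FractionRing A) ⊗ₜ[A] (a • b)) := inKer_one_tmul h
  have h2 := h1.mul_left (((algebraMap A (FractionRing A) a)⁻¹ : FractionRing A) ⊗ₜ[A] (1 : B))
  have h3 : (((algebraMap A (FractionRing A) a)⁻¹ : FractionRing A) ⊗ₜ[A] (1 : B)) *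
      ((1 : FractionRing A) ⊗ₜ[A] (a • b)) = (1 : FractionRing A) ⊗ₜ[A] b := by
    rw [Algebra.TensorProduct.tmul_mul_tmul, mul_one, one_mul, TensorProduct.tmul_smul,
      TensorProduct.smul_tmul', Algebra.smul_def, mul_inv_cancel₀]
    exact (map_ne_zero_iff _ (IsFractionRing.injective A (FractionRing A))).mpr ha
  rw [h3] at h2
  exact h2

end TF

section MinPrimes

variable {A : Type u} [CommRing A] [IsDomain A] {B : Type u} [CommRing B] [Algebra A B] {d : ℕ}
variable (F : PolLaw.MulLaw A B A d)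

lemma algebraMap_mem_nonZeroDivisors_image {a : A} (ha : a ≠ 0) :
    algebraMap A (PolLaw.image F.law) a ∈ nonZeroDivisors (PolLaw.image F.law) := by
  rw [mem_nonZeroDivisors_iff_right]
  intro r hr
  obtain ⟨b, rfl⟩ := Ideal.Quotient.mk_surjective r
  rw [Ideal.Quotient.eq_zero_iff_mem]
  apply mem_ker_of_smul_mem F.law ha
  rw [← Ideal.Quotient.eq_zero_iff_mem]
  rw [Algebra.smul_def, map_mul, mul_comm]
  exact hr

lemma comap_eq_bot_of_mem_minimalPrimes_image {P : Ideal (PolLaw.image F.law)}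
    (hP : P ∈ minimalPrimes (PolLaw.image F.law)) :
    P.comap (algebraMap A (PolLaw.image F.law)) = ⊥ := by
  rw [eq_bot_iff]
  intro a ha
  rw [Ideal.mem_comap] at ha
  rw [Ideal.mem_bot]
  by_contra hne
  have h1 := algebraMap_mem_nonZeroDivisors_image F hne
  exact Set.disjoint_left.mp (Ideal.disjoint_nonZeroDivisors_of_mem_minimalPrimes hP) ha h1

/-- `S13703`. -/
theorem comap_eq_bot_of_mem_minimalPrimes_ker {P : Ideal B}
    (hP : P ∈ (PolLaw.ker F.law).minimalPrimes) :
    P.comap (algebraMap A B) = ⊥ ∧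
      ∀ q : Ideal A, q.IsPrime → ∃ Q : Ideal B, Q.IsPrime ∧ P ≤ Q ∧
        Q.comap (algebraMap A B) = q := by
  rw [Ideal.minimalPrimes_eq_comap] at hP
  obtain ⟨P', hP', rfl⟩ := hP
  have h1 := comap_eq_bot_of_mem_minimalPrimes_image F hP'
  have hcomp : ∀ J : Ideal (PolLaw.image F.law),
      (J.comap (Ideal.Quotient.mk (PolLaw.ker F.law))).comap (algebraMap A B) =
        J.comap (algebraMap A (PolLaw.image F.law)) := by
    intro J
    rw [Ideal.comap_comap]
    rfl
  refine ⟨by rw [hcomp, h1], ?_⟩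
  intro q hq
  haveI := image_isIntegral F
  obtain ⟨Q', hQ'le, hQ'prime, hQ'q⟩ := Ideal.exists_ideal_over_prime_of_isIntegral q P'
    (by rw [h1]; exact bot_le)
  refine ⟨Q'.comap (Ideal.Quotient.mk (PolLaw.ker F.law)), Ideal.comap_isPrime _ _,
    Ideal.comap_mono hQ'le, ?_⟩
  rw [hcomp, hQ'q]

end MinPrimes

end Groth.Agent.Lib.Helper6.ZC
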