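import Mathlib
import Groth.Prelude.Def_PolLaw
import Groth.Agent.Lib.Helper6.ZC.RelCount

/-!
# Multiplicative laws with values in the base: roots of the characteristic polynomial (helper6)
-/

set_option autoImplicit false
set_option linter.unusedSectionVars false
set_option linter.unusedVariables false
set_option linter.unusedSimpArgs false
set_option linter.style.haveILetI false
set_option maxHeartbeats 400000
universe u
open scoped TensorProduct

namespace Groth.Agent.Lib.Helper6.ZC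

section Root

variable {A : Type u} [CommRing A] {B : Type u} [CommRing B] [Algebra A B] {d : ℕ}
  (F : PolLaw.MulLaw A B A d)

lemma eval₂_chi {S S' : Type u} [CommRing S] [Algebra A S] [CommRing S'] [Algebra A S']
    (φ : S →ₐ[A] S') (s' : S') (y : S ⊗[A] B) :
    Polynomial.eval₂ (φ : S →+* S') s' (chi S F.law y) =
      Fh F.law S' (bc B φ y - s' ⊗ₜ[A] (1 : B)) := by
  let ψ : Polynomial S →ₐ[A] S' := Polynomial.eval₂AlgHom φ s' (fun _ => Commute.all _ _)
  have h1 : ψ (chi S F.law y) = Polynomial.eval₂ (φ : S →+* S') s' (chi S F.law y) := rfl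
  rw [← h1, chi, Fh_natural]
  show Fh F.law S' (bc B ψ (yX S y)) = _
  have h2 : ψ.comp (Polynomial.CAlgHom (R := A) (A := S)) = φ := by
    apply AlgHom.ext
    intro t
    simp [ψ]
  have h3 : ψ Polynomial.X = s' := by simp [ψ]
  have h4 : bc B ψ (yX S y) = bc B φ y - s' ⊗ₜ[A] (1 : B) := by
    rw [yX, map_sub, toX]
    show bc B ψ (bc B (Polynomial.CAlgHom (R := A) (A := S)) y) - _ = _
    rw [bc_comp, h2, bc_tmul, h3]
  rw [h4]

lemma chi_eval_zero {S : Type u} [CommRing S] [Algebra A S] (y : S ⊗[A] B) :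
    (chi S F.law y).eval 0 = Fh F.law S y := by
  have h := eval₂_chi F (AlgHom.id A S) 0 y
  rw [bc_id, TensorProduct.zero_tmul, sub_zero] at h
  rw [← h]
  simp [Polynomial.eval₂_eq_eval_map]

lemma isUnit_Fh {S : Type u} [CommRing S] [Algebra A S] {y : S ⊗[A] B} (hy : IsUnit y) :
    IsUnit (Fh F.law S y) := by
  obtain ⟨u, rfl⟩ := hy
  refine IsUnit.of_mul_eq_one (Fh F.law S ↑u⁻¹) ?_
  rw [← Fh_mul, Units.mul_inv, Fh_one]

/-- A root of the characteristic polynomial of `z` is a root of every polynomial killing `z`. -/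
theorem root_of_root_chi {S Ω : Type u} [CommRing S] [Algebra A S] [Field Ω] [Algebra A Ω]
    (φ : S →ₐ[A] Ω) (z : S ⊗[A] B) (m : Polynomial S) (hm : Polynomial.aeval z m = 0)
    (θ : Ω) (hθ : Polynomial.eval₂ (φ : S →+* Ω) θ (chi S F.law z) = 0) :
    Polynomial.eval₂ (φ : S →+* Ω) θ m = 0 := by
  by_contra hc
  set c := Polynomial.eval₂ (φ : S →+* Ω) θ m with hcdef
  set z' := bc B φ z with hz'
  set m' := Polynomial.map (φ : S →+* Ω) m with hm'
  have h1 : Polynomial.aeval z' m' = 0 := by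
    have := map_aeval_tensor (A := A) (B := B) φ z m
    rw [hm, map_zero] at this
    exact this.symm
  have h2 : (m' - Polynomial.C c).IsRoot θ := by
    rw [Polynomial.IsRoot, Polynomial.eval_sub, Polynomial.eval_C, hm', Polynomial.eval_map]
    exact sub_self _
  obtain ⟨h, hh⟩ := Polynomial.dvd_iff_isRoot.mpr h2
  have h3 : Polynomial.aeval z' (m' - Polynomial.C c) =
      Polynomial.aeval z' ((Polynomial.X - Polynomial.C θ) * h) := by rw [hh]
  rw [map_sub, h1, zero_sub, map_mul, map_sub, Polynomial.aeval_X, Polynomial.aeval_C,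
    Polynomial.aeval_C, Algebra.TensorProduct.algebraMap_apply,
    Algebra.TensorProduct.algebraMap_apply] at h3
  have hcu : IsUnit (-(c ⊗ₜ[A] (1 : B)) : Ω ⊗[A] B) := by
    refine IsUnit.neg ?_
    have : IsUnit c := IsUnit.mk0 c hc
    obtain ⟨u, hu⟩ := this
    refine ⟨⟨c ⊗ₜ[A] 1, (↑u⁻¹ : Ω) ⊗ₜ[A] 1, ?_, ?_⟩, rfl⟩
    · rw [Algebra.TensorProduct.tmul_mul_tmul, mul_one, ← hu, Units.mul_inv]
      rfl
    · rw [Algebra.TensorProduct.tmul_mul_tmul, mul_one, ← hu, Units.inv_mul]
      rfl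
  have h4 : IsUnit (z' - θ ⊗ₜ[A] (1 : B)) := by
    have h5 : IsUnit ((z' - θ ⊗ₜ[A] (1 : B)) * Polynomial.aeval z' h) := by
      have h6 : (z' - θ ⊗ₜ[A] (1 : B)) * Polynomial.aeval z' h = -(c ⊗ₜ[A] (1 : B)) := by
        simp only [Algebra.algebraMap_self, RingHom.id_apply] at h3
        exact h3.symm
      rw [h6]
      exact hcu
    exact isUnit_of_mul_isUnit_left h5
  have h7 := isUnit_Fh F h4
  rw [← eval₂_chi, hθ] at h7
  exact not_isUnit_zero h7

end Root

end Groth.Agent.Lib.Helper6.ZC
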