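import Mathlib
import Groth.Prelude.Def_PolLaw
import Groth.Agent.Lib.Helper6.ZC.FL1
import Groth.Agent.Lib.Helper6.ZC.DetNormal
import Groth.Agent.Lib.Helper6.PolyLawFam

/-!
# Uniqueness of multiplicative laws `K → k` for a finite field extension (helper6)
-/

set_option autoImplicit false
set_option linter.unusedSectionVars false
set_option linter.unusedVariables false
set_option linter.unusedSimpArgs false
set_option linter.style.haveILetI false
set_option maxHeartbeats 400000
universe u
open scoped TensorProduct
open Polynomial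

namespace Groth.Agent.Lib.Helper6.ZC

section PolyLemma

variable {L : Type*} [Field L]

/-- A monic polynomial all of whose roots are roots of a fixed irreducible monic polynomial is a
power of it. -/
lemma eq_pow_of_roots (m : L[X]) (hm : Irreducible m) (hm1 : m.Monic) :
    ∀ (n : ℕ) (p : L[X]), p.natDegree = n → p.Monic →
      (∀ θ : AlgebraicClosure L, aeval θ p = 0 → aeval θ m = 0) → ∃ r : ℕ, p = m ^ r := by
  intro n
  induction n using Nat.strong_induction_on with
  | _ n ih =>
    intro p hpn hp hroots
    by_cases h0 : p.natDegree = 0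
    · exact ⟨0, by rw [pow_zero]; exact Polynomial.eq_one_of_monic_natDegree_zero hp h0⟩
    · have hdeg : p.degree ≠ 0 := by
        intro h
        exact h0 (natDegree_eq_of_degree_eq_some h)
      obtain ⟨θ, hθ⟩ := IsAlgClosed.exists_aeval_eq_zero (AlgebraicClosure L) p hdeg
      have hmθ := hroots θ hθ
      have hmin : m = minpoly L θ := minpoly.eq_of_irreducible_of_monic hm hmθ hm1
      obtain ⟨q, hq⟩ : m ∣ p := hmin ▸ minpoly.dvd L θ hθ
      have hq1 : q.Monic := hm1.of_mul_monic_left (hq ▸ hp)
      have hmpos : 0 < m.natDegree := hm.natDegree_pos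
      have hdegq : q.natDegree < n := by
        have := hm1.natDegree_mul hq1
        rw [← hq, hpn] at this
        omega
      obtain ⟨r, hr⟩ := ih q.natDegree hdegq q rfl hq1 (fun θ' hθ' => by
        apply hroots θ'
        rw [hq, map_mul, hθ', mul_zero])
      exact ⟨r + 1, by rw [hq, hr, pow_succ, mul_comm]⟩

end PolyLemma

section Struct

variable {k K : Type u} [Field k] [Field K] [Algebra k K] {d : ℕ}

lemma chiMT_natDegree (F : PolLaw.MulLaw k K k d) (S : Type u) [CommRing S] [Nontrivial S]
    [Algebra k S] (z : S ⊗[k] K) : (chiMT F z).natDegree = d := by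
  apply Polynomial.natDegree_eq_of_le_of_coeff_ne_zero
  · rw [chiMT]
    exact (Polynomial.natDegree_C_mul_le _ _).trans (chi_natDegree_le S F z)
  · rw [chiMT, Polynomial.coeff_C_mul, chi_coeff_d, ← mul_pow]
    simp

/-- The characteristic polynomial of `z` is a power of its minimal polynomial. -/
theorem chiMT_eq_minpoly_pow (F : PolLaw.MulLaw k K k d) (S : Type u) [CommRing S] [IsDomain S]
    [IsIntegrallyClosed S] [Algebra k S] [IsDomain (S ⊗[k] K)]
    [Algebra.IsIntegral S (S ⊗[k] K)] (z : S ⊗[k] K) :
    ∃ r : ℕ, chiMT F z = (minpoly S z) ^ r := by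
  have hz : IsIntegral S z := Algebra.IsIntegral.isIntegral z
  set m := minpoly S z with hmdef
  have hm1 : m.Monic := minpoly.monic hz
  have hmirr : Irreducible m := minpoly.irreducible hz
  let L := FractionRing S
  let Ω := AlgebraicClosure L
  have hmL : Irreducible (m.map (algebraMap S L)) :=
    (hm1.irreducible_iff_irreducible_map_fraction_map).1 hmirr
  let φ : S →ₐ[k] Ω := IsScalarTower.toAlgHom k S Ω
  have hφ : (φ : S →+* Ω) = algebraMap S Ω := rfl
  have key : ∀ θ : Ω, aeval θ ((chiMT F z).map (algebraMap S L)) = 0 →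
      aeval θ (m.map (algebraMap S L)) = 0 := by
    intro θ hθ
    rw [Polynomial.aeval_map_algebraMap, Polynomial.aeval_def] at hθ ⊢
    rw [← hφ] at hθ ⊢
    apply root_of_root_chi F φ z m (minpoly.aeval S z) θ
    rw [chiMT, Polynomial.eval₂_mul, Polynomial.eval₂_C] at hθ
    rcases mul_eq_zero.mp hθ with h | h
    · exfalso
      rw [map_pow, map_neg, map_one] at h
      exact (pow_ne_zero d (neg_ne_zero.mpr one_ne_zero)) h
    · exact h
  obtain ⟨r, hr⟩ := eq_pow_of_roots (m.map (algebraMap S L)) hmL (hm1.map _)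
    _ ((chiMT F z).map (algebraMap S L)) rfl ((chiMT_monic F z).map _) key
  refine ⟨r, ?_⟩
  apply Polynomial.map_injective _ (IsFractionRing.injective S L)
  rw [hr, Polynomial.map_pow]

theorem Fh_eq_of_domain (F F' : PolLaw.MulLaw k K k d) (S : Type u) [CommRing S] [IsDomain S]
    [IsIntegrallyClosed S] [Algebra k S] [IsDomain (S ⊗[k] K)]
    [Algebra.IsIntegral S (S ⊗[k] K)] (z : S ⊗[k] K) :
    Fh F.law S z = Fh F'.law S z := by
  obtain ⟨r, hr⟩ := chiMT_eq_minpoly_pow F S z
  obtain ⟨r', hr'⟩ := chiMT_eq_minpoly_pow F' S z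
  have hz : IsIntegral S z := Algebra.IsIntegral.isIntegral z
  have hm1 : (minpoly S z).Monic := minpoly.monic hz
  have hpos : 0 < (minpoly S z).natDegree := minpoly.natDegree_pos hz
  have h1 := chiMT_natDegree F S z
  have h2 := chiMT_natDegree F' S z
  rw [hr, hm1.natDegree_pow] at h1
  rw [hr', hm1.natDegree_pow] at h2
  have hrr : r = r' := by
    have : r * (minpoly S z).natDegree = r' * (minpoly S z).natDegree := by rw [h1, h2]
    exact Nat.eq_of_mul_eq_mul_right hpos this
  have h3 : chiMT F z = chiMT F' z := by rw [hr, hr', hrr]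
  have h4 : chi S F.law z = chi S F'.law z := by
    have hu : IsUnit (Polynomial.C ((-1 : S) ^ d)) :=
      Polynomial.isUnit_C.mpr ((isUnit_one.neg).pow d)
    exact hu.mul_left_cancel h3
  rw [← chi_eval_zero, ← chi_eval_zero, h4]

end Struct

section Poly

variable (k K : Type u) [Field k] [Field K] [Algebra k K]

/-- `k[t] ⊗ K ≃ K[t]`. -/
noncomputable def polyTensorEquiv (n : ℕ) :
    MvPolynomial (Fin n) k ⊗[k] K ≃+* MvPolynomial (Fin n) K :=
  ((Algebra.TensorProduct.comm k (MvPolynomial (Fin n) k) K).toRingEquiv).trans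
    (MvPolynomial.algebraTensorAlgEquiv k K).toRingEquiv

instance isDomain_polyTensor (n : ℕ) : IsDomain (MvPolynomial (Fin n) k ⊗[k] K) :=
  (polyTensorEquiv k K n).injective.isDomain (polyTensorEquiv k K n).toRingHom

instance isIntegral_polyTensor [FiniteDimensional k K] (n : ℕ) :
    Algebra.IsIntegral (MvPolynomial (Fin n) k) (MvPolynomial (Fin n) k ⊗[k] K) :=
  Algebra.IsIntegral.of_finite _ _

end Poly

section Unique

variable {k K : Type u} [Field k] [Field K] [Algebra k K] [FiniteDimensional k K] {d : ℕ}

/-- Two multiplicative laws `K → k` of the same degree are equal. -/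
theorem mulLaw_field_unique (F F' : PolLaw.MulLaw k K k d) : F = F' := by
  apply PolLaw.MulLaw.ext
  apply PolyLawFam.law_ext
  intro n
  funext z
  haveI := isIntegrallyClosed_mvPolynomial_fin k n
  have h := Fh_eq_of_domain F F' (MvPolynomial (Fin n) k) z
  exact (Algebra.TensorProduct.rid k k (MvPolynomial (Fin n) k)).injective h

end Unique

end Groth.Agent.Lib.Helper6.ZC
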