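import Mathlib

/-!
# The exponent of a finite field extension (helper6)

For a finite extension `K/k` with separable closure `E` of `k` in `K`: the least `e ≥ 1` with
`x ^ e ∈ E` for all `x` is `p ^ j`, `j` the exponent of the purely inseparable extension `K/E`,
and it is the degree over `E` of some element.
-/

set_option autoImplicit false
set_option linter.unusedSectionVars false
set_option linter.unusedVariables false
set_option linter.unusedSimpArgs false
set_option linter.style.haveILetI false
set_option maxHeartbeats 400000
universe u
open Polynomial

namespace Groth.Agent.Lib.Helper6.ZC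

section Exponent

variable (k K : Type u) [Field k] [Field K] [Algebra k K] [FiniteDimensional k K]

instance isPurelyInseparable_sepClosure : IsPurelyInseparable (separableClosure k K) K :=
  separableClosure.isPurelyInseparable k K

lemma mem_range_sepClosure_iff (x : K) :
    x ∈ (algebraMap (separableClosure k K) K).range ↔ x ∈ separableClosure k K :=
  ⟨fun ⟨y, hy⟩ => hy ▸ y.2, fun h => ⟨⟨x, h⟩, rfl⟩⟩

lemma expChar_sepClosure (p : ℕ) [ExpChar k p] : ExpChar (separableClosure k K) p :=
  expChar_of_injective_algebraMap (algebraMap k (separableClosure k K)).injective p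

include k in
lemma expChar_top (p : ℕ) [ExpChar k p] : ExpChar K p :=
  expChar_of_injective_algebraMap (algebraMap k K).injective p

/-- There is an element whose exponent is the exponent of the extension. -/
lemma exists_elemExponent_eq (p : ℕ) [ExpChar k p] :
    ∃ a : K, IsPurelyInseparable.elemExponent (separableClosure k K) a =
      IsPurelyInseparable.exponent (separableClosure k K) K := by
  haveI := expChar_sepClosure k K p
  rcases Nat.eq_zero_or_pos (IsPurelyInseparable.exponent (separableClosure k K) K) with h0 | hpos
  · refine ⟨0, ?_⟩
    have := IsPurelyInseparable.elemExponent_le_exponent (separableClosure k K) (0 : K)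
    omega
  · obtain ⟨j', hj'⟩ : ∃ j', IsPurelyInseparable.exponent (separableClosure k K) K = j' + 1 :=
      ⟨_, (Nat.succ_pred_eq_of_pos hpos).symm⟩
    obtain ⟨a, ha⟩ := IsPurelyInseparable.exponent_min' (K := separableClosure k K) (L := K) p
      (show j' < IsPurelyInseparable.exponent (separableClosure k K) K by omega)
    refine ⟨a, le_antisymm (IsPurelyInseparable.elemExponent_le_exponent _ a) ?_⟩
    by_contra hlt
    push Not at hlt
    apply ha
    have hle : IsPurelyInseparable.elemExponent (separableClosure k K) a ≤ j' := by omega
    have h1 := IsPurelyInseparable.elemExponent_def' (separableClosure k K) p a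
    have h2 : a ^ p ^ j' = (a ^ p ^ IsPurelyInseparable.elemExponent (separableClosure k K) a) ^
        p ^ (j' - IsPurelyInseparable.elemExponent (separableClosure k K) a) := by
      rw [← pow_mul, ← pow_add, Nat.add_sub_cancel' hle]
    rw [h2]
    exact Subring.pow_mem _ h1 _

/-- The exponent in the sense of the least `e` with `x ^ e` separable is `p ^ j`. -/
theorem exp_eq_pow (p : ℕ) [ExpChar k p] (e : ℕ) (he : 0 < e) (hexp : ∀ x : K, x ^ e ∈ separableClosure k K)
    (hmin : ∀ n : ℕ, 0 < n → (∀ x : K, x ^ n ∈ separableClosure k K) → e ≤ n) :
    e = p ^ IsPurelyInseparable.exponent (separableClosure k K) K := by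
  haveI := expChar_sepClosure k K p
  apply le_antisymm
  · apply hmin _ (expChar_pow_pos k p _)
    intro x
    exact (mem_range_sepClosure_iff k K _).mp
      (IsPurelyInseparable.exponent_def' (separableClosure k K) p x)
  · obtain ⟨a, ha⟩ := exists_elemExponent_eq k K p
    rw [← ha, ← IsPurelyInseparable.minpoly_natDegree_eq' (separableClosure k K) p a]
    let f : (separableClosure k K)[X] := X ^ e - C (⟨a ^ e, hexp a⟩ : separableClosure k K)
    have hf₁ : aeval a f = 0 := by
      simp only [f, map_sub, aeval_C, aeval_X_pow, sub_eq_zero]
      rfl
    have hf₂ : f.Monic := monic_X_pow_sub_C _ (Nat.pos_iff_ne_zero.mp he)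
    have hf₃ : f.natDegree = e := by
      rw [natDegree_sub_C, natDegree_pow, natDegree_X, mul_one]
    rw [← hf₃]
    exact natDegree_le_natDegree (minpoly.min _ a hf₂ hf₁)

end Exponent

end Groth.Agent.Lib.Helper6.ZC
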