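import Mathlib
import Groth.Prelude.Def_PolLaw
import Groth.Prelude.Def_PolLaw2
import Groth.Agent.Lib.Helper6.ZC.FL2
import Groth.Agent.Lib.Helper6.ZC.FL3
import Groth.Agent.Lib.Helper6.ZC.DetNormal

/-!
# Existence of a multiplicative law `K → k` of degree `[K:k]_s · e` (helper6)
-/

set_option autoImplicit false
set_option linter.unusedSectionVars false
set_option linter.unusedVariables false
set_option linter.unusedSimpArgs false
set_option linter.style.haveILetI false
set_option maxHeartbeats 400000
universe u
open scoped TensorProduct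

namespace Groth.Agent.Lib.Helper6.ZC

section Comp

variable {A : Type u} [CommRing A] {B C D : Type u} [CommRing B] [Algebra A B] [CommRing C]
  [Algebra A C] [CommRing D] [Algebra A D] {d₁ d₂ : ℕ}

/-- Composition of multiplicative laws. -/
noncomputable def mulLawComp (G : PolLaw.MulLaw A C D d₂) (F : PolLaw.MulLaw A B C d₁) :
    PolLaw.MulLaw A B D (d₁ * d₂) where
  law := G.law.comp F.law
  homog := by
    intro S _ _ s x
    show G.law.toFun' S (F.law.toFun' S (s • x)) = s ^ (d₁ * d₂) • G.law.toFun' S (F.law.toFun' S x)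
    rw [F.homog S s x, G.homog S, ← pow_mul]
  mult := by
    intro S _ _
    refine ⟨?_, fun x y => ?_⟩
    · show G.law.toFun' S (F.law.toFun' S 1) = 1
      rw [(F.mult S).1, (G.mult S).1]
    · show G.law.toFun' S (F.law.toFun' S (x * y)) =
        G.law.toFun' S (F.law.toFun' S x) * G.law.toFun' S (F.law.toFun' S y)
      rw [(F.mult S).2, (G.mult S).2]

/-- Transport of the degree. -/
def mulLawCast {d d' : ℕ} (h : d = d') (F : PolLaw.MulLaw A B C d) : PolLaw.MulLaw A B C d' :=
  h ▸ F

end Comp

section Frob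

variable (k E K : Type u) [Field k] [Field E] [Field K] [Algebra k E] [Algebra E K] [Algebra k K]
  [IsScalarTower k E K] [IsPurelyInseparable.HasExponent E K]
  (p : ℕ) [ExpChar k p] [ExpChar E p]

/-- The inclusion `S ⊗ E → S ⊗ K`. -/
noncomputable def ιE (n : ℕ) :
    MvPolynomial (Fin n) k ⊗[k] E →ₐ[MvPolynomial (Fin n) k] MvPolynomial (Fin n) k ⊗[k] K :=
  Algebra.TensorProduct.map (AlgHom.id _ _) (IsScalarTower.toAlgHom k E K)

lemma ιE_injective (n : ℕ) : Function.Injective (ιE k E K n) := by
  have h := Module.Flat.lTensor_preserves_injective_linearMap (M := MvPolynomial (Fin n) k)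
    (IsScalarTower.toAlgHom k E K).toLinearMap (algebraMap E K).injective
  intro x y hxy
  apply h
  rw [PolLaw.lTensor_algHom_apply, PolLaw.lTensor_algHom_apply]
  exact hxy

lemma ιE_natural (n m : ℕ) (φ : MvPolynomial (Fin n) k →ₐ[k] MvPolynomial (Fin m) k)
    (y : MvPolynomial (Fin n) k ⊗[k] E) :
    ιE k E K m (φ.toLinearMap.rTensor _ y) = φ.toLinearMap.rTensor K (ιE k E K n y) := by
  induction y using TensorProduct.induction_on with
  | zero => simp
  | tmul s a => simp [ιE]
  | add a b ha hb => simp only [map_add, ha, hb]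

lemma exists_ιE_eq_pow (n : ℕ) (x : MvPolynomial (Fin n) k ⊗[k] K) :
    ∃ y, ιE k E K n y = x ^ p ^ IsPurelyInseparable.exponent E K := by
  haveI : Nontrivial (MvPolynomial (Fin n) k ⊗[k] K) :=
    (isDomain_polyTensor k K n).toNontrivial
  haveI : ExpChar (MvPolynomial (Fin n) k ⊗[k] K) p :=
    expChar_of_injective_algebraMap (algebraMap k _).injective p
  induction x using TensorProduct.induction_on with
  | zero =>
    exact ⟨0, by rw [map_zero, zero_pow (expChar_pow_pos k p _).ne']⟩
  | tmul s a =>
    refine ⟨(s ^ p ^ IsPurelyInseparable.exponent E K) ⊗ₜ[k]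
      (IsPurelyInseparable.iterateFrobenius E K p (le_refl _) a), ?_⟩
    rw [ιE, Algebra.TensorProduct.map_tmul, Algebra.TensorProduct.tmul_pow]
    congr 1
    exact IsPurelyInseparable.algebraMap_iterateFrobenius E p (le_refl _) a
  | add a b ha hb =>
    obtain ⟨ya, hya⟩ := ha
    obtain ⟨yb, hyb⟩ := hb
    exact ⟨ya + yb, by rw [map_add, hya, hyb, add_pow_expChar_pow]⟩

/-- The family `x ↦ x ^ e`, with values in `S ⊗ E`. -/
noncomputable def frobT (n : ℕ) (x : MvPolynomial (Fin n) k ⊗[k] K) :
    MvPolynomial (Fin n) k ⊗[k] E :=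
  (exists_ιE_eq_pow k E K p n x).choose

lemma ιE_frobT (n : ℕ) (x : MvPolynomial (Fin n) k ⊗[k] K) :
    ιE k E K n (frobT k E K p n x) = x ^ p ^ IsPurelyInseparable.exponent E K :=
  (exists_ιE_eq_pow k E K p n x).choose_spec

/-- The Frobenius law `K → E`. -/
noncomputable def frobLaw : PolLaw.MulLaw k K E (p ^ IsPurelyInseparable.exponent E K) :=
  famMulLaw (frobT k E K p)
    (by
      intro n m φ
      funext x
      apply ιE_injective k E K m
      simp only [Function.comp_apply]
      rw [ιE_natural, ιE_frobT, ιE_frobT, rTensor_eq_map, map_pow, rTensor_eq_map])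
    (by
      intro n
      apply ιE_injective k E K n
      rw [ιE_frobT, one_pow, map_one])
    (by
      intro n x y
      apply ιE_injective k E K n
      rw [map_mul, ιE_frobT, ιE_frobT, ιE_frobT, mul_pow])
    (by
      intro n s x
      apply ιE_injective k E K n
      rw [map_smul, ιE_frobT, ιE_frobT, smul_pow])

end Frob

section Exists

variable {k K : Type u} [Field k] [Field K] [Algebra k K] [FiniteDimensional k K]

theorem finrank_sepClosure : Module.finrank k (separableClosure k K) = Field.finSepDegree k K := by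
  rw [Field.finSepDegree_eq k K]
  rfl

/-- A multiplicative law `K → k` exists in every degree divisible by `[K:k]_s · e`. -/
theorem exists_mulLaw_field (d e : ℕ) (he : 0 < e)
    (hexp : ∀ x : K, x ^ e ∈ separableClosure k K)
    (hmin : ∀ n : ℕ, 0 < n → (∀ x : K, x ^ n ∈ separableClosure k K) → e ≤ n)
    (hdvd : Field.finSepDegree k K * e ∣ d) : Nonempty (PolLaw.MulLaw k K k d) := by
  obtain ⟨p, hp⟩ := ExpChar.exists k
  have hep := exp_eq_pow k K p e he hexp hmin
  obtain ⟨m, hm⟩ := hdvd
  let N := PolLaw.normLaw k (separableClosure k K) (Field.finSepDegree k K) finrank_sepClosure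
  haveI := expChar_sepClosure k K p
  let H := mulLawComp (PolLaw.MulLaw.pow k k m)
    (mulLawComp N (frobLaw k (separableClosure k K) K p))
  refine ⟨mulLawCast ?_ H⟩
  rw [hm, ← hep]
  ring

end Exists

end Groth.Agent.Lib.Helper6.ZC
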