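import Mathlib
import Groth.Prelude.Def_PolLaw
import Groth.Agent.Lib.Helper6.ZC.FL2
import Groth.Agent.Lib.Helper6.ZC.FL3

/-!
# Necessity: the degree of a multiplicative law `K → k` is divisible by `[K:k]_s · e` (helper6)
-/

set_option autoImplicit false
set_option linter.unusedSectionVars false
set_option linter.unusedVariables false
set_option linter.unusedSimpArgs false
set_option linter.style.haveILetI false
set_option maxHeartbeats 400000
universe u
open scoped TensorProduct
open Polynomial IntermediateField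

namespace Groth.Agent.Lib.Helper6.ZC

section DegDvd

variable {k K : Type u} [Field k] [Field K] [Algebra k K] [FiniteDimensional k K] {d : ℕ}

instance isDomain_self_tensor : IsDomain (k ⊗[k] K) :=
  (Algebra.TensorProduct.lid k K).injective.isDomain (Algebra.TensorProduct.lid k K).toRingHom

/-- The degree of every element divides the degree of a multiplicative law. -/
theorem natDegree_minpoly_dvd (F : PolLaw.MulLaw k K k d) (a : K) :
    (minpoly k a).natDegree ∣ d := by
  haveI : Algebra.IsIntegral k (k ⊗[k] K) := Algebra.IsIntegral.of_finite _ _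
  obtain ⟨r, hr⟩ := chiMT_eq_minpoly_pow F k ((1 : k) ⊗ₜ[k] a)
  have h1 := chiMT_natDegree F k ((1 : k) ⊗ₜ[k] a)
  have hz : IsIntegral k ((1 : k) ⊗ₜ[k] a : k ⊗[k] K) := Algebra.IsIntegral.isIntegral _
  rw [hr, (minpoly.monic hz).natDegree_pow] at h1
  have h2 : minpoly k ((1 : k) ⊗ₜ[k] a : k ⊗[k] K) = minpoly k a := by
    have := minpoly.algEquiv_eq (Algebra.TensorProduct.lid k K) ((1 : k) ⊗ₜ[k] a : k ⊗[k] K)
    rw [Algebra.TensorProduct.lid_tmul, one_smul] at this
    exact this.symm
  rw [h2] at h1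
  exact ⟨r, by rw [← h1, mul_comm]⟩

end DegDvd

section FT

variable (k K : Type u) [Field k] [Field K] [Algebra k K] [FiniteDimensional k K]

/-- Pigeonhole: for infinite `k`, some `β₀ + (c θ)^e` is again a primitive element. -/
lemma exists_primitive_add {E : Type u} [Field E] [Algebra k E] [FiniteDimensional k E]
    [Algebra.IsSeparable k E] [Infinite k] (p : ℕ) [ExpChar k p] (j : ℕ) (β₀ θ : E)
    (hθ : k⟮θ⟯ = ⊤) : ∃ c : k, k⟮β₀ + (c • θ) ^ p ^ j⟯ = ⊤ := by
  haveI : ExpChar E p := expChar_of_injective_algebraMap (algebraMap k E).injective p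
  haveI : Finite (IntermediateField k E) :=
    Field.finite_intermediateField_of_exists_primitive_element k E ⟨θ, hθ⟩
  have hγ : k⟮θ ^ p ^ j⟯ = ⊤ := by
    rw [← adjoin_simple_eq_adjoin_pow_expChar_pow_of_isSeparable' k E θ p j, hθ]
  obtain ⟨c, c', hne, heq⟩ := Finite.exists_ne_map_eq_of_infinite
    (fun c : k => k⟮β₀ + (c • θ) ^ p ^ j⟯)
  refine ⟨c, ?_⟩
  have heq' : k⟮β₀ + (c • θ) ^ p ^ j⟯ = k⟮β₀ + (c' • θ) ^ p ^ j⟯ := heq
  rw [eq_top_iff, ← hγ, adjoin_simple_le_iff]
  have h1 : β₀ + (c • θ) ^ p ^ j ∈ k⟮β₀ + (c • θ) ^ p ^ j⟯ := mem_adjoin_simple_self k _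
  have h2 : β₀ + (c' • θ) ^ p ^ j ∈ k⟮β₀ + (c • θ) ^ p ^ j⟯ := by
    rw [heq']; exact mem_adjoin_simple_self k _
  have h3 := sub_mem h1 h2
  have h4 : β₀ + (c • θ) ^ p ^ j - (β₀ + (c' • θ) ^ p ^ j) =
      (c ^ p ^ j - c' ^ p ^ j) • θ ^ p ^ j := by
    rw [_root_.smul_pow, _root_.smul_pow, sub_smul]; ring
  rw [h4] at h3
  have h5 : c ^ p ^ j - c' ^ p ^ j ≠ 0 := by
    rw [← sub_pow_expChar_pow]
    exact pow_ne_zero _ (sub_ne_zero.mpr hne)
  have h6 := (k⟮β₀ + (c • θ) ^ p ^ j⟯).smul_mem (x := (c ^ p ^ j - c' ^ p ^ j)⁻¹) h3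
  rwa [smul_smul, inv_mul_cancel₀ h5, one_smul] at h6

theorem finrank_sepClosure' : Module.finrank k (separableClosure k K) = Field.finSepDegree k K := by
  rw [Field.finSepDegree_eq k K]
  rfl

/-- Some element of `K` has degree `[K:k]_s · e` over `k`. -/
theorem exists_natDegree_minpoly_eq (e : ℕ) (he : 0 < e)
    (hexp : ∀ x : K, x ^ e ∈ separableClosure k K)
    (hmin : ∀ n : ℕ, 0 < n → (∀ x : K, x ^ n ∈ separableClosure k K) → e ≤ n) :
    ∃ a : K, (minpoly k a).natDegree = Field.finSepDegree k K * e := by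
  obtain ⟨p, hp⟩ := ExpChar.exists k
  haveI := expChar_sepClosure k K p
  haveI := expChar_top k K p
  have hep := exp_eq_pow k K p e he hexp hmin
  obtain ⟨a₀, ha₀⟩ := exists_elemExponent_eq k K p
  obtain ⟨θ, hθ⟩ := Field.exists_primitive_element k (separableClosure k K)
  obtain ⟨β₀, hβ₀⟩ : ∃ β₀ : separableClosure k K, (β₀ : K) = a₀ ^ e := ⟨⟨a₀ ^ e, hexp a₀⟩, rfl⟩
  -- a good translate
  have hb : ∃ b : separableClosure k K, k⟮β₀ + b ^ e⟯ = ⊤ := by
    by_cases h1 : e = 1
    · exact ⟨θ - β₀, by rw [h1, pow_one, add_sub_cancel, hθ]⟩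
    · haveI : Infinite k := by
        by_contra hfin
        rw [not_infinite_iff_finite] at hfin
        haveI : Algebra.IsSeparable k K := Algebra.IsAlgebraic.isSeparable_of_perfectField
        have : e ≤ 1 := hmin 1 one_pos (fun x => by
          rw [pow_one]
          exact mem_separableClosure_iff.mpr (Algebra.IsSeparable.isSeparable k x))
        omega
      obtain ⟨c, hc⟩ := exists_primitive_add k p
        (IsPurelyInseparable.exponent (separableClosure k K) K) β₀ θ hθ
      exact ⟨c • θ, by rw [hep]; exact hc⟩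
  obtain ⟨b, hb⟩ := hb
  refine ⟨a₀ + (b : K), ?_⟩
  -- the separable closure is contained in `k(a')`
  have hpow : (a₀ + (b : K)) ^ e = ((β₀ + b ^ e : separableClosure k K) : K) := by
    rw [hep, add_pow_expChar_pow, ← hep]
    push_cast
    rw [hβ₀]
  have hEle : separableClosure k K ≤ k⟮a₀ + (b : K)⟯ := by
    have h1 : (k⟮β₀ + b ^ e⟯ : IntermediateField k (separableClosure k K)).map
        (separableClosure k K).val = k⟮((β₀ + b ^ e : separableClosure k K) : K)⟯ := by
      rw [adjoin_map, Set.image_singleton]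
      rfl
    rw [hb, ← AlgHom.fieldRange_eq_map, fieldRange_val] at h1
    refine h1.le.trans ?_
    rw [adjoin_simple_le_iff, ← hpow]
    exact pow_mem (mem_adjoin_simple_self k _) _
  -- the degree over the separable closure
  have hdegE : (minpoly (separableClosure k K) (a₀ + (b : K))).natDegree = e := by
    have h1 := minpoly.add_algebraMap (A := separableClosure k K) a₀ b
    have h2 : (a₀ + algebraMap (separableClosure k K) K b) = a₀ + (b : K) := rfl
    rw [h2] at h1
    rw [h1, natDegree_comp, natDegree_X_sub_C, mul_one,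
      IsPurelyInseparable.minpoly_natDegree_eq' (separableClosure k K) p a₀, ha₀, ← hep]
  -- the tower
  have hsup : ((separableClosure k K)⟮a₀ + (b : K)⟯).restrictScalars k = k⟮a₀ + (b : K)⟯ := by
    rw [restrictScalars_adjoin_eq_sup, sup_eq_right.mpr hEle]
  have hint : IsIntegral k (a₀ + (b : K)) := Algebra.IsIntegral.isIntegral _
  have hintE : IsIntegral (separableClosure k K) (a₀ + (b : K)) := Algebra.IsIntegral.isIntegral _
  have h3 : Module.finrank k ↥(k⟮a₀ + (b : K)⟯) =
      Module.finrank k ↥((separableClosure k K)⟮a₀ + (b : K)⟯) := by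
    rw [← hsup]
    rfl
  rw [← adjoin.finrank hint, h3,
    ← Module.finrank_mul_finrank k (separableClosure k K) ↥((separableClosure k K)⟮a₀ + (b : K)⟯),
    adjoin.finrank hintE, hdegE, finrank_sepClosure']

end FT

section Final

variable {k K : Type u} [Field k] [Field K] [Algebra k K] [FiniteDimensional k K] {d : ℕ}

/-- The degree of a multiplicative law `K → k` is divisible by `[K:k]_s · e`. -/
theorem dvd_of_mulLaw (F : PolLaw.MulLaw k K k d) (e : ℕ) (he : 0 < e)
    (hexp : ∀ x : K, x ^ e ∈ separableClosure k K)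
    (hmin : ∀ n : ℕ, 0 < n → (∀ x : K, x ^ n ∈ separableClosure k K) → e ≤ n) :
    Field.finSepDegree k K * e ∣ d := by
  obtain ⟨a, ha⟩ := exists_natDegree_minpoly_eq k K e he hexp hmin
  rw [← ha]
  exact natDegree_minpoly_dvd F a

end Final

end Groth.Agent.Lib.Helper6.ZC
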