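import Mathlib
import Groth.Prelude.Def_PolLaw
import Groth.Agent.Lib.Helper6.ZC.FL2
import Groth.Agent.Lib.Helper6.ZC.FL4
import Groth.Agent.Lib.Helper6.ZC.FL5
import Groth.Agent.Lib.Helper6.ZC.Ker

/-!
# Multiplicative laws on a finite field extension: the classification (helper6)
-/

set_option autoImplicit false
set_option linter.unusedSectionVars false
set_option linter.unusedVariables false
set_option linter.unusedSimpArgs false
set_option linter.style.haveILetI false
set_option maxHeartbeats 400000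
universe u
open scoped TensorProduct

namespace Groth.Agent.Lib.Helper6.ZC

section Classify

variable {k : Type u} [Field k] {K : Type u} [Field K] [Algebra k K] [FiniteDimensional k K]

/-- The hypotheses over ring test algebras give a multiplicative law. -/
noncomputable def mulLawOfRing (d : ℕ) (F : K →ₚₗ[k] k)
    (h1 : ∀ (S : Type u) [CommRing S] [Algebra k S], F.toFun' S 1 = 1 ∧
        ∀ x y : S ⊗[k] K, F.toFun' S (x * y) = F.toFun' S x * F.toFun' S y)
    (h2 : ∀ (S : Type u) [CommRing S] [Algebra k S] (a : S) (z : S ⊗[k] K),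
      F.toFun' S (a • z) = a ^ d • F.toFun' S z) : PolLaw.MulLaw k K k d where
  law := F
  homog := by
    intro S _ instA s x
    exact @h2 S (commRingOfAlgebra k S) instA s x
  mult := by
    intro S _ instA
    exact @h1 S (commRingOfAlgebra k S) instA

theorem classify_mulLaw_field (d e : ℕ) (he : 0 < e)
    (hexp : ∀ x : K, x ^ e ∈ separableClosure k K)
    (hmin : ∀ n : ℕ, 0 < n → (∀ x : K, x ^ n ∈ separableClosure k K) → e ≤ n) :
    (∀ F F' : K →ₚₗ[k] k,
      ((∀ (S : Type u) [CommRing S] [Algebra k S], F.toFun' S 1 = 1 ∧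
        ∀ x y : S ⊗[k] K, F.toFun' S (x * y) = F.toFun' S x * F.toFun' S y) ∧
      ∀ (S : Type u) [CommRing S] [Algebra k S] (a : S) (z : S ⊗[k] K),
        F.toFun' S (a • z) = a ^ d • F.toFun' S z) →
      ((∀ (S : Type u) [CommRing S] [Algebra k S], F'.toFun' S 1 = 1 ∧
        ∀ x y : S ⊗[k] K, F'.toFun' S (x * y) = F'.toFun' S x * F'.toFun' S y) ∧
      ∀ (S : Type u) [CommRing S] [Algebra k S] (a : S) (z : S ⊗[k] K),
        F'.toFun' S (a • z) = a ^ d • F'.toFun' S z) → F = F') ∧
    ((∃ F : K →ₚₗ[k] k, ((∀ (S : Type u) [CommRing S] [Algebra k S], F.toFun' S 1 = 1 ∧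
        ∀ x y : S ⊗[k] K, F.toFun' S (x * y) = F.toFun' S x * F.toFun' S y) ∧
      ∀ (S : Type u) [CommRing S] [Algebra k S] (a : S) (z : S ⊗[k] K),
        F.toFun' S (a • z) = a ^ d • F.toFun' S z)) ↔ Field.finSepDegree k K * e ∣ d) := by
  refine ⟨?_, ?_, ?_⟩
  · intro F F' hF hF'
    have := mulLaw_field_unique (mulLawOfRing d F hF.1 hF.2) (mulLawOfRing d F' hF'.1 hF'.2)
    exact congrArg PolLaw.MulLaw.law this
  · rintro ⟨F, hF⟩
    exact dvd_of_mulLaw (mulLawOfRing d F hF.1 hF.2) e he hexp hmin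
  · intro hdvd
    obtain ⟨G⟩ := exists_mulLaw_field d e he hexp hmin hdvd
    exact ⟨G.law, fun S _ _ => G.mult S, fun S _ _ a z => G.homog S a z⟩

end Classify

end Groth.Agent.Lib.Helper6.ZC
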