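import Mathlib
import Groth.Prelude.Def_PolLaw
import Groth.Prelude.Def_SymTen
import Groth.Agent.Lib.Helper6.ZC.PwGen

/-!
# Finiteness of tensor powers and symmetric tensors (helper6)

`T^d(B)` is of finite type when `B` is, `T^d(B)` is integral over `TS^d(B)`, and over a Noetherian
base `TS^d(B)` is of finite type (Artin–Tate).
-/

set_option autoImplicit false
set_option linter.unusedSectionVars false
set_option linter.unusedVariables false
set_option linter.unusedSimpArgs false
set_option linter.style.haveILetI false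
set_option maxHeartbeats 400000
universe u
open scoped TensorProduct
open Polynomial

namespace Groth.Agent.Lib.Helper6.ZC

section FT

variable (A : Type u) [CommRing A] (B : Type u) [CommRing B] [Algebra A B] (d : ℕ)

theorem Tp_finiteType [Algebra.FiniteType A B] : Algebra.FiniteType A (Tp A B d) := by
  classical
  obtain ⟨s, hs⟩ := (Algebra.FiniteType.out : (⊤ : Subalgebra A B).FG)
  let G : Finset (Tp A B d) :=
    (Finset.univ ×ˢ s).image (fun kb : Fin d × B => ιk A B d kb.1 kb.2)
  refine ⟨⟨G, ?_⟩⟩
  rw [eq_top_iff]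
  have h1 : ∀ (k : Fin d) (b : B), ιk A B d k b ∈ Algebra.adjoin A (G : Set (Tp A B d)) := by
    intro k b
    have hb : b ∈ Algebra.adjoin A (s : Set B) := by rw [hs]; exact Algebra.mem_top
    have h2 : (Algebra.adjoin A (s : Set B)).map (ιk A B d k) ≤
        Algebra.adjoin A (G : Set (Tp A B d)) := by
      rw [AlgHom.map_adjoin]
      apply Algebra.adjoin_mono
      rintro _ ⟨x, hx, rfl⟩
      simp only [G, Finset.coe_image, Set.mem_image, Finset.mem_coe, Finset.mem_product,
        Finset.mem_univ, true_and]
      exact ⟨(k, x), hx, rfl⟩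
    exact h2 ⟨b, hb, rfl⟩
  intro z _
  induction z using PiTensorProduct.induction_on with
  | smul_tprod r f =>
    apply Subalgebra.smul_mem
    rw [← prod_ιk]
    exact Subalgebra.prod_mem _ (fun k _ => h1 k (f k))
  | add x y hx hy => exact Subalgebra.add_mem _ (hx Algebra.mem_top) (hy Algebra.mem_top)

/-- The characteristic polynomial of the orbit of `z`. -/
noncomputable def orbPoly (z : Tp A B d) : (Tp A B d)[X] :=
  ∏ σ : Equiv.Perm (Fin d), (X - C (SymTen.perm A B d σ z))

lemma orbPoly_monic (z : Tp A B d) : (orbPoly A B d z).Monic :=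
  monic_prod_of_monic _ _ (fun σ _ => monic_X_sub_C _)

lemma orbPoly_map (z : Tp A B d) (τ : Equiv.Perm (Fin d)) :
    (orbPoly A B d z).map (SymTen.perm A B d τ).toRingHom = orbPoly A B d z := by
  unfold orbPoly
  rw [Polynomial.map_prod]
  have : ∀ σ : Equiv.Perm (Fin d),
      (X - C (SymTen.perm A B d σ z)).map (SymTen.perm A B d τ).toRingHom =
        X - C (SymTen.perm A B d (τ * σ) z) := by
    intro σ
    rw [Polynomial.map_sub, Polynomial.map_X, Polynomial.map_C]
    congr 2
    exact perm_perm A B d σ τ z
  simp only [this]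
  exact Fintype.prod_equiv (Equiv.mulLeft τ) _ _ (fun σ => rfl)

lemma orbPoly_eval (z : Tp A B d) : (orbPoly A B d z).eval z = 0 := by
  unfold orbPoly
  rw [Polynomial.eval_prod]
  apply Finset.prod_eq_zero (Finset.mem_univ (1 : Equiv.Perm (Fin d)))
  rw [Polynomial.eval_sub, Polynomial.eval_X, Polynomial.eval_C]
  have : SymTen.perm A B d 1 z = z := by
    induction z using PiTensorProduct.induction_on with
    | smul_tprod r f =>
      rw [map_smul, SymTen.perm_tprod]
      rfl
    | add x y hx hy => simp only [map_add, hx, hy]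
  rw [this, sub_self]

theorem Tp_isIntegral_TS (z : Tp A B d) : IsIntegral (SymTen.TS A B d) z := by
  have hl : orbPoly A B d z ∈ Polynomial.lifts (algebraMap (SymTen.TS A B d) (Tp A B d)) := by
    rw [Polynomial.lifts_iff_coeff_lifts]
    intro n
    refine ⟨⟨(orbPoly A B d z).coeff n, fun σ => ?_⟩, rfl⟩
    rw [← SymTen.perm_apply]
    have h := congrArg (fun p => p.coeff n) (orbPoly_map A B d z σ)
    simp only [Polynomial.coeff_map] at h
    exact h
  obtain ⟨q, hq, -, hqm⟩ := Polynomial.lifts_and_natDegree_eq_and_monic hl (orbPoly_monic A B d z)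
  refine ⟨q, hqm, ?_⟩
  rw [← Polynomial.eval_map, hq]
  exact orbPoly_eval A B d z

instance Tp_algebra_isIntegral : Algebra.IsIntegral (SymTen.TS A B d) (Tp A B d) :=
  ⟨Tp_isIntegral_TS A B d⟩

/-- Over a Noetherian base, symmetric tensors of a finite type algebra are of finite type. -/
theorem TS_finiteType [IsNoetherianRing A] [Algebra.FiniteType A B] :
    Algebra.FiniteType A (SymTen.TS A B d) := by
  haveI : Algebra.FiniteType A (Tp A B d) := Tp_finiteType A B d
  haveI : Algebra.FiniteType (SymTen.TS A B d) (Tp A B d) :=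
    Algebra.FiniteType.of_restrictScalars_finiteType A (SymTen.TS A B d) (Tp A B d)
  haveI : Module.Finite (SymTen.TS A B d) (Tp A B d) := Algebra.IsIntegral.finite
  refine ⟨fg_of_fg_of_fg A (SymTen.TS A B d) (Tp A B d) Algebra.FiniteType.out
    Module.Finite.fg_top ?_⟩
  exact Subtype.val_injective

end FT

end Groth.Agent.Lib.Helper6.ZC
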