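import Mathlib
import Groth.Prelude.Def_PolLaw
import Groth.Prelude.Def_SymTen
import Groth.Agent.Lib.Helper6.ZC.FTGen
import Groth.Agent.Lib.Helper6.ZC.BCTheta
import Groth.Agent.Lib.Helper6.ZC.Trace

/-!
# Finite type of `TS^d` of a polynomial ring over any base, and of `Γ^d` (helper6)
-/

set_option autoImplicit false
set_option linter.unusedSectionVars false
set_option linter.unusedVariables false
set_option linter.unusedSimpArgs false
set_option linter.style.haveILetI false
set_option maxHeartbeats 400000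
universe u
open scoped TensorProduct

namespace Groth.Agent.Lib.Helper6.ZC

section BC

variable (A₀ : Type u) [CommRing A₀] (A : Type u) [CommRing A] [Algebra A₀ A] (n d : ℕ)

/-- The monomial basis with index type lifted to the ambient universe. -/
noncomputable def eMon : Module.Basis (ULift.{u} (Fin n →₀ ℕ)) A (MvPolynomial (Fin n) A) :=
  (MvPolynomial.basisMonomials (Fin n) A).reindex Equiv.ulift.symm

lemma eMon_apply (i : ULift.{u} (Fin n →₀ ℕ)) : eMon A n i = MvPolynomial.monomial i.down 1 := by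
  simp [eMon]

/-- The comparison `TS^d_{A₀}(A₀[x]) → TS^d_A(A[x])`. -/
noncomputable def ΘP : SymTen.TS A₀ (MvPolynomial (Fin n) A₀) d →ₐ[A₀]
    SymTen.TS A (MvPolynomial (Fin n) A) d :=
  ((SymTen.TSmap A d (MvPolynomial.algebraTensorAlgEquiv A₀ A (σ := Fin n)).toAlgHom).restrictScalars
    A₀).comp (ΘKS A₀ A (MvPolynomial (Fin n) A₀) d)

lemma ΘP_coe (t : SymTen.TS A₀ (MvPolynomial (Fin n) A₀) d) :
    ((ΘP A₀ A n d t : SymTen.TS A (MvPolynomial (Fin n) A) d) : Tp A (MvPolynomial (Fin n) A) d) =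
      SymTen.tmap A d (MvPolynomial.algebraTensorAlgEquiv A₀ A (σ := Fin n)).toAlgHom
        (ΘK A₀ A (MvPolynomial (Fin n) A₀) d t.1) := rfl

lemma ΘP_osumTS [DecidableEq (ULift.{u} (Fin n →₀ ℕ))] (c : Fin d → ULift.{u} (Fin n →₀ ℕ)) :
    ΘP A₀ A n d (osumTS d (eMon A₀ n) c) = osumTS d (eMon A n) c := by
  apply Subtype.ext
  rw [ΘP_coe]
  show SymTen.tmap A d _ (ΘK A₀ A _ d (osum d (eMon A₀ n) c)) = osum d (eMon A n) c
  unfold osum
  rw [map_sum, map_sum]
  refine Finset.sum_congr rfl fun c' _ => ?_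
  rw [Eb_apply, Eb_apply, ΘK_tprod, SymTen.tmap_tprod]
  congr 1
  funext k
  rw [eMon_apply, eMon_apply]
  simp

theorem TS_mvPolynomial_finiteType_of (h₀ : Algebra.FiniteType A₀
    (SymTen.TS A₀ (MvPolynomial (Fin n) A₀) d)) :
    Algebra.FiniteType A (SymTen.TS A (MvPolynomial (Fin n) A) d) := by
  classical
  obtain ⟨g, hg⟩ := h₀.out
  refine ⟨⟨g.image (ΘP A₀ A n d), ?_⟩⟩
  set U := Algebra.adjoin A ((g.image (ΘP A₀ A n d) : Finset _) :
    Set (SymTen.TS A (MvPolynomial (Fin n) A) d)) with hU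
  have h1 : ∀ t ∈ Algebra.adjoin A₀ (g : Set (SymTen.TS A₀ (MvPolynomial (Fin n) A₀) d)),
      ΘP A₀ A n d t ∈ U := by
    intro t ht
    induction ht using Algebra.adjoin_induction with
    | mem x hx =>
      apply Algebra.subset_adjoin
      rw [Finset.coe_image]
      exact ⟨x, hx, rfl⟩
    | algebraMap r =>
      rw [AlgHom.commutes, IsScalarTower.algebraMap_apply A₀ A]
      exact Subalgebra.algebraMap_mem _ _
    | add x y _ _ hx hy => rw [map_add]; exact Subalgebra.add_mem _ hx hy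
    | mul x y _ _ hx hy => rw [map_mul]; exact Subalgebra.mul_mem _ hx hy
  rw [eq_top_iff]
  intro t _
  have ht : t ∈ Submodule.span A (Set.range (osumTS d (eMon A n))) := by
    rw [span_osumTS]; exact Submodule.mem_top
  refine Submodule.span_induction (p := fun t _ => t ∈ U) ?_ ?_ ?_ ?_ ht
  · rintro _ ⟨c, rfl⟩
    rw [← ΘP_osumTS A₀ A n d c]
    apply h1
    rw [hg]
    exact Algebra.mem_top
  · exact Subalgebra.zero_mem _
  · intro x y _ _ hx hy
    exact Subalgebra.add_mem _ hx hy
  · intro a x _ hx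
    exact Subalgebra.smul_mem _ hx a

end BC

section Final

variable (A : Type u) [CommRing A] (n d : ℕ)

theorem TS_mvPolynomial_finiteType :
    Algebra.FiniteType A (SymTen.TS A (MvPolynomial (Fin n) A) d) := by
  letI : Algebra (ULift.{u} ℤ) A := ULift.algebra' ℤ A
  haveI : IsNoetherianRing (ULift.{u} ℤ) :=
    isNoetherianRing_of_ringEquiv ℤ ULift.ringEquiv.symm
  exact TS_mvPolynomial_finiteType_of (ULift.{u} ℤ) A n d
    (TS_finiteType (ULift.{u} ℤ) (MvPolynomial (Fin n) (ULift.{u} ℤ)) d)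

variable {A} {B C : Type u} [CommRing B] [Algebra A B] [CommRing C] [Algebra A C] {d}

theorem gammaD_finiteType (γ : PolLaw.MulLaw A B C d) (hγ : PolLaw.IsGammaD γ)
    [Algebra.FiniteType A B] : Algebra.FiniteType A C := by
  classical
  obtain ⟨n, π, hπ⟩ := Algebra.FiniteType.iff_quotient_mvPolynomial''.mp
    (inferInstance : Algebra.FiniteType A B)
  haveI := TS_mvPolynomial_finiteType A n d
  exact Algebra.FiniteType.of_surjective (fC d γ (eMon A n) π)
    (fC_surjective (eMon A n) π hγ hπ)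

end Final

end Groth.Agent.Lib.Helper6.ZC
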