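import Mathlib
import Groth.Prelude.Def_PolLaw
import Groth.Agent.Lib.Helper6.ZC.BCRad

/-!
# Finite type: the support is defined by a finitely generated ideal (helper6)
-/

set_option autoImplicit false
set_option linter.unusedSectionVars false
set_option linter.unusedVariables false
set_option linter.unusedSimpArgs false
set_option linter.style.haveILetI false
set_option maxHeartbeats 400000
universe u
open scoped TensorProduct
open Polynomial

namespace Groth.Agent.Lib.Helper6.ZC

section CoeffKer

variable {A : Type u} [CommRing A] {B : Type u} [CommRing B] [Algebra A B]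
variable (F : B →ₚₗ[A] A) {σ : Type}

lemma coeffN_mem_ker {z : MvPolynomial σ A ⊗[A] B} (hz : z ∈ extKer F (MvPolynomial σ A))
    (ν : σ →₀ ℕ) : coeffN ν z ∈ PolLaw.ker F := by
  have h1 : z ∈ ((PolLaw.ker F).map (Algebra.TensorProduct.includeRight :
      B →ₐ[A] MvPolynomial σ A ⊗[A] B)).restrictScalars A := hz
  rw [Ideal.map_includeRight_eq] at h1
  obtain ⟨y, rfl⟩ := h1
  clear hz
  induction y using TensorProduct.induction_on with
  | zero => simp
  | tmul t κ =>
    rw [LinearMap.lTensor_tmul, coeffN_tmul]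
    exact Submodule.smul_of_tower_mem _ _ κ.2
  | add x y hx hy =>
    rw [map_add, map_add]
    exact Ideal.add_mem _ hx hy

end CoeffKer

section Generic

variable {A : Type u} [CommRing A] {B : Type u} [CommRing B] [Algebra A B] {d : ℕ}
variable (F : PolLaw.MulLaw A B A d)

/-- For finitely many elements `m j`, there is a finite subset of the kernel generating an ideal
which contains the Cayley–Hamilton elements of all `A`-linear combinations of the `m j`. -/
theorem exists_finset_ker_aeval_chiA {N : ℕ} (m : Fin N → B) :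
    ∃ G : Finset B, (∀ g ∈ G, g ∈ PolLaw.ker F.law) ∧ ∀ a : Fin N → A,
      Polynomial.aeval (∑ j, a j • m j) (chiA F (∑ j, a j • m j)) ∈ Ideal.span (G : Set B) := by
  classical
  let yt : MvPolynomial (Fin N) A ⊗[A] B :=
    ∑ i, (MvPolynomial.X i : MvPolynomial (Fin N) A) ⊗ₜ[A] m i
  let ct : MvPolynomial (Fin N) A ⊗[A] B :=
    Polynomial.aeval yt (chi (MvPolynomial (Fin N) A) F.law yt)
  have hct : ct ∈ extKer F.law (MvPolynomial (Fin N) A) := aeval_chi_mem_extKer F _ yt
  refine ⟨(coeffs ct).support.image fun ν => coeffs ct ν, ?_, ?_⟩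
  · intro g hg
    obtain ⟨ν, _, rfl⟩ := Finset.mem_image.mp hg
    rw [coeffs_apply]
    exact coeffN_mem_ker F.law hct ν
  · intro a
    set z₀ := ∑ j, a j • m j with hz₀
    have h1 := bc_aeval_chi F (MvPolynomial.aeval a : MvPolynomial (Fin N) A →ₐ[A] A) yt
    have h2 : bc B (MvPolynomial.aeval a : MvPolynomial (Fin N) A →ₐ[A] A) yt =
        (1 : A) ⊗ₜ[A] z₀ := by
      simp only [yt]
      rw [map_sum, hz₀, TensorProduct.tmul_sum]
      refine Finset.sum_congr rfl fun i _ => ?_
      rw [bc_tmul, MvPolynomial.aeval_X, TensorProduct.tmul_smul, TensorProduct.smul_tmul',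
        smul_eq_mul, mul_one]
    rw [h2, ← chiA_eq_chi] at h1
    have h3 := aeval_one_tmul A z₀ (chiA F z₀)
    rw [Algebra.algebraMap_self, Polynomial.map_id] at h3
    rw [h3] at h1
    -- expand `ct`
    have h4 : bc B (MvPolynomial.aeval a : MvPolynomial (Fin N) A →ₐ[A] A) ct =
        (1 : A) ⊗ₜ[A] ∑ ν ∈ (coeffs ct).support,
          (MvPolynomial.aeval a (MvPolynomial.monomial ν (1 : A)) : A) • coeffs ct ν := by
      conv_lhs => rw [eq_sum_coeffs ct]
      rw [map_sum, TensorProduct.tmul_sum]
      refine Finset.sum_congr rfl fun ν _ => ?_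
      rw [bc_tmul, TensorProduct.tmul_smul, TensorProduct.smul_tmul', smul_eq_mul, mul_one]
    have h5 : Polynomial.aeval z₀ (chiA F z₀) = ∑ ν ∈ (coeffs ct).support,
          (MvPolynomial.aeval a (MvPolynomial.monomial ν (1 : A)) : A) • coeffs ct ν := by
      have h6 := h4.symm.trans h1
      have h7 := congrArg (Algebra.TensorProduct.lid A B) h6
      rw [Algebra.TensorProduct.lid_tmul, Algebra.TensorProduct.lid_tmul, one_smul, one_smul] at h7
      exact h7.symm
    rw [h5]
    refine Ideal.sum_mem _ fun ν hν => ?_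
    refine Submodule.smul_of_tower_mem _ _ (Ideal.subset_span ?_)
    exact Finset.mem_coe.mpr (Finset.mem_image_of_mem _ hν)

end Generic

section FiniteType

variable {A : Type u} [CommRing A] {B : Type u} [CommRing B] [Algebra A B] {d : ℕ}
variable (F : PolLaw.MulLaw A B A d)

theorem exists_fg_le_ker_radical_eq [Algebra.FiniteType A B] :
    ∃ J : Ideal B, J.FG ∧ J ≤ PolLaw.ker F.law ∧ J.radical = (PolLaw.ker F.law).radical := by
  classical
  obtain ⟨s, hs⟩ := (Algebra.FiniteType.out : (⊤ : Subalgebra A B).FG)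
  -- the first ideal: make the generators integral
  let g : B → B := fun b => Polynomial.aeval b (chiM F b)
  let J₀ : Ideal B := Ideal.span ((s.image g : Finset B) : Set B)
  have hJ₀le : J₀ ≤ PolLaw.ker F.law := by
    rw [Ideal.span_le]
    intro x hx
    obtain ⟨b, _, rfl⟩ := Finset.mem_image.mp (Finset.mem_coe.mp hx)
    exact aeval_chiM_mem_ker F b
  have hint : Algebra.IsIntegral A (B ⧸ J₀) := by
    rw [← integralClosure_eq_top_iff, eq_top_iff]
    have h1 : (⊤ : Subalgebra A (B ⧸ J₀)) =
        Algebra.adjoin A ((Ideal.Quotient.mkₐ A J₀) '' (s : Set B)) := by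
      rw [Algebra.adjoin_image, hs, Algebra.map_top, (AlgHom.range_eq_top _).mpr
        (Ideal.Quotient.mkₐ_surjective A J₀)]
    rw [h1]
    apply Algebra.adjoin_le
    rintro _ ⟨b, hb, rfl⟩
    refine ⟨chiM F b, chiM_monic F b, ?_⟩
    rw [← Polynomial.aeval_def, Polynomial.aeval_algHom_apply]
    apply Ideal.Quotient.eq_zero_iff_mem.mpr
    exact Ideal.subset_span (Finset.mem_coe.mpr (Finset.mem_image_of_mem g hb))
  have hft : Algebra.FiniteType A (B ⧸ J₀) :=
    Algebra.FiniteType.of_surjective (Ideal.Quotient.mkₐ A J₀)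
      (Ideal.Quotient.mkₐ_surjective A J₀)
  have hfin : Module.Finite A (B ⧸ J₀) := Algebra.IsIntegral.finite
  obtain ⟨N, t, ht⟩ := Module.Finite.exists_fin (R := A) (M := B ⧸ J₀)
  choose m hm using fun j => Ideal.Quotient.mk_surjective (t j)
  obtain ⟨G, hGker, hG⟩ := exists_finset_ker_aeval_chiA F m
  refine ⟨J₀ ⊔ Ideal.span (G : Set B), ?_, ?_, ?_⟩
  · exact Submodule.FG.sup ⟨s.image g, rfl⟩ ⟨G, rfl⟩
  · refine sup_le hJ₀le ?_
    rw [Ideal.span_le]
    exact fun x hx => hGker x (Finset.mem_coe.mp hx)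
  · apply le_antisymm
    · exact Ideal.radical_mono (sup_le hJ₀le (by
        rw [Ideal.span_le]
        exact fun x hx => hGker x (Finset.mem_coe.mp hx)))
    · rw [Ideal.radical_le_radical_iff]
      intro z hz
      -- write `z` modulo `J₀` as a combination of the `m j`
      have h1 : Ideal.Quotient.mk J₀ z ∈ Submodule.span A (Set.range t) := by
        rw [ht]; exact Submodule.mem_top
      obtain ⟨a, ha⟩ := (Submodule.mem_span_range_iff_exists_fun A).mp h1
      set z₀ := ∑ j, a j • m j with hz₀
      have h2 : z - z₀ ∈ J₀ := by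
        rw [← Ideal.Quotient.eq, ← ha, hz₀, map_sum]
        refine Finset.sum_congr rfl fun j _ => ?_
        rw [← hm j]
        rfl
      have h3 : z₀ ∈ PolLaw.ker F.law := by
        have : z₀ = z - (z - z₀) := by ring
        rw [this]
        exact Ideal.sub_mem _ hz (hJ₀le h2)
      have h4 := hG a
      rw [← hz₀, chiA_of_mem_ker F z₀ h3, map_pow, map_neg, Polynomial.aeval_X] at h4
      have h5 : z₀ ∈ (J₀ ⊔ Ideal.span (G : Set B)).radical := by
        refine ⟨d, ?_⟩
        have h6 : z₀ ^ d = (-1) ^ d * (-z₀) ^ d := by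
          rw [← mul_pow]; simp
        rw [h6]
        exact Ideal.mul_mem_left _ _ (Ideal.mem_sup_right h4)
      have h7 : z = z₀ + (z - z₀) := by ring
      rw [h7]
      exact Ideal.add_mem _ h5 (Ideal.le_radical (Ideal.mem_sup_left h2))

end FiniteType

end Groth.Agent.Lib.Helper6.ZC
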