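import Mathlib
import Groth.Prelude.Def_PolLaw
import Groth.Prelude.Def_SymTen
import Groth.Agent.Lib.Helper6.ZC.GammaTS

/-!
# Flatness of `Γ^d(B)` for flat `B` (helper6)
-/

set_option autoImplicit false
set_option linter.unusedSectionVars false
set_option linter.unusedVariables false
set_option linter.unusedSimpArgs false
set_option linter.style.haveILetI false
set_option maxHeartbeats 400000
universe u
open scoped TensorProduct

namespace Groth.Agent.Lib.Helper6.ZC

section Uniq

variable {A B C C' : Type u} [CommRing A] [CommRing B] [Algebra A B] [CommRing C] [Algebra A C]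
  [CommRing C'] [Algebra A C'] {d : ℕ}

lemma postcomp_comp_algHom {C'' : Type u} [CommRing C''] [Algebra A C''] (F : B →ₚₗ[A] C)
    (f : C →ₐ[A] C') (g : C' →ₐ[A] C'') :
    PolLaw.postcomp (g.comp f).toLinearMap F =
      PolLaw.postcomp g.toLinearMap (PolLaw.postcomp f.toLinearMap F) := by
  ext S _ _ x
  show (g.comp f).toLinearMap.lTensor S (F.toFun' S x) =
    g.toLinearMap.lTensor S (f.toLinearMap.lTensor S (F.toFun' S x))
  rw [AlgHom.comp_toLinearMap, LinearMap.lTensor_comp, LinearMap.comp_apply]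

lemma postcomp_id_algHom (F : B →ₚₗ[A] C) :
    PolLaw.postcomp (AlgHom.id A C).toLinearMap F = F := by
  ext S _ _ x
  show (AlgHom.id A C).toLinearMap.lTensor S (F.toFun' S x) = F.toFun' S x
  rw [AlgHom.toLinearMap_id, LinearMap.lTensor_id, LinearMap.id_apply]

/-- Two divided power algebras of the same algebra are isomorphic. -/
theorem algEquiv_of_isGammaD (γ : PolLaw.MulLaw A B C d) (hγ : PolLaw.IsGammaD γ)
    (γ' : PolLaw.MulLaw A B C' d) (hγ' : PolLaw.IsGammaD γ') : Nonempty (C ≃ₐ[A] C') := by
  obtain ⟨f, hf, -⟩ := hγ C' γ'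
  obtain ⟨g, hg, -⟩ := hγ' C γ
  obtain ⟨i, -, hi⟩ := hγ C γ
  obtain ⟨i', -, hi'⟩ := hγ' C' γ'
  have e1 : PolLaw.postcomp (g.comp f).toLinearMap γ.law = γ.law := by
    rw [postcomp_comp_algHom, hf, hg]
  have e2 : PolLaw.postcomp (f.comp g).toLinearMap γ'.law = γ'.law := by
    rw [postcomp_comp_algHom, hg, hf]
  have h1 : g.comp f = AlgHom.id A C := by
    rw [hi (g.comp f) e1, hi (AlgHom.id A C) (postcomp_id_algHom _)]
  have h2 : f.comp g = AlgHom.id A C' := by
    rw [hi' (f.comp g) e2, hi' (AlgHom.id A C') (postcomp_id_algHom _)]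
  exact ⟨AlgEquiv.ofAlgHom f g h2 h1⟩

end Uniq

section Flat

variable {A B : Type u} [CommRing A] [CommRing B] [Algebra A B] [Module.Flat A B]

lemma Tmod_flat (d : ℕ) : Module.Flat A (Tmod A d B) := by
  induction d with
  | zero =>
    exact Module.Flat.of_linearEquiv
      (PiTensorProduct.isEmptyEquiv (R := A) (s := fun _ : Fin 0 => B) (Fin 0))
  | succ d ih =>
    haveI := ih
    exact Module.Flat.of_linearEquiv (splitT A B d)

/-- Symmetric tensors of a flat algebra are flat. -/
theorem TS_flat (d : ℕ) : Module.Flat A (SymTen.TS A B d) := by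
  haveI := Tmod_flat (A := A) (B := B) d
  rw [Module.Flat.iff_rTensor_preserves_injective_linearMap]
  intro N N' _ _ _ _ f hf
  have h1 : Function.Injective
      ((SymTen.TS A B d).val.toLinearMap.lTensor N' ∘ₗ f.rTensor (SymTen.TS A B d)) := by
    rw [LinearMap.lTensor_comp_rTensor, ← LinearMap.rTensor_comp_lTensor]
    exact (Module.Flat.rTensor_preserves_injective_linearMap (M := Tmod A d B) f hf).comp
      (lTensor_val_injective_of_flat_mod d N)
  exact Function.Injective.of_comp h1

variable {C : Type u} [CommRing C] [Algebra A C] {d : ℕ}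

/-- The divided power algebra of a flat algebra is flat. -/
theorem gammaD_flat (γ : PolLaw.MulLaw A B C d) (hγ : PolLaw.IsGammaD γ) : Module.Flat A C := by
  obtain ⟨τ, -, hτ⟩ := exists_τ_isGammaD (A := A) (B := B) d (Or.inl inferInstance)
  obtain ⟨e⟩ := algEquiv_of_isGammaD γ hγ τ hτ
  haveI := TS_flat (A := A) (B := B) d
  exact Module.Flat.of_linearEquiv e.toLinearEquiv

end Flat

end Groth.Agent.Lib.Helper6.ZC
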