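import Mathlib
import Groth.Prelude.Def_PolLaw
import Groth.Prelude.Def_PolLaw2
import Groth.Prelude.Def_W4c5normfunctorschNorm
import Groth.Agent.Lib.Helper6.ZC.BCXi
import Groth.Agent.Lib.Helper6.PolyLawFam

/-!
# The algebra map attached to the norm commutes with base change (helper6)
-/

set_option autoImplicit false
set_option linter.unusedSectionVars false
set_option linter.unusedVariables false
set_option linter.unusedSimpArgs false
set_option linter.style.haveILetI false
set_option maxHeartbeats 400000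
universe u
open scoped TensorProduct

namespace Groth.Agent.Lib.Helper6.ZC

section BcAlong

variable {R : Type u} [CommRing R] {Q : Type u} [CommRing Q] [Algebra R Q]
  {X : Type u} [AddCommGroup X] [Module R X]
  {Y : Type u} [AddCommGroup Y] [Module R Y] [Module Q Y] [IsScalarTower R Q Y]

lemma bcAlong_tmul (g : X →ₗ[R] Y) (P : Type u) [CommRing P] [Algebra R P] [Algebra Q P]
    [IsScalarTower R Q P] (p : P) (x : X) :
    PolLaw.bcAlong g P (p ⊗ₜ[R] x) = p ⊗ₜ[Q] g x := by
  simp [PolLaw.bcAlong]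

lemma bcAlong_eq_ΞK (g : X →ₗ[R] Y) (P : Type u) [CommRing P] [Algebra R P] [Algebra Q P]
    [IsScalarTower R Q P] (w : P ⊗[R] X) :
    PolLaw.bcAlong g P w = ΞK R Q P g w := by
  induction w using TensorProduct.induction_on with
  | zero => simp
  | tmul p x => rw [bcAlong_tmul, ΞK_tmul]
  | add a b ha hb => simp only [map_add, ha, hb]

end BcAlong

section Norm

variable {R R' Q Q' : Type u} [CommRing R] [CommRing R'] [Algebra R R']
  [CommRing Q] [Algebra R Q] [CommRing Q'] [Algebra R Q'] [Algebra Q Q'] [Algebra R' Q']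
  [IsScalarTower R Q Q'] [IsScalarTower R R' Q'] [Algebra.IsPushout R R' Q Q']

variable (R R' Q Q') in
/-- `P ⊗_R R' ≃ P ⊗_Q Q'` for a `Q`-algebra `P`. -/
noncomputable def pushEquiv (P : Type u) [CommRing P] [Algebra R P] [Algebra Q P]
    [IsScalarTower R Q P] : P ⊗[R] R' ≃ₐ[P] P ⊗[Q] Q' :=
  haveI : Algebra.IsPushout R Q R' Q' := Algebra.IsPushout.symm inferInstance
  (Algebra.TensorProduct.cancelBaseChange R Q P P R').symm.trans
    (Algebra.TensorProduct.congr (AlgEquiv.refl (R := P) (A₁ := P))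
      (Algebra.IsPushout.equiv R Q R' Q'))

lemma pushEquiv_eq (P : Type u) [CommRing P] [Algebra R P] [Algebra Q P]
    [IsScalarTower R Q P] (z : P ⊗[R] R') :
    pushEquiv R R' Q Q' P z =
      PolLaw.bcAlong (IsScalarTower.toAlgHom R R' Q').toLinearMap P z := by
  haveI : Algebra.IsPushout R Q R' Q' := Algebra.IsPushout.symm inferInstance
  induction z using TensorProduct.induction_on with
  | zero => simp
  | tmul p r =>
    rw [bcAlong_tmul]
    simp [pushEquiv, Algebra.IsPushout.equiv_tmul]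
  | add a b ha hb => simp only [map_add, ha, hb]

lemma norm_bcAlong (P : Type u) [CommRing P] [Algebra R P] [Algebra Q P]
    [IsScalarTower R Q P] (z : P ⊗[R] R') :
    Algebra.norm P (PolLaw.bcAlong (Q := Q) (IsScalarTower.toAlgHom R R' Q').toLinearMap P z) =
      Algebra.norm P z := by
  rw [← pushEquiv_eq]
  exact Algebra.norm_eq_of_algEquiv (pushEquiv R R' Q Q' P) z

end Norm

section Main

variable {R R' Q Q' : Type u} [CommRing R] [CommRing R'] [Algebra R R']
  [CommRing Q] [Algebra R Q] [CommRing Q'] [Algebra R Q'] [Algebra Q Q'] [Algebra R' Q']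
  [IsScalarTower R Q Q'] [IsScalarTower R R' Q'] [Algebra.IsPushout R R' Q Q']
  [Module.Free R R'] [Module.Finite R R'] [Module.Free Q Q'] [Module.Finite Q Q']
  (d : ℕ) (hd : Module.finrank R R' = d) (hd' : Module.finrank Q Q' = d)
  {C : Type u} [CommRing C] [Algebra R C] (γ : PolLaw.MulLaw R R' C d)
  (π : C →ₐ[R] R) (hπ : PolLaw.MulLaw.postcomp π γ = PolLaw.normLaw R R' d hd)
  {C' : Type u} [CommRing C'] [Algebra R C'] [Algebra Q C'] [IsScalarTower R Q C']
  (γ' : PolLaw.MulLaw Q Q' C' d)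
  (π' : C' →ₐ[Q] Q) (hπ' : PolLaw.MulLaw.postcomp π' γ' = PolLaw.normLaw Q Q' d hd')
  (θ : C →ₐ[R] C')
  (hθ : ∀ (P : Type u) [CommRing P] [Algebra R P] [Algebra Q P] [IsScalarTower R Q P]
    (z : P ⊗[R] R'),
    γ'.law.toFun' P (PolLaw.bcAlong (IsScalarTower.toAlgHom R R' Q').toLinearMap P z) =
      PolLaw.bcAlong θ.toLinearMap P (γ.law.toFun' P z))

include hπ in
lemma μK_right (P : Type u) [CommRing P] [Algebra R P] [Algebra Q P] [IsScalarTower R Q P]
    (z : P ⊗[R] R') :
    μK R Q P (((Algebra.ofId R Q).comp π).toLinearMap.lTensor P (γ.law.toFun' P z)) =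
      Algebra.norm P z := by
  have h1 : ((Algebra.ofId R Q).comp π).toLinearMap.lTensor P (γ.law.toFun' P z) =
      (Algebra.ofId R Q).toLinearMap.lTensor P
        ((PolLaw.MulLaw.postcomp π γ).law.toFun' P z) := by
    rw [AlgHom.comp_toLinearMap, LinearMap.lTensor_comp, LinearMap.comp_apply]
    rfl
  rw [h1, hπ, PolLaw.normLaw_apply, LinearMap.lTensor_tmul, μK_tmul]
  simp

include hπ' hθ in
lemma μK_left (P : Type u) [CommRing P] [Algebra R P] [Algebra Q P] [IsScalarTower R Q P]
    (z : P ⊗[R] R') :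
    μK R Q P (((π'.restrictScalars R).comp θ).toLinearMap.lTensor P (γ.law.toFun' P z)) =
      Algebra.norm P z := by
  have h0 : ((π'.restrictScalars R).comp θ).toLinearMap =
      π'.toLinearMap.restrictScalars R ∘ₗ θ.toLinearMap := rfl
  rw [h0, ← ΞK_rid, ← bcAlong_eq_ΞK, ← hθ P z]
  have h1 : π'.toLinearMap.lTensor P (γ'.law.toFun' P
      (PolLaw.bcAlong (IsScalarTower.toAlgHom R R' Q').toLinearMap P z)) =
      (PolLaw.MulLaw.postcomp π' γ').law.toFun' P
        (PolLaw.bcAlong (IsScalarTower.toAlgHom R R' Q').toLinearMap P z) := rfl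
  rw [h1, hπ', PolLaw.normLaw_apply, Algebra.TensorProduct.rid_tmul, one_smul, norm_bcAlong]

include hπ hπ' hθ in
theorem postcomp_eq_norm :
    PolLaw.postcomp ((π'.restrictScalars R).comp θ).toLinearMap γ.law =
      PolLaw.postcomp ((Algebra.ofId R Q).comp π).toLinearMap γ.law := by
  apply PolyLawFam.law_ext
  intro n
  funext x
  set S := MvPolynomial (Fin n) R
  apply (TensorProduct.comm R S Q).injective
  rw [← μK_rTensor_includeRight, ← μK_rTensor_includeRight]
  have hc : ∀ g : C →ₗ[R] Q,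
      (Algebra.TensorProduct.includeRight : S →ₐ[R] Q ⊗[R] S).toLinearMap.rTensor Q
        ((PolLaw.postcomp g γ.law).toFun' S x) =
      g.lTensor (Q ⊗[R] S) (γ.law.toFun' (Q ⊗[R] S)
        ((Algebra.TensorProduct.includeRight : S →ₐ[R] Q ⊗[R] S).toLinearMap.rTensor R' x)) := by
    intro g
    rw [← PolynomialLaw.isCompat_apply']
    show (Algebra.TensorProduct.includeRight : S →ₐ[R] Q ⊗[R] S).toLinearMap.rTensor Q
      (g.lTensor S (γ.law.toFun' S x)) = _
    rw [← LinearMap.comp_apply, LinearMap.rTensor_comp_lTensor, ← LinearMap.lTensor_comp_rTensor,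
      LinearMap.comp_apply]
  rw [hc, hc, μK_left d hd' γ γ' π' hπ' θ hθ, μK_right d hd γ π hπ]

include hπ hπ' hθ in
theorem norm_map_baseChange (hγ : PolLaw.IsGammaD γ) (c : C) :
    π' (θ c) = algebraMap R Q (π c) := by
  obtain ⟨f, -, hf⟩ := hγ Q (PolLaw.MulLaw.postcomp ((Algebra.ofId R Q).comp π) γ)
  have h1 := hf ((π'.restrictScalars R).comp θ) (postcomp_eq_norm d hd hd' γ π hπ γ' π' hπ' θ hθ)
  have h2 := hf ((Algebra.ofId R Q).comp π) rfl
  have h3 := DFunLike.congr_fun (h1.trans h2.symm) c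
  exact h3

end Main

end Groth.Agent.Lib.Helper6.ZC
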