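import Mathlib
import Groth.Prelude.Def_PolLaw
import Groth.Prelude.Def_PolLaw2
import Groth.Prelude.Def_W4c5normfunctorschNorm
import Groth.Agent.Lib.Helper6.ZC.NormBC
import Groth.Agent.Lib.Helper6.PolyLawFam

/-!
# Extension and restriction of polynomial laws along a base change `R → Q` (helper6)

For `g : M → MQ` exhibiting `MQ` as `Q ⊗_R M` and a `Q`-module `E`:
* `extLaw g hg λ : MQ →ₚₗ[Q] E` for an `R`-law `λ : M →ₚₗ[R] E`;
* `resLaw g μ : M →ₚₗ[R] E` for a `Q`-law `μ : MQ →ₚₗ[Q] E`;
and they are mutually inverse and commute with post-composition by `Q`-linear maps.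
-/

set_option autoImplicit false
set_option linter.unusedSectionVars false
set_option linter.unusedVariables false
set_option linter.unusedSimpArgs false
set_option linter.style.haveILetI false
set_option maxHeartbeats 400000
universe u
open scoped TensorProduct

namespace Groth.Agent.Lib.Helper6.ZC

section XiMore

variable (A : Type u) [CommRing A] (K : Type u) [CommRing K] [Algebra A K]
  {M : Type u} [AddCommGroup M] [Module A M]
  {M' : Type u} [AddCommGroup M'] [Module K M'] [Module A M'] [IsScalarTower A K M']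

lemma ΞK_natural (S : Type u) [CommSemiring S] [Algebra A S] [Algebra K S] [IsScalarTower A K S]
    (S' : Type u) [CommSemiring S'] [Algebra A S'] [Algebra K S'] [IsScalarTower A K S']
    (θ : M →ₗ[A] M') (ψ : S →ₐ[K] S') (t : S ⊗[A] M) :
    ψ.toLinearMap.rTensor M' (ΞK A K S θ t) =
      ΞK A K S' θ ((ψ.restrictScalars A).toLinearMap.rTensor M t) := by
  induction t using TensorProduct.induction_on with
  | zero => simp
  | tmul s m => rfl
  | add a b ha hb => simp only [map_add, ha, hb]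

lemma ΞK_smul (S : Type u) [CommSemiring S] [Algebra A S] [Algebra K S] [IsScalarTower A K S]
    (θ : M →ₗ[A] M') (s : S) (t : S ⊗[A] M) :
    ΞK A K S θ (s • t) = s • ΞK A K S θ t := by
  induction t using TensorProduct.induction_on with
  | zero => simp
  | tmul s' m => rw [TensorProduct.smul_tmul', ΞK_tmul, ΞK_tmul, TensorProduct.smul_tmul']
  | add a b ha hb => simp only [smul_add, map_add, ha, hb]

end XiMore

section ExtRes

variable {R : Type u} [CommRing R] {Q : Type u} [CommRing Q] [Algebra R Q]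
  {M : Type u} [AddCommGroup M] [Module R M]
  {MQ : Type u} [AddCommGroup MQ] [Module R MQ] [Module Q MQ] [IsScalarTower R Q MQ]
  {E : Type u} [AddCommGroup E] [Module R E] [Module Q E] [IsScalarTower R Q E]
  {E' : Type u} [AddCommGroup E'] [Module R E'] [Module Q E'] [IsScalarTower R Q E']
  (g : M →ₗ[R] MQ) (hg : IsBaseChange Q g)

/-- `S ⊗_Q MQ ≃ S ⊗_R M` for a `Q`-algebra `S`. -/
noncomputable def eM (S : Type u) [CommSemiring S] [Algebra R S] [Algebra Q S]
    [IsScalarTower R Q S] : S ⊗[Q] MQ ≃ₗ[Q] S ⊗[R] M :=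
  (LinearEquiv.lTensor S hg.equiv.symm) ≪≫ₗ
    (TensorProduct.AlgebraTensorModule.cancelBaseChange R Q Q S M)

lemma eM_symm_eq (S : Type u) [CommSemiring S] [Algebra R S] [Algebra Q S]
    [IsScalarTower R Q S] (z : S ⊗[R] M) :
    (eM g hg S).symm z = ΞK R Q S g z := by
  induction z using TensorProduct.induction_on with
  | zero => simp
  | tmul s m =>
    rw [ΞK_tmul]
    simp [eM, IsBaseChange.equiv_tmul]
  | add a b ha hb => simp only [map_add, ha, hb]

lemma eM_ΞK (S : Type u) [CommSemiring S] [Algebra R S] [Algebra Q S]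
    [IsScalarTower R Q S] (z : S ⊗[R] M) :
    eM g hg S (ΞK R Q S g z) = z := by
  rw [← eM_symm_eq g hg, LinearEquiv.apply_symm_apply]

lemma ΞK_eM (S : Type u) [CommSemiring S] [Algebra R S] [Algebra Q S]
    [IsScalarTower R Q S] (y : S ⊗[Q] MQ) :
    ΞK R Q S g (eM g hg S y) = y := by
  rw [← eM_symm_eq g hg, LinearEquiv.symm_apply_apply]

lemma eM_natural (S : Type u) [CommSemiring S] [Algebra R S] [Algebra Q S] [IsScalarTower R Q S]
    (S' : Type u) [CommSemiring S'] [Algebra R S'] [Algebra Q S'] [IsScalarTower R Q S']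
    (ψ : S →ₐ[Q] S') (y : S ⊗[Q] MQ) :
    (ψ.restrictScalars R).toLinearMap.rTensor M (eM g hg S y) =
      eM g hg S' (ψ.toLinearMap.rTensor MQ y) := by
  obtain ⟨z, rfl⟩ : ∃ z, y = ΞK R Q S g z := ⟨eM g hg S y, (ΞK_eM g hg S y).symm⟩
  rw [eM_ΞK, ΞK_natural, eM_ΞK]

/-! ### Extension -/

/-- The value of the extended law on a `Q`-algebra `S`. -/
noncomputable def extFun (lam : M →ₚₗ[R] E) (S : Type u) [CommSemiring S] [Algebra R S]
    [Algebra Q S] [IsScalarTower R Q S] (y : S ⊗[Q] MQ) : S ⊗[Q] E :=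
  ΞK R Q S (LinearMap.id : E →ₗ[R] E) (lam.toFun' S (eM g hg S y))

lemma extFun_compat (lam : M →ₚₗ[R] E)
    (S : Type u) [CommSemiring S] [Algebra R S] [Algebra Q S] [IsScalarTower R Q S]
    (S' : Type u) [CommSemiring S'] [Algebra R S'] [Algebra Q S'] [IsScalarTower R Q S']
    (ψ : S →ₐ[Q] S') (y : S ⊗[Q] MQ) :
    ψ.toLinearMap.rTensor E (extFun g hg lam S y) =
      extFun g hg lam S' (ψ.toLinearMap.rTensor MQ y) := by
  unfold extFun
  rw [ΞK_natural, PolynomialLaw.isCompat_apply', eM_natural]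

/-- Extension of an `R`-law `M → E` (with `E` a `Q`-module) to a `Q`-law `MQ → E`. -/
noncomputable def extLaw (lam : M →ₚₗ[R] E) : MQ →ₚₗ[Q] E where
  toFun' S _ _ := fun y =>
    letI : Algebra R S := Algebra.compHom S (algebraMap R Q)
    haveI : IsScalarTower R Q S := IsScalarTower.of_algebraMap_eq fun _ => rfl
    extFun g hg lam S y
  isCompat' {S _ _ S' _ _} ψ := by
    letI : Algebra R S := Algebra.compHom S (algebraMap R Q)
    haveI : IsScalarTower R Q S := IsScalarTower.of_algebraMap_eq fun _ => rfl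
    letI : Algebra R S' := Algebra.compHom S' (algebraMap R Q)
    haveI : IsScalarTower R Q S' := IsScalarTower.of_algebraMap_eq fun _ => rfl
    funext y
    exact extFun_compat g hg lam S S' ψ y

lemma extLaw_toFun' (lam : M →ₚₗ[R] E) (S : Type u) [CommSemiring S] [Algebra R S] [Algebra Q S]
    [IsScalarTower R Q S] (y : S ⊗[Q] MQ) :
    (extLaw g hg lam).toFun' S y = extFun g hg lam S y := by
  have h : ‹Algebra R S› = Algebra.compHom S (algebraMap R Q) :=
    Algebra.algebra_ext _ _ (fun a => IsScalarTower.algebraMap_apply R Q S a)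
  subst h
  rfl

/-! ### Restriction -/

variable (Q E) in
/-- `(Q ⊗_R S) ⊗_Q E → S ⊗_R E`, `(q ⊗ s) ⊗ e ↦ s ⊗ q e`. -/
noncomputable def ρE (S : Type u) [CommSemiring S] [Algebra R S] :
    (Q ⊗[R] S) ⊗[Q] E →ₗ[R] S ⊗[R] E :=
  (TensorProduct.comm R E S).toLinearMap ∘ₗ
    ((TensorProduct.AlgebraTensorModule.cancelBaseChange R Q Q E S).toLinearMap.restrictScalars R) ∘ₗ
    ((TensorProduct.comm Q (Q ⊗[R] S) E).toLinearMap.restrictScalars R)

lemma ρE_tmul (S : Type u) [CommSemiring S] [Algebra R S] (q : Q) (s : S) (e : E) :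
    ρE Q E S ((q ⊗ₜ[R] s) ⊗ₜ[Q] e) = s ⊗ₜ[R] (q • e) := by
  simp [ρE]

/-- The value of the restricted law on an `R`-algebra `S`. -/
noncomputable def resFun (mu : MQ →ₚₗ[Q] E) (S : Type u) [CommSemiring S] [Algebra R S]
    (z : S ⊗[R] M) : S ⊗[R] E :=
  ρE Q E S (mu.toFun' (Q ⊗[R] S) (ΞK R Q (Q ⊗[R] S) g
    ((Algebra.TensorProduct.includeRight : S →ₐ[R] Q ⊗[R] S).toLinearMap.rTensor M z)))

lemma ρE_natural (S : Type u) [CommSemiring S] [Algebra R S]
    (S' : Type u) [CommSemiring S'] [Algebra R S'] (ψ : S →ₐ[R] S') (w : (Q ⊗[R] S) ⊗[Q] E) :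
    ψ.toLinearMap.rTensor E (ρE Q E S w) =
      ρE Q E S' ((Algebra.TensorProduct.map (AlgHom.id Q Q) ψ).toLinearMap.rTensor E w) := by
  induction w using TensorProduct.induction_on with
  | zero => simp
  | tmul t e =>
    induction t using TensorProduct.induction_on with
    | zero => simp
    | tmul q s =>
      rw [ρE_tmul, LinearMap.rTensor_tmul, LinearMap.rTensor_tmul]
      simp only [AlgHom.toLinearMap_apply]
      rw [Algebra.TensorProduct.map_tmul, ρE_tmul]
      rfl
    | add a b ha hb => simp only [TensorProduct.add_tmul, map_add, ha, hb]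
  | add a b ha hb => simp only [map_add, ha, hb]

lemma incl_natural (S : Type u) [CommSemiring S] [Algebra R S]
    (S' : Type u) [CommSemiring S'] [Algebra R S'] (ψ : S →ₐ[R] S') (z : S ⊗[R] M) :
    (((Algebra.TensorProduct.map (AlgHom.id Q Q) ψ : Q ⊗[R] S →ₐ[Q] Q ⊗[R] S').restrictScalars
        R).toLinearMap.rTensor M
      ((Algebra.TensorProduct.includeRight : S →ₐ[R] Q ⊗[R] S).toLinearMap.rTensor M z)) =
    (Algebra.TensorProduct.includeRight : S' →ₐ[R] Q ⊗[R] S').toLinearMap.rTensor M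
      (ψ.toLinearMap.rTensor M z) := by
  induction z using TensorProduct.induction_on with
  | zero => simp
  | tmul s m =>
    simp [LinearMap.rTensor_tmul]
  | add a b ha hb => simp only [map_add, ha, hb]

lemma resFun_compat (mu : MQ →ₚₗ[Q] E) (S : Type u) [CommSemiring S] [Algebra R S]
    (S' : Type u) [CommSemiring S'] [Algebra R S'] (ψ : S →ₐ[R] S') (z : S ⊗[R] M) :
    ψ.toLinearMap.rTensor E (resFun g mu S z) = resFun g mu S' (ψ.toLinearMap.rTensor M z) := by
  unfold resFun
  rw [ρE_natural, PolynomialLaw.isCompat_apply', ΞK_natural, incl_natural]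

/-- Restriction of a `Q`-law `MQ → E` to an `R`-law `M → E`. -/
noncomputable def resLaw (mu : MQ →ₚₗ[Q] E) : M →ₚₗ[R] E where
  toFun' S _ _ := fun z => resFun g mu S z
  isCompat' {S _ _ S' _ _} ψ := by
    funext z
    exact resFun_compat g mu S S' ψ z

lemma resLaw_toFun' (mu : MQ →ₚₗ[Q] E) (S : Type u) [CommSemiring S] [Algebra R S]
    (z : S ⊗[R] M) : (resLaw g mu).toFun' S z = resFun g mu S z := rfl

/-! ### The two constructions are mutually inverse -/

lemma ρE_ΞK_incl (S : Type u) [CommSemiring S] [Algebra R S] (w : S ⊗[R] E) :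
    ρE Q E S (ΞK R Q (Q ⊗[R] S) (LinearMap.id : E →ₗ[R] E)
      ((Algebra.TensorProduct.includeRight : S →ₐ[R] Q ⊗[R] S).toLinearMap.rTensor E w)) = w := by
  induction w using TensorProduct.induction_on with
  | zero => simp
  | tmul s e =>
    rw [LinearMap.rTensor_tmul, ΞK_tmul, AlgHom.toLinearMap_apply,
      Algebra.TensorProduct.includeRight_apply, ρE_tmul, one_smul]
    rfl
  | add a b ha hb => simp only [map_add, ha, hb]

theorem resLaw_extLaw (lam : M →ₚₗ[R] E) : resLaw g (extLaw g hg lam) = lam := by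
  apply PolynomialLaw.ext
  funext S _ _ z
  rw [resLaw_toFun']
  unfold resFun
  rw [extLaw_toFun']
  unfold extFun
  rw [eM_ΞK, ← PolynomialLaw.isCompat_apply', ρE_ΞK_incl]

/-- Multiplication `Q ⊗_R S → S` for a `Q`-algebra `S`. -/
noncomputable def mQ (S : Type u) [CommSemiring S] [Algebra R S] [Algebra Q S]
    [IsScalarTower R Q S] : Q ⊗[R] S →ₐ[Q] S :=
  Algebra.TensorProduct.productLeftAlgHom (Algebra.ofId Q S) (AlgHom.id R S)

lemma mQ_tmul (S : Type u) [CommSemiring S] [Algebra R S] [Algebra Q S]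
    [IsScalarTower R Q S] (q : Q) (s : S) : mQ (R := R) S (q ⊗ₜ[R] s) = algebraMap Q S q * s := rfl

lemma ΞK_ρE (S : Type u) [CommSemiring S] [Algebra R S] [Algebra Q S]
    [IsScalarTower R Q S] (w : (Q ⊗[R] S) ⊗[Q] E) :
    ΞK R Q S (LinearMap.id : E →ₗ[R] E) (ρE Q E S w) =
      (mQ (R := R) (Q := Q) S).toLinearMap.rTensor E w := by
  induction w using TensorProduct.induction_on with
  | zero => simp
  | tmul t e =>
    induction t using TensorProduct.induction_on with
    | zero => simp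
    | tmul q s =>
      rw [ρE_tmul, ΞK_tmul, LinearMap.rTensor_tmul, AlgHom.toLinearMap_apply, mQ_tmul,
        LinearMap.id_apply, ← Algebra.smul_def, TensorProduct.smul_tmul]
    | add a b ha hb => simp only [TensorProduct.add_tmul, map_add, ha, hb]
  | add a b ha hb => simp only [map_add, ha, hb]

lemma mQ_ΞK_incl (S : Type u) [CommSemiring S] [Algebra R S] [Algebra Q S]
    [IsScalarTower R Q S] (z : S ⊗[R] M) :
    (mQ (R := R) (Q := Q) S).toLinearMap.rTensor MQ (ΞK R Q (Q ⊗[R] S) g
      ((Algebra.TensorProduct.includeRight : S →ₐ[R] Q ⊗[R] S).toLinearMap.rTensor M z)) =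
      ΞK R Q S g z := by
  induction z using TensorProduct.induction_on with
  | zero => simp
  | tmul s m =>
    rw [LinearMap.rTensor_tmul, ΞK_tmul, ΞK_tmul, LinearMap.rTensor_tmul, AlgHom.toLinearMap_apply,
      AlgHom.toLinearMap_apply, Algebra.TensorProduct.includeRight_apply, mQ_tmul, map_one,
      one_mul]
  | add a b ha hb => simp only [map_add, ha, hb]

theorem extLaw_resLaw (mu : MQ →ₚₗ[Q] E) : extLaw g hg (resLaw g mu) = mu := by
  apply PolynomialLaw.ext
  funext S _ _ y
  letI : Algebra R S := Algebra.compHom S (algebraMap R Q)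
  haveI : IsScalarTower R Q S := IsScalarTower.of_algebraMap_eq fun _ => rfl
  rw [extLaw_toFun']
  unfold extFun
  rw [resLaw_toFun']
  unfold resFun
  rw [ΞK_ρE, PolynomialLaw.isCompat_apply', mQ_ΞK_incl, ΞK_eM]

/-! ### Post-composition -/

theorem extLaw_postcomp (lam : M →ₚₗ[R] E) (φ : E →ₗ[Q] E') :
    extLaw g hg (PolLaw.postcomp (φ.restrictScalars R) lam) =
      PolLaw.postcomp φ (extLaw g hg lam) := by
  apply PolynomialLaw.ext
  funext S _ _ y
  letI : Algebra R S := Algebra.compHom S (algebraMap R Q)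
  haveI : IsScalarTower R Q S := IsScalarTower.of_algebraMap_eq fun _ => rfl
  rw [extLaw_toFun']
  show _ = φ.lTensor S ((extLaw g hg lam).toFun' S y)
  rw [extLaw_toFun']
  unfold extFun
  show ΞK R Q S LinearMap.id ((φ.restrictScalars R).lTensor S (lam.toFun' S (eM g hg S y))) = _
  rw [ΞK_lTensor_pre, ΞK_lTensor_post]
  rfl

lemma ρE_lTensor (φ : E →ₗ[Q] E') (S : Type u) [CommSemiring S] [Algebra R S]
    (w : (Q ⊗[R] S) ⊗[Q] E) :
    ρE Q E' S (φ.lTensor (Q ⊗[R] S) w) = (φ.restrictScalars R).lTensor S (ρE Q E S w) := by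
  induction w using TensorProduct.induction_on with
  | zero => simp
  | tmul t e =>
    induction t using TensorProduct.induction_on with
    | zero => simp
    | tmul q s =>
      rw [LinearMap.lTensor_tmul, ρE_tmul, ρE_tmul, LinearMap.lTensor_tmul]
      simp
    | add a b ha hb => simp only [TensorProduct.add_tmul, map_add, ha, hb]
  | add a b ha hb => simp only [map_add, ha, hb]

theorem resLaw_postcomp (mu : MQ →ₚₗ[Q] E) (φ : E →ₗ[Q] E') :
    resLaw g (PolLaw.postcomp φ mu) = PolLaw.postcomp (φ.restrictScalars R) (resLaw g mu) := by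
  apply PolynomialLaw.ext
  funext S _ _ z
  show ρE Q E' S (φ.lTensor (Q ⊗[R] S) (mu.toFun' (Q ⊗[R] S) _)) =
    (φ.restrictScalars R).lTensor S (ρE Q E S (mu.toFun' (Q ⊗[R] S) _))
  rw [ρE_lTensor]

end ExtRes

section Postcomp

variable {R : Type u} [CommRing R] {M N E E' : Type u} [AddCommGroup M] [Module R M]
  [AddCommGroup N] [Module R N] [AddCommGroup E] [Module R E] [AddCommGroup E'] [Module R E']

theorem postcomp_comp_lin (a : E →ₗ[R] E') (b : N →ₗ[R] E) (F : M →ₚₗ[R] N) :
    PolLaw.postcomp (a ∘ₗ b) F = PolLaw.postcomp a (PolLaw.postcomp b F) := by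
  apply PolynomialLaw.ext
  funext S _ _ z
  show (a ∘ₗ b).lTensor S (F.toFun' S z) = a.lTensor S (b.lTensor S (F.toFun' S z))
  rw [LinearMap.lTensor_comp, LinearMap.comp_apply]

theorem postcomp_id_lin (F : M →ₚₗ[R] N) : PolLaw.postcomp LinearMap.id F = F := by
  apply PolynomialLaw.ext
  funext S _ _ z
  show (LinearMap.id : N →ₗ[R] N).lTensor S (F.toFun' S z) = _
  rw [LinearMap.lTensor_id, LinearMap.id_apply]

end Postcomp

end Groth.Agent.Lib.Helper6.ZC
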