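import Mathlib
import Groth.Prelude.Def_PolLaw
import Groth.Agent.Lib.Helper6.ZC.NM1
import Groth.Agent.Lib.Helper6.ZC.GammaFlat

/-!
# Base change of the divided power algebra (helper6)

If `(C₀, γ₀)` is a divided power algebra of the `R`-algebra `B₀` and `B = Q ⊗_R B₀`, then
`Q ⊗_R C₀` with the extended law is a divided power algebra of the `Q`-algebra `B`.
-/

set_option autoImplicit false
set_option linter.unusedSectionVars false
set_option linter.unusedVariables false
set_option linter.unusedSimpArgs false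
set_option linter.style.haveILetI false
set_option maxHeartbeats 400000
universe u
open scoped TensorProduct

namespace Groth.Agent.Lib.Helper6.ZC

section XiMul

variable (A : Type u) [CommRing A] (K : Type u) [CommRing K] [Algebra A K]
  {M : Type u} [CommRing M] [Algebra A M]
  {M' : Type u} [CommRing M'] [Algebra K M'] [Algebra A M'] [IsScalarTower A K M']

lemma ΞK_one (S : Type u) [CommSemiring S] [Algebra A S] [Algebra K S] [IsScalarTower A K S]
    (θ : M →ₐ[A] M') : ΞK A K S θ.toLinearMap 1 = 1 := by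
  rw [Algebra.TensorProduct.one_def, ΞK_tmul, AlgHom.toLinearMap_apply, map_one,
    Algebra.TensorProduct.one_def]

lemma ΞK_mul (S : Type u) [CommSemiring S] [Algebra A S] [Algebra K S] [IsScalarTower A K S]
    (θ : M →ₐ[A] M') (x y : S ⊗[A] M) :
    ΞK A K S θ.toLinearMap (x * y) = ΞK A K S θ.toLinearMap x * ΞK A K S θ.toLinearMap y := by
  induction x using TensorProduct.induction_on with
  | zero => simp
  | tmul s m =>
    induction y using TensorProduct.induction_on with
    | zero => simp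
    | tmul t m' =>
      rw [Algebra.TensorProduct.tmul_mul_tmul, ΞK_tmul, ΞK_tmul, ΞK_tmul,
        Algebra.TensorProduct.tmul_mul_tmul, AlgHom.toLinearMap_apply, AlgHom.toLinearMap_apply,
        AlgHom.toLinearMap_apply, map_mul]
    | add a b ha hb => simp only [mul_add, map_add, ha, hb]
  | add a b ha hb => simp only [add_mul, map_add, ha, hb]

end XiMul

section BC

variable {R : Type u} [CommRing R] {Q : Type u} [CommRing Q] [Algebra R Q]
  {B₀ : Type u} [CommRing B₀] [Algebra R B₀]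
  {B : Type u} [CommRing B] [Algebra R B] [Algebra Q B] [IsScalarTower R Q B]
  {E : Type u} [CommRing E] [Algebra R E] [Algebra Q E] [IsScalarTower R Q E]
  {E' : Type u} [CommRing E'] [Algebra R E'] [Algebra Q E'] [IsScalarTower R Q E']
  (g : B₀ →ₐ[R] B) (hg : IsBaseChange Q g.toLinearMap) {d : ℕ}

lemma eM_one (S : Type u) [CommSemiring S] [Algebra R S] [Algebra Q S] [IsScalarTower R Q S] :
    eM g.toLinearMap hg S 1 = 1 := by
  rw [← ΞK_one R Q S g, eM_ΞK]

lemma eM_mul (S : Type u) [CommSemiring S] [Algebra R S] [Algebra Q S] [IsScalarTower R Q S]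
    (y y' : S ⊗[Q] B) :
    eM g.toLinearMap hg S (y * y') = eM g.toLinearMap hg S y * eM g.toLinearMap hg S y' := by
  obtain ⟨z, rfl⟩ : ∃ z, y = ΞK R Q S g.toLinearMap z :=
    ⟨eM _ hg S y, (ΞK_eM _ hg S y).symm⟩
  obtain ⟨z', rfl⟩ : ∃ z, y' = ΞK R Q S g.toLinearMap z :=
    ⟨eM _ hg S y', (ΞK_eM _ hg S y').symm⟩
  rw [← ΞK_mul, eM_ΞK, eM_ΞK, eM_ΞK]

lemma eM_smul (S : Type u) [CommSemiring S] [Algebra R S] [Algebra Q S] [IsScalarTower R Q S]
    (s : S) (y : S ⊗[Q] B) :
    eM g.toLinearMap hg S (s • y) = s • eM g.toLinearMap hg S y := by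
  obtain ⟨z, rfl⟩ : ∃ z, y = ΞK R Q S g.toLinearMap z :=
    ⟨eM _ hg S y, (ΞK_eM _ hg S y).symm⟩
  rw [← ΞK_smul, eM_ΞK, eM_ΞK]

/-- `ΞK id` as a map of rings. -/
lemma ΞK_id_one (S : Type u) [CommSemiring S] [Algebra R S] [Algebra Q S] [IsScalarTower R Q S] :
    ΞK R Q S (LinearMap.id : E →ₗ[R] E) 1 = 1 := ΞK_one R Q S (AlgHom.id R E)

lemma ΞK_id_mul (S : Type u) [CommSemiring S] [Algebra R S] [Algebra Q S] [IsScalarTower R Q S]
    (x y : S ⊗[R] E) :
    ΞK R Q S (LinearMap.id : E →ₗ[R] E) (x * y) =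
      ΞK R Q S (LinearMap.id : E →ₗ[R] E) x * ΞK R Q S (LinearMap.id : E →ₗ[R] E) y :=
  ΞK_mul R Q S (AlgHom.id R E) x y

/-- Extension of a multiplicative law. -/
noncomputable def extMulLaw (lam : PolLaw.MulLaw R B₀ E d) : PolLaw.MulLaw Q B E d where
  law := extLaw g.toLinearMap hg lam.law
  homog := by
    intro S _ _ s y
    letI : Algebra R S := Algebra.compHom S (algebraMap R Q)
    haveI : IsScalarTower R Q S := IsScalarTower.of_algebraMap_eq fun _ => rfl
    rw [extLaw_toFun', extLaw_toFun']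
    unfold extFun
    rw [eM_smul, lam.homog S s, ΞK_smul]
  mult := by
    intro S _ _
    letI : Algebra R S := Algebra.compHom S (algebraMap R Q)
    haveI : IsScalarTower R Q S := IsScalarTower.of_algebraMap_eq fun _ => rfl
    refine ⟨?_, fun x y => ?_⟩
    · rw [extLaw_toFun']
      unfold extFun
      rw [eM_one, (lam.mult S).1, ΞK_id_one]
    · rw [extLaw_toFun', extLaw_toFun', extLaw_toFun']
      unfold extFun
      rw [eM_mul, (lam.mult S).2, ΞK_id_mul]

/-! ### `ρE` is multiplicative -/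

lemma ΞK_incl_ρE (S : Type u) [CommSemiring S] [Algebra R S] (w : (Q ⊗[R] S) ⊗[Q] E) :
    ΞK R Q (Q ⊗[R] S) (LinearMap.id : E →ₗ[R] E)
      ((Algebra.TensorProduct.includeRight : S →ₐ[R] Q ⊗[R] S).toLinearMap.rTensor E
        (ρE Q E S w)) = w := by
  induction w using TensorProduct.induction_on with
  | zero => simp
  | tmul t e =>
    induction t using TensorProduct.induction_on with
    | zero => simp
    | tmul q s =>
      rw [ρE_tmul, LinearMap.rTensor_tmul, ΞK_tmul, AlgHom.toLinearMap_apply,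
        Algebra.TensorProduct.includeRight_apply, LinearMap.id_apply, ← TensorProduct.smul_tmul,
        TensorProduct.smul_tmul', smul_eq_mul, mul_one]
    | add a b ha hb => simp only [TensorProduct.add_tmul, map_add, ha, hb]
  | add a b ha hb => simp only [map_add, ha, hb]

lemma rTensor_incl_mul (S : Type u) [CommSemiring S] [Algebra R S] (x y : S ⊗[R] E) :
    (Algebra.TensorProduct.includeRight : S →ₐ[R] Q ⊗[R] S).toLinearMap.rTensor E (x * y) =
      (Algebra.TensorProduct.includeRight : S →ₐ[R] Q ⊗[R] S).toLinearMap.rTensor E x *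
      (Algebra.TensorProduct.includeRight : S →ₐ[R] Q ⊗[R] S).toLinearMap.rTensor E y := by
  rw [rTensor_eq_map, rTensor_eq_map, rTensor_eq_map, map_mul]

lemma rTensor_incl_one (S : Type u) [CommSemiring S] [Algebra R S] :
    (Algebra.TensorProduct.includeRight : S →ₐ[R] Q ⊗[R] S).toLinearMap.rTensor E 1 = 1 := by
  rw [rTensor_eq_map, map_one]

lemma ρE_one (S : Type u) [CommSemiring S] [Algebra R S] : ρE (R := R) Q E S 1 = 1 := by
  have h := ρE_ΞK_incl (R := R) (Q := Q) (E := E) S (1 : S ⊗[R] E)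
  rw [rTensor_incl_one, ΞK_id_one] at h
  exact h

lemma ρE_mul (S : Type u) [CommSemiring S] [Algebra R S] (w w' : (Q ⊗[R] S) ⊗[Q] E) :
    ρE Q E S (w * w') = ρE Q E S w * ρE Q E S w' := by
  have hw := ΞK_incl_ρE (R := R) (Q := Q) (E := E) S w
  have hw' := ΞK_incl_ρE (R := R) (Q := Q) (E := E) S w'
  have h : w * w' = ΞK R Q (Q ⊗[R] S) (LinearMap.id : E →ₗ[R] E)
      ((Algebra.TensorProduct.includeRight : S →ₐ[R] Q ⊗[R] S).toLinearMap.rTensor E
        (ρE Q E S w * ρE Q E S w')) := by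
    rw [rTensor_incl_mul, ΞK_id_mul, hw, hw']
  rw [h, ρE_ΞK_incl]

lemma ρE_incl_smul' (S : Type u) [CommSemiring S] [Algebra R S] (n : S)
    (w : (Q ⊗[R] S) ⊗[Q] E) :
    ρE Q E S ((Algebra.TensorProduct.includeRight (R := R) (A := Q) (B := S) n) • w) =
      n • ρE Q E S w := by
  induction w using TensorProduct.induction_on with
  | zero => simp
  | tmul t e =>
    induction t using TensorProduct.induction_on with
    | zero => simp
    | tmul q s =>
      rw [TensorProduct.smul_tmul', smul_eq_mul, Algebra.TensorProduct.includeRight_apply,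
        Algebra.TensorProduct.tmul_mul_tmul, one_mul, ρE_tmul, ρE_tmul, TensorProduct.smul_tmul',
        smul_eq_mul]
    | add a b ha hb => simp only [TensorProduct.add_tmul, smul_add, map_add, ha, hb]
  | add a b ha hb => simp only [smul_add, map_add, ha, hb]

lemma rTensor_incl_smul (S : Type u) [CommSemiring S] [Algebra R S] (s : S) (z : S ⊗[R] B₀) :
    (Algebra.TensorProduct.includeRight : S →ₐ[R] Q ⊗[R] S).toLinearMap.rTensor B₀ (s • z) =
      (Algebra.TensorProduct.includeRight (R := R) (A := Q) (B := S) s) •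
        (Algebra.TensorProduct.includeRight : S →ₐ[R] Q ⊗[R] S).toLinearMap.rTensor B₀ z := by
  induction z using TensorProduct.induction_on with
  | zero => simp
  | tmul t b =>
    rw [TensorProduct.smul_tmul', LinearMap.rTensor_tmul, LinearMap.rTensor_tmul,
      TensorProduct.smul_tmul', smul_eq_mul, smul_eq_mul, AlgHom.toLinearMap_apply,
      AlgHom.toLinearMap_apply, map_mul]
  | add a b ha hb => simp only [smul_add, map_add, ha, hb]

/-- Restriction of a multiplicative law. -/
noncomputable def resMulLaw (mu : PolLaw.MulLaw Q B E d) : PolLaw.MulLaw R B₀ E d where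
  law := resLaw g.toLinearMap mu.law
  homog := by
    intro S _ _ s z
    rw [resLaw_toFun', resLaw_toFun']
    unfold resFun
    rw [rTensor_incl_smul, ΞK_smul, mu.homog, ← map_pow, ρE_incl_smul']
  mult := by
    intro S _ _
    refine ⟨?_, fun x y => ?_⟩
    · rw [resLaw_toFun']
      unfold resFun
      rw [rTensor_eq_map, map_one, ΞK_one R Q _ g, (mu.mult _).1, ρE_one]
    · rw [resLaw_toFun', resLaw_toFun', resLaw_toFun']
      unfold resFun
      rw [rTensor_eq_map, map_mul, ← rTensor_eq_map, ← rTensor_eq_map, ΞK_mul R Q _ g,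
        (mu.mult _).2, ρE_mul]

/-! ### The universal property -/

variable {C₀ : Type u} [CommRing C₀] [Algebra R C₀] (γ₀ : PolLaw.MulLaw R B₀ C₀ d)

/-- The base-changed universal law `B → Q ⊗_R C₀`. -/
noncomputable def bcGamma : PolLaw.MulLaw Q B (Q ⊗[R] C₀) d :=
  extMulLaw g hg (PolLaw.MulLaw.postcomp
    (Algebra.TensorProduct.includeRight : C₀ →ₐ[R] Q ⊗[R] C₀) γ₀)

theorem isGammaD_bcGamma (hγ₀ : PolLaw.IsGammaD γ₀) : PolLaw.IsGammaD (bcGamma g hg γ₀) := by
  intro C' _ _ G
  letI : Algebra R C' := Algebra.compHom C' (algebraMap R Q)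
  haveI : IsScalarTower R Q C' := IsScalarTower.of_algebraMap_eq fun _ => rfl
  obtain ⟨φ₀, hφ₀, hφ₀u⟩ := hγ₀ C' (resMulLaw g G)
  have hφ₀' : PolLaw.postcomp φ₀.toLinearMap γ₀.law = resLaw g.toLinearMap G.law := hφ₀
  let φ : Q ⊗[R] C₀ →ₐ[Q] C' :=
    Algebra.TensorProduct.lift (Algebra.ofId Q C') φ₀ (fun _ _ => Commute.all _ _)
  have hφι : φ.toLinearMap.restrictScalars R ∘ₗ
      (Algebra.TensorProduct.includeRight : C₀ →ₐ[R] Q ⊗[R] C₀).toLinearMap = φ₀.toLinearMap := by
    apply LinearMap.ext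
    intro c
    show φ ((1 : Q) ⊗ₜ[R] c) = φ₀ c
    rw [Algebra.TensorProduct.lift_tmul, map_one, one_mul]
  have hbc : (bcGamma g hg γ₀).law = extLaw g.toLinearMap hg
      (PolLaw.postcomp (Algebra.TensorProduct.includeRight : C₀ →ₐ[R] Q ⊗[R] C₀).toLinearMap
        γ₀.law) := rfl
  refine ⟨φ, ?_, ?_⟩
  · show PolLaw.postcomp φ.toLinearMap (bcGamma g hg γ₀).law = G.law
    rw [hbc, ← extLaw_postcomp, ← postcomp_comp_lin, hφι, hφ₀', extLaw_resLaw]
  · intro ψ hψ
    have hψ' : PolLaw.postcomp ψ.toLinearMap (bcGamma g hg γ₀).law = G.law := hψ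
    have h1 : (ψ.restrictScalars R).comp
        (Algebra.TensorProduct.includeRight : C₀ →ₐ[R] Q ⊗[R] C₀) = φ₀ := by
      apply hφ₀u
      show PolLaw.postcomp ((ψ.restrictScalars R).comp
        (Algebra.TensorProduct.includeRight : C₀ →ₐ[R] Q ⊗[R] C₀)).toLinearMap γ₀.law =
          resLaw g.toLinearMap G.law
      rw [← hψ', resLaw_postcomp, hbc, resLaw_extLaw, ← postcomp_comp_lin]
      rfl
    apply Algebra.TensorProduct.ext'
    intro q c
    have h2 : ψ ((1 : Q) ⊗ₜ[R] c) = φ₀ c := DFunLike.congr_fun h1 c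
    have h3 : q ⊗ₜ[R] c = q • ((1 : Q) ⊗ₜ[R] c) := by
      rw [TensorProduct.smul_tmul', smul_eq_mul, mul_one]
    rw [h3, map_smul, map_smul, h2]
    show q • φ₀ c = q • φ ((1 : Q) ⊗ₜ[R] c)
    rw [Algebra.TensorProduct.lift_tmul, map_one, one_mul]

end BC

end Groth.Agent.Lib.Helper6.ZC
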