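import Mathlib
import Groth.Prelude.Def_PolLaw
import Groth.Agent.Lib.Helper6.ZC.Coeff
import Groth.Agent.Lib.Helper6.ZC.DetNormal
import Groth.Agent.Lib.Helper6.PolyLawFam

/-!
# The divided power algebra of a quotient exists (helper6)

If `(CP, γP)` is a divided power algebra of `P` and `π : P → B` is surjective then
`B` has a divided power algebra, a quotient of `CP`.
-/

set_option autoImplicit false
set_option linter.unusedSectionVars false
set_option linter.unusedVariables false
set_option linter.unusedSimpArgs false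
set_option linter.style.haveILetI false
set_option maxHeartbeats 400000
universe u
open scoped TensorProduct

namespace Groth.Agent.Lib.Helper6.ZC



section Quot

variable {A : Type u} [CommRing A] {P B CP : Type u} [CommRing P] [Algebra A P] [CommRing B]
  [Algebra A B] [CommRing CP] [Algebra A CP] {d : ℕ}
  (γP : PolLaw.MulLaw A P CP d) (π : P →ₐ[A] B)

/-- The ideal of `Γ^d(P)` defining `Γ^d(B)`. -/
def quotJ : Ideal CP :=
  Ideal.span {c | ∃ (n : ℕ) (x x' : MvPolynomial (Fin n) A ⊗[A] P) (ν : Fin n →₀ ℕ),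
    π.toLinearMap.lTensor (MvPolynomial (Fin n) A) x =
      π.toLinearMap.lTensor (MvPolynomial (Fin n) A) x' ∧
    c = coeffN ν (γP.law.toFun' (MvPolynomial (Fin n) A) x -
      γP.law.toFun' (MvPolynomial (Fin n) A) x')}

/-- The quotient map. -/
noncomputable def qJ : CP →ₐ[A] CP ⧸ quotJ γP π := Ideal.Quotient.mkₐ A _

lemma qJ_surjective : Function.Surjective (qJ γP π) := Ideal.Quotient.mkₐ_surjective A _

lemma qJ_eq {n : ℕ} (x x' : MvPolynomial (Fin n) A ⊗[A] P)
    (h : π.toLinearMap.lTensor (MvPolynomial (Fin n) A) x =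
      π.toLinearMap.lTensor (MvPolynomial (Fin n) A) x') :
    (qJ γP π).toLinearMap.lTensor (MvPolynomial (Fin n) A)
        (γP.law.toFun' (MvPolynomial (Fin n) A) x) =
      (qJ γP π).toLinearMap.lTensor (MvPolynomial (Fin n) A)
        (γP.law.toFun' (MvPolynomial (Fin n) A) x') := by
  rw [← sub_eq_zero, ← map_sub]
  apply ext_coeffN
  intro ν
  rw [coeffN_lTensor, map_zero]
  exact Ideal.Quotient.eq_zero_iff_mem.mpr (Ideal.subset_span ⟨n, x, x', ν, h, rfl⟩)

variable (hπ : Function.Surjective π)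

/-- The family defining the law `B → CP / J`. -/
noncomputable def quotT (n : ℕ) (y : MvPolynomial (Fin n) A ⊗[A] B) :
    MvPolynomial (Fin n) A ⊗[A] (CP ⧸ quotJ γP π) :=
  (qJ γP π).toLinearMap.lTensor (MvPolynomial (Fin n) A)
    (γP.law.toFun' (MvPolynomial (Fin n) A)
      (LinearMap.lTensor_surjective (MvPolynomial (Fin n) A) (g := π.toLinearMap) hπ y).choose)

lemma quotT_eq (n : ℕ) (x : MvPolynomial (Fin n) A ⊗[A] P) :
    quotT γP π hπ n (π.toLinearMap.lTensor (MvPolynomial (Fin n) A) x) =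
      (qJ γP π).toLinearMap.lTensor (MvPolynomial (Fin n) A)
        (γP.law.toFun' (MvPolynomial (Fin n) A) x) :=
  qJ_eq γP π _ _ (LinearMap.lTensor_surjective (MvPolynomial (Fin n) A) (g := π.toLinearMap) hπ
    (π.toLinearMap.lTensor (MvPolynomial (Fin n) A) x)).choose_spec

lemma quotT_compat (n m : ℕ) (φ : MvPolynomial (Fin n) A →ₐ[A] MvPolynomial (Fin m) A) :
    φ.toLinearMap.rTensor (CP ⧸ quotJ γP π) ∘ quotT γP π hπ n =
      quotT γP π hπ m ∘ φ.toLinearMap.rTensor B := by
  funext y
  obtain ⟨x, rfl⟩ :=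
    LinearMap.lTensor_surjective (MvPolynomial (Fin n) A) (g := π.toLinearMap) hπ y
  simp only [Function.comp_apply]
  rw [quotT_eq, ← LinearMap.comp_apply, LinearMap.rTensor_comp_lTensor,
    ← LinearMap.lTensor_comp_rTensor, LinearMap.comp_apply, PolynomialLaw.isCompat_apply',
    ← quotT_eq γP π hπ, ← LinearMap.comp_apply, ← LinearMap.comp_apply,
    LinearMap.lTensor_comp_rTensor, LinearMap.rTensor_comp_lTensor]

lemma quotT_one (n : ℕ) : quotT γP π hπ n 1 = 1 := by
  have h1 : (1 : MvPolynomial (Fin n) A ⊗[A] B) =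
      π.toLinearMap.lTensor (MvPolynomial (Fin n) A) 1 := by
    rw [PolLaw.lTensor_algHom_apply, map_one]
  rw [h1, quotT_eq, (γP.mult _).1, PolLaw.lTensor_algHom_apply, map_one]

lemma quotT_mul (n : ℕ) (p q : MvPolynomial (Fin n) A ⊗[A] B) :
    quotT γP π hπ n (p * q) = quotT γP π hπ n p * quotT γP π hπ n q := by
  obtain ⟨x, rfl⟩ :=
    LinearMap.lTensor_surjective (MvPolynomial (Fin n) A) (g := π.toLinearMap) hπ p
  obtain ⟨x', rfl⟩ :=
    LinearMap.lTensor_surjective (MvPolynomial (Fin n) A) (g := π.toLinearMap) hπ q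
  have h1 : π.toLinearMap.lTensor (MvPolynomial (Fin n) A) x *
      π.toLinearMap.lTensor (MvPolynomial (Fin n) A) x' =
      π.toLinearMap.lTensor (MvPolynomial (Fin n) A) (x * x') := by
    rw [PolLaw.lTensor_algHom_apply, PolLaw.lTensor_algHom_apply, PolLaw.lTensor_algHom_apply,
      map_mul]
  rw [h1, quotT_eq, quotT_eq, quotT_eq, (γP.mult _).2, PolLaw.lTensor_algHom_apply,
    PolLaw.lTensor_algHom_apply, PolLaw.lTensor_algHom_apply, map_mul]

lemma lTensor_smul'' {M N : Type u} [AddCommGroup M] [Module A M] [AddCommGroup N] [Module A N]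
    (φ : M →ₗ[A] N) (S : Type u) [CommSemiring S] [Algebra A S] (p : S)
    (t : S ⊗[A] M) : φ.lTensor S (p • t) = p • φ.lTensor S t := by
  induction t using TensorProduct.induction_on with
  | zero => simp
  | tmul s n => rw [TensorProduct.smul_tmul', LinearMap.lTensor_tmul, LinearMap.lTensor_tmul,
      TensorProduct.smul_tmul']
  | add a b ha hb => simp only [smul_add, map_add, ha, hb]

lemma quotT_smul (n : ℕ) (s : MvPolynomial (Fin n) A) (p : MvPolynomial (Fin n) A ⊗[A] B) :
    quotT γP π hπ n (s • p) = s ^ d • quotT γP π hπ n p := by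
  obtain ⟨x, rfl⟩ :=
    LinearMap.lTensor_surjective (MvPolynomial (Fin n) A) (g := π.toLinearMap) hπ p
  rw [← lTensor_smul'', quotT_eq, quotT_eq, γP.homog _ s x, lTensor_smul'']

/-- The multiplicative law `B → CP / J`. -/
noncomputable def quotLaw : PolLaw.MulLaw A B (CP ⧸ quotJ γP π) d :=
  famMulLaw (quotT γP π hπ) (quotT_compat γP π hπ) (quotT_one γP π hπ) (quotT_mul γP π hπ)
    (quotT_smul γP π hπ)

lemma quotLaw_poly (n : ℕ) (x : MvPolynomial (Fin n) A ⊗[A] P) :
    (quotLaw γP π hπ).law.toFun' (MvPolynomial (Fin n) A)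
      (π.toLinearMap.lTensor (MvPolynomial (Fin n) A) x) =
      (qJ γP π).toLinearMap.lTensor (MvPolynomial (Fin n) A)
        (γP.law.toFun' (MvPolynomial (Fin n) A) x) := by
  unfold quotLaw
  rw [famMulLaw_poly, quotT_eq]

theorem quotLaw_precomp :
    ((quotLaw γP π hπ).precomp π).law = PolLaw.postcomp (qJ γP π).toLinearMap γP.law := by
  apply PolyLawFam.law_ext
  intro n
  funext x
  exact quotLaw_poly γP π hπ n x

theorem isGammaD_quotLaw (hγP : PolLaw.IsGammaD γP) : PolLaw.IsGammaD (quotLaw γP π hπ) := by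
  intro C' _ _ G
  obtain ⟨φ, hφ, hφu⟩ := hγP C' (G.precomp π)
  have hφ' : ∀ (n : ℕ) (x : MvPolynomial (Fin n) A ⊗[A] P),
      φ.toLinearMap.lTensor (MvPolynomial (Fin n) A) (γP.law.toFun' (MvPolynomial (Fin n) A) x) =
        G.law.toFun' (MvPolynomial (Fin n) A)
          (π.toLinearMap.lTensor (MvPolynomial (Fin n) A) x) := by
    intro n x
    have := congrArg (fun F : P →ₚₗ[A] C' => F.toFun' (MvPolynomial (Fin n) A) x) hφ
    exact this
  have hker : ∀ c ∈ quotJ γP π, φ c = 0 := by
    intro c hc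
    have : quotJ γP π ≤ RingHom.ker φ.toRingHom := by
      apply Ideal.span_le.mpr
      rintro c ⟨n, x, x', ν, h, rfl⟩
      show φ _ = 0
      have h2 : φ (coeffN ν (γP.law.toFun' (MvPolynomial (Fin n) A) x -
          γP.law.toFun' (MvPolynomial (Fin n) A) x')) =
          φ.toLinearMap (coeffN ν (γP.law.toFun' (MvPolynomial (Fin n) A) x -
          γP.law.toFun' (MvPolynomial (Fin n) A) x')) := rfl
      rw [h2, ← coeffN_lTensor, map_sub, hφ', hφ', h, sub_self, map_zero]
    exact this hc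
  let φbar : (CP ⧸ quotJ γP π) →ₐ[A] C' := Ideal.Quotient.liftₐ (quotJ γP π) φ hker
  have hφbar : φbar.comp (qJ γP π) = φ := by
    apply AlgHom.ext
    intro c
    rfl
  refine ⟨φbar, ?_, ?_⟩
  · apply PolyLawFam.law_ext
    intro n
    funext y
    obtain ⟨x, rfl⟩ :=
      LinearMap.lTensor_surjective (MvPolynomial (Fin n) A) (g := π.toLinearMap) hπ y
    show φbar.toLinearMap.lTensor (MvPolynomial (Fin n) A)
      ((quotLaw γP π hπ).law.toFun' (MvPolynomial (Fin n) A) _) = _
    rw [quotLaw_poly, ← LinearMap.comp_apply, ← LinearMap.lTensor_comp, ← AlgHom.comp_toLinearMap,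
      hφbar, hφ']
  · intro ψ hψ
    have h1 : ψ.comp (qJ γP π) = φ := by
      apply hφu
      show PolLaw.postcomp (ψ.comp (qJ γP π)).toLinearMap γP.law = (G.precomp π).law
      apply PolyLawFam.law_ext
      intro n
      funext x
      show (ψ.comp (qJ γP π)).toLinearMap.lTensor (MvPolynomial (Fin n) A)
        (γP.law.toFun' (MvPolynomial (Fin n) A) x) =
        G.law.toFun' (MvPolynomial (Fin n) A) (π.toLinearMap.lTensor (MvPolynomial (Fin n) A) x)
      rw [AlgHom.comp_toLinearMap, LinearMap.lTensor_comp, LinearMap.comp_apply, ← quotLaw_poly γP π hπ,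
        ← hψ]
      rfl
    apply AlgHom.ext
    intro c
    obtain ⟨c, rfl⟩ := qJ_surjective γP π c
    have := DFunLike.congr_fun h1 c
    rw [AlgHom.comp_apply] at this
    rw [this]
    rfl

include π hπ in
/-- A quotient of an algebra having a divided power algebra has one. -/
theorem exists_isGammaD_of_surjective (hγP : PolLaw.IsGammaD γP) :
    ∃ (C : Type u) (_ : CommRing C) (_ : Algebra A C) (γ : PolLaw.MulLaw A B C d),
      PolLaw.IsGammaD γ :=
  ⟨CP ⧸ quotJ γP π, inferInstance, inferInstance, quotLaw γP π hπ, isGammaD_quotLaw γP π hπ hγP⟩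

end Quot

end Groth.Agent.Lib.Helper6.ZC
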