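import Mathlib
import Groth.Prelude.Def_PolLaw
import Groth.Agent.Lib.Helper6.ZC.GQuot
import Groth.Agent.Lib.Helper6.ZC.GBC
import Groth.Agent.Lib.Helper6.ZC.GammaTS
import Groth.Agent.Lib.Helper6.ZC.FTBC

/-!
# Existence of the divided power algebra, and its finite presentation (helper6)
-/

set_option autoImplicit false
set_option linter.unusedSectionVars false
set_option linter.unusedVariables false
set_option linter.unusedSimpArgs false
set_option linter.style.haveILetI false
set_option maxHeartbeats 400000
universe u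
open scoped TensorProduct

namespace Groth.Agent.Lib.Helper6.ZC

/-- Every algebra has a divided power algebra of each degree. -/
theorem exists_isGammaD (A B : Type u) [CommRing A] [CommRing B] [Algebra A B] (d : ℕ) :
    ∃ (C : Type u) (_ : CommRing C) (_ : Algebra A C) (γ : PolLaw.MulLaw A B C d),
      PolLaw.IsGammaD γ := by
  obtain ⟨τ, -, hτ⟩ := exists_τ_isGammaD (A := A) (B := MvPolynomial B A) d (Or.inl inferInstance)
  exact exists_isGammaD_of_surjective τ (πB A B) (πB_surjective A B) hτ

theorem gammaD_finitePresentation {A B C : Type u} [CommRing A] [CommRing B] [Algebra A B]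
    [CommRing C] [Algebra A C] {d : ℕ} (γ : PolLaw.MulLaw A B C d) (hγ : PolLaw.IsGammaD γ)
    [Algebra.FinitePresentation A B] : Algebra.FinitePresentation A C := by
  let Pres := Algebra.Presentation.ofFinitePresentation A B
  haveI : IsNoetherianRing Pres.Core := Algebra.FiniteType.isNoetherianRing ℤ Pres.Core
  obtain ⟨C0, _, _, γ0, hγ0⟩ := exists_isGammaD Pres.Core (Pres.ModelOfHasCoeffs Pres.Core) d
  haveI : Algebra.FiniteType Pres.Core (Pres.ModelOfHasCoeffs Pres.Core) := inferInstance
  haveI : Algebra.FiniteType Pres.Core C0 := gammaD_finiteType γ0 hγ0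
  haveI : Algebra.FinitePresentation Pres.Core C0 :=
    Algebra.FinitePresentation.of_finiteType.mp inferInstance
  let e : A ⊗[Pres.Core] (Pres.ModelOfHasCoeffs Pres.Core) ≃ₐ[A] B :=
    Pres.tensorModelOfHasCoeffsEquiv Pres.Core
  let g : (Pres.ModelOfHasCoeffs Pres.Core) →ₐ[Pres.Core] B :=
    (e.toAlgHom.restrictScalars Pres.Core).comp Algebra.TensorProduct.includeRight
  have hg : IsBaseChange A g.toLinearMap :=
    IsBaseChange.of_equiv e.toLinearEquiv (fun x => rfl)
  have h := isGammaD_bcGamma g hg γ0 hγ0
  obtain ⟨ε⟩ := algEquiv_of_isGammaD (bcGamma g hg γ0) h γ hγ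
  haveI : Algebra.FinitePresentation A (A ⊗[Pres.Core] C0) := inferInstance
  exact Algebra.FinitePresentation.equiv ε

end Groth.Agent.Lib.Helper6.ZC
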