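import Mathlib
import Groth.Prelude.Def_PolLaw
import Groth.Prelude.Def_SymTen
import Groth.Agent.Lib.Helper6.ZC.GammaFlat

/-!
# Reducedness of the geometric fibres of `Γ^d(B)` (helper6)

The two lemmas on reducedness of tensor products over a field follow the argument of the lead's
file for S2536 (copied here so that this library is self-contained).
-/

set_option autoImplicit false
set_option linter.unusedSectionVars false
set_option linter.unusedVariables false
set_option linter.unusedSimpArgs false
set_option linter.style.haveILetI false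
set_option maxHeartbeats 400000
universe u
open scoped TensorProduct

namespace Groth.Agent.Lib.Helper6.ZC

section GR

/-- naturality of coordinates of the base-changed basis -/
theorem basis_repr_map' {k : Type*} [Field k] {A A' : Type*} [CommRing A] [Algebra k A]
    [CommRing A'] [Algebra k A'] {B : Type*} [CommRing B] [Algebra k B] {ι : Type*}
    (b : Module.Basis ι k B) (φ : A →ₐ[k] A') (x : A ⊗[k] B) (j : ι) :
    (Algebra.TensorProduct.basis A' b).repr (Algebra.TensorProduct.map φ (AlgHom.id k B) x) j
      = φ ((Algebra.TensorProduct.basis A b).repr x j) := by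
  induction x using TensorProduct.induction_on with
  | zero => simp
  | tmul a c =>
    simp [Algebra.TensorProduct.basis_repr_tmul]
  | add x y hx hy =>
    simp only [map_add, Finsupp.coe_add, Pi.add_apply, hx, hy]

theorem isReduced_tensor_of_jointly_injective' {k : Type*} [Field k] {A : Type*} [CommRing A]
    [Algebra k A] (B : Type*) [CommRing B] [Algebra k B]
    {ι : Type*} (A' : ι → Type*) [∀ i, CommRing (A' i)] [∀ i, Algebra k (A' i)]
    (φ : ∀ i, A →ₐ[k] A' i) (hφ : ∀ a : A, (∀ i, φ i a = 0) → a = 0)
    (h : ∀ i, IsReduced (A' i ⊗[k] B)) : IsReduced (A ⊗[k] B) := by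
  constructor
  intro x hx
  let b := Module.Free.chooseBasis k B
  have h0 : ∀ i, Algebra.TensorProduct.map (φ i) (AlgHom.id k B) x = 0 := fun i =>
    (h i).eq_zero _ (hx.map _)
  apply (Algebra.TensorProduct.basis A b).repr.injective
  ext j
  simp only [map_zero, Finsupp.coe_zero, Pi.zero_apply]
  apply hφ
  intro i
  rw [← basis_repr_map' b (φ i) x j, h0 i]
  simp

theorem isReduced_tensor_of_residueFields' {k : Type*} [Field k] (A : Type*) [CommRing A]
    [Algebra k A] [IsReduced A] (B : Type*) [CommRing B] [Algebra k B]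
    (h : ∀ p : PrimeSpectrum A, IsReduced (p.asIdeal.ResidueField ⊗[k] B)) :
    IsReduced (A ⊗[k] B) := by
  refine isReduced_tensor_of_jointly_injective' B
    (fun p : PrimeSpectrum A => p.asIdeal.ResidueField)
    (fun p => IsScalarTower.toAlgHom k A p.asIdeal.ResidueField) ?_ h
  intro a ha
  have h1 : IsNilpotent a := by
    rw [nilpotent_iff_mem_prime]
    intro J hJ
    have := ha ⟨J, hJ⟩
    rwa [IsScalarTower.coe_toAlgHom', Ideal.algebraMap_residueField_eq_zero] at this
  exact h1.eq_zero

end GR

section SplitAlg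

variable (A : Type u) [CommRing A] (B : Type u) [CommRing B] [Algebra A B] (d : ℕ)

lemma splitT_one : splitT A B d (1 : Tp A B (d + 1)) = 1 := by
  rw [PiTensorProduct.one_def, splitT_tprod, Algebra.TensorProduct.one_def,
    PiTensorProduct.one_def]
  rfl

lemma splitT_mul (x y : Tp A B (d + 1)) :
    splitT A B d (x * y) = splitT A B d x * splitT A B d y := by
  induction x using PiTensorProduct.induction_on with
  | smul_tprod r f =>
    induction y using PiTensorProduct.induction_on with
    | smul_tprod s g =>
      rw [smul_mul_smul_comm, PiTensorProduct.tprod_mul_tprod, map_smul, map_smul, map_smul,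
        splitT_tprod, splitT_tprod, splitT_tprod, smul_mul_smul_comm,
        Algebra.TensorProduct.tmul_mul_tmul, PiTensorProduct.tprod_mul_tprod]
      rfl
    | add y y' hy hy' => rw [mul_add, map_add, hy, hy', map_add, mul_add]
  | add x x' hx hx' => rw [add_mul, map_add, hx, hx', map_add, add_mul]

/-- `T^{d+1}(B) ≃ T^d(B) ⊗ B` as algebras. -/
noncomputable def splitTalg : Tp A B (d + 1) ≃ₐ[A] Tp A B d ⊗[A] B :=
  AlgEquiv.ofLinearEquiv (splitT A B d) (splitT_one A B d) (splitT_mul A B d)

lemma algebraMap_Tp_zero_bijective : Function.Bijective (algebraMap A (Tp A B 0)) := by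
  have h : ∀ a : A, algebraMap A (Tp A B 0) a =
      (PiTensorProduct.isEmptyEquiv (R := A) (s := fun _ : Fin 0 => B) (Fin 0)).symm a := by
    intro a
    rw [Algebra.algebraMap_eq_smul_one, PiTensorProduct.isEmptyEquiv_symm_apply,
      PiTensorProduct.one_def]
    congr 2
    funext i
    exact i.elim0
  have h2 : (algebraMap A (Tp A B 0) : A → Tp A B 0) =
      (PiTensorProduct.isEmptyEquiv (R := A) (s := fun _ : Fin 0 => B) (Fin 0)).symm := funext h
  rw [h2]
  exact LinearEquiv.bijective _

end SplitAlg

section Red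

variable {A : Type u} [CommRing A] {B : Type u} [CommRing B] [Algebra A B]
  (hred : ∀ (K : Type u) [Field K] [Algebra A K], IsReduced (K ⊗[A] B))
  (K : Type u) [Field K] [Algebra A K]

include hred in
lemma isReduced_K_Tp (d : ℕ) : IsReduced (K ⊗[A] Tp A B d) := by
  induction d with
  | zero =>
    let e0 : A ≃ₐ[A] Tp A B 0 := AlgEquiv.ofBijective (Algebra.ofId A _)
      (algebraMap_Tp_zero_bijective A B)
    let e1 : K ⊗[A] Tp A B 0 ≃ₐ[K] K ⊗[A] A :=
      Algebra.TensorProduct.congr (AlgEquiv.refl (R := K) (A₁ := K)) e0.symm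
    let e2 : K ⊗[A] A ≃ₐ[K] K := Algebra.TensorProduct.rid A K K
    exact isReduced_of_injective (e1.trans e2).toRingEquiv.toRingHom (e1.trans e2).injective
  | succ d ih =>
    haveI := ih
    haveI : IsReduced ((K ⊗[A] Tp A B d) ⊗[K] (K ⊗[A] B)) := by
      apply isReduced_tensor_of_residueFields'
      intro p
      letI : Algebra A p.asIdeal.ResidueField :=
        Algebra.compHom _ (algebraMap A K)
      haveI : IsScalarTower A K p.asIdeal.ResidueField :=
        IsScalarTower.of_algebraMap_eq fun _ => rfl
      haveI := hred p.asIdeal.ResidueField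
      let e := Algebra.TensorProduct.cancelBaseChange A K p.asIdeal.ResidueField
        p.asIdeal.ResidueField B
      exact isReduced_of_injective e.toRingEquiv.toRingHom e.injective
    let e1 : K ⊗[A] Tp A B (d + 1) ≃ₐ[K] K ⊗[A] (Tp A B d ⊗[A] B) :=
      Algebra.TensorProduct.congr (AlgEquiv.refl (R := K) (A₁ := K)) (splitTalg A B d)
    let e2 : (K ⊗[A] Tp A B d) ⊗[A] B ≃ₐ[K] K ⊗[A] (Tp A B d ⊗[A] B) :=
      Algebra.TensorProduct.assoc A A K K (Tp A B d) B
    let e3 : (K ⊗[A] Tp A B d) ⊗[K] (K ⊗[A] B) ≃ₐ[K] (K ⊗[A] Tp A B d) ⊗[A] B :=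
      Algebra.TensorProduct.cancelBaseChange A K K (K ⊗[A] Tp A B d) B
    let e := e1.trans (e2.symm.trans e3.symm)
    exact isReduced_of_injective e.toRingEquiv.toRingHom e.injective

variable [Module.Flat A B] {C : Type u} [CommRing C] [Algebra A C] {d : ℕ}

include hred in
/-- The geometric fibres of `Γ^d(B)` are reduced when those of the flat algebra `B` are. -/
theorem gammaD_fibre_isReduced (γ : PolLaw.MulLaw A B C d) (hγ : PolLaw.IsGammaD γ) :
    IsReduced (K ⊗[A] C) := by
  obtain ⟨τ, -, hτ⟩ := exists_τ_isGammaD (A := A) (B := B) d (Or.inl inferInstance)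
  obtain ⟨e⟩ := algEquiv_of_isGammaD γ hγ τ hτ
  haveI := isReduced_K_Tp hred K d
  let ψ : K ⊗[A] C →ₐ[K] K ⊗[A] Tp A B d :=
    Algebra.TensorProduct.map (AlgHom.id K K) ((SymTen.TS A B d).val.comp e.toAlgHom)
  refine isReduced_of_injective ψ.toRingHom ?_
  have h1 : ∀ x, ψ x = (SymTen.TS A B d).val.toLinearMap.lTensor K
      (e.toLinearEquiv.toLinearMap.lTensor K x) := by
    intro x
    induction x using TensorProduct.induction_on with
    | zero => simp
    | tmul k c => rfl
    | add a b ha hb => simp only [map_add, ha, hb]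
  intro x y hxy
  have hxy' : ψ x = ψ y := hxy
  rw [h1, h1] at hxy'
  have h2 := lTensor_val_injective_of_flat_mod (A := A) (B := B) d K hxy'
  exact (LinearEquiv.lTensor K e.toLinearEquiv).injective h2

end Red

end Groth.Agent.Lib.Helper6.ZC
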