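import Mathlib
import Groth.Prelude.Def_PolLaw
import Groth.Agent.Lib.Helper6.ZC.Domain

/-!
# The relative image over a domain is torsion free (helper6)
-/

set_option autoImplicit false
set_option linter.unusedSectionVars false
set_option linter.unusedVariables false
set_option linter.unusedSimpArgs false
set_option linter.style.haveILetI false
set_option maxHeartbeats 400000
universe u
open scoped TensorProduct

namespace Groth.Agent.Lib.Helper6.ZC

section RelTF

variable {A : Type u} [CommRing A] {B : Type u} [CommRing B] [Algebra A B]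
variable (F : B →ₚₗ[A] A)
variable (D : Type u) [CommRing D] [IsDomain D] [Algebra A D]

/-- The inclusion of a domain in its fraction field, as an `A`-algebra map. -/
noncomputable def jFrac : D →ₐ[A] FractionRing D := IsScalarTower.toAlgHom A D (FractionRing D)

lemma jFrac_injective : Function.Injective (jFrac (A := A) D) :=
  IsFractionRing.injective D (FractionRing D)

variable {D}

/-- Membership in the relative kernel over a domain can be tested over the fraction field. -/
theorem inKer_of_inKer_fractionRing {z : D ⊗[A] B}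
    (h : InKer F (FractionRing D) (bc B (jFrac D) z)) : InKer F D z := by
  intro S _ _ φ p w
  obtain ⟨n, ψA, p₀, w₀, rfl, rfl⟩ := exists_lift_pair (R := A) p w
  -- the torsion free test algebra
  let S₀ := D ⊗[A] MvPolynomial (Fin n) A
  let S₁ := FractionRing D ⊗[A] MvPolynomial (Fin n) A
  let ψ : D ⊗[A] MvPolynomial (Fin n) A →ₐ[A] S := Algebra.TensorProduct.productMap φ ψA
  let inL : D →ₐ[A] D ⊗[A] MvPolynomial (Fin n) A := Algebra.TensorProduct.includeLeft
  let inR : MvPolynomial (Fin n) A →ₐ[A] D ⊗[A] MvPolynomial (Fin n) A :=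
    Algebra.TensorProduct.includeRight
  let inL' : FractionRing D →ₐ[A] FractionRing D ⊗[A] MvPolynomial (Fin n) A :=
    Algebra.TensorProduct.includeLeft
  let ι : D ⊗[A] MvPolynomial (Fin n) A →ₐ[A] FractionRing D ⊗[A] MvPolynomial (Fin n) A :=
    Algebra.TensorProduct.map (jFrac D) (AlgHom.id A _)
  have hι : Function.Injective ι := by
    have h1 : (ι : D ⊗[A] MvPolynomial (Fin n) A → FractionRing D ⊗[A] MvPolynomial (Fin n) A) =
        (jFrac (A := A) D).toLinearMap.rTensor (MvPolynomial (Fin n) A) := by
      funext x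
      induction x using TensorProduct.induction_on with
      | zero => simp
      | tmul a b => rfl
      | add a b ha hb => rw [map_add, map_add, ha, hb]
    rw [h1]
    exact Module.Flat.rTensor_preserves_injective_linearMap _ (jFrac_injective (A := A) D)
  have hψL : ψ.comp inL = φ := by
    apply AlgHom.ext
    intro x
    simp [ψ, inL]
  have hψR : ψ.comp inR = ψA := by
    apply AlgHom.ext
    intro x
    simp [ψ, inR]
  have hιL : ι.comp inL = inL'.comp (jFrac D) := by
    apply AlgHom.ext
    intro x
    simp [ι, inL, inL']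
  -- rewrite everything as the image of an element over `S₀`
  have e1 : ψA.toLinearMap.rTensor B p₀ = bc B ψ (bc B inR p₀) := by
    rw [bc_comp, hψR, rTensor_eq_map]
  have e2 : ψA.toLinearMap.rTensor B w₀ = bc B ψ (bc B inR w₀) := by
    rw [bc_comp, hψR, rTensor_eq_map]
  have e3 : bc B φ z = bc B ψ (bc B inL z) := by
    rw [bc_comp, hψL]
  rw [e1, e2, e3, ← map_mul, ← map_add, ← Fh_eq_iff, ← Fh_natural, ← Fh_natural]
  congr 1
  apply hι
  rw [Fh_natural, Fh_natural]
  show Fh F _ (bc B ι (bc B inR p₀ + bc B inR w₀ * bc B inL z)) = Fh F _ (bc B ι (bc B inR p₀))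
  rw [map_add, map_mul, bc_comp B ι inL, hιL, ← bc_comp]
  exact (Fh_eq_iff _ _ _ _).mpr (h _ inL' _ _)

/-- Torsion freeness of the relative image over a domain. -/
theorem inKer_of_tmul_one_mul {δ : D} (hδ : δ ≠ 0) {z : D ⊗[A] B}
    (h : InKer F D ((δ ⊗ₜ[A] (1 : B)) * z)) : InKer F D z := by
  apply inKer_of_inKer_fractionRing
  have h1 := (h.map (jFrac D)).mul_left
    ((((jFrac (A := A) D) δ)⁻¹ : FractionRing D) ⊗ₜ[A] (1 : B))
  have h2 : ((((jFrac (A := A) D) δ)⁻¹ : FractionRing D) ⊗ₜ[A] (1 : B)) *
      bc B (jFrac D) ((δ ⊗ₜ[A] (1 : B)) * z) = bc B (jFrac D) z := by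
    rw [map_mul, bc_tmul, ← mul_assoc, Algebra.TensorProduct.tmul_mul_tmul, mul_one,
      inv_mul_cancel₀, ← Algebra.TensorProduct.one_def, one_mul]
    exact (map_ne_zero_iff _ (jFrac_injective (A := A) D)).mpr hδ
  rw [h2] at h1
  exact h1

end RelTF

end Groth.Agent.Lib.Helper6.ZC
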