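import Mathlib
import Groth.Prelude.Def_PolLaw
import Groth.Agent.Lib.Helper6.ZC.RelTF

/-!
# The image of a family of zero cycles is universally generizing over the base (helper6)
-/

set_option autoImplicit false
set_option linter.unusedSectionVars false
set_option linter.unusedVariables false
set_option linter.unusedSimpArgs false
set_option linter.style.haveILetI false
set_option maxHeartbeats 400000
universe u
open scoped TensorProduct

namespace Groth.Agent.Lib.Helper6.ZC

section NZD

variable {A : Type u} [CommRing A] {B : Type u} [CommRing B] [Algebra A B] {d : ℕ}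
variable (F : PolLaw.MulLaw A B A d)
variable (D : Type u) [CommRing D] [IsDomain D] [Algebra A D]

lemma hT_mem_nonZeroDivisors {δ : D} (hδ : δ ≠ 0) : hT F D δ ∈ nonZeroDivisors (RT F D) := by
  rw [mem_nonZeroDivisors_iff_right]
  intro r hr
  obtain ⟨z, rfl⟩ := Ideal.Quotient.mk_surjective r
  rw [hT_apply, ← map_mul, Ideal.Quotient.eq_zero_iff_mem] at hr
  rw [Ideal.Quotient.eq_zero_iff_mem]
  rw [mul_comm] at hr
  exact inKer_of_tmul_one_mul F.law hδ hr

lemma hT_notMem_of_mem_minimalPrimes {P : Ideal (RT F D)} (hP : P ∈ minimalPrimes (RT F D))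
    {δ : D} (hδ : δ ≠ 0) : hT F D δ ∉ P := fun h =>
  Set.disjoint_left.mp (Ideal.disjoint_nonZeroDivisors_of_mem_minimalPrimes hP) h
    (hT_mem_nonZeroDivisors F D hδ)

end NZD

section GoingDown

variable {A : Type u} [CommRing A] {B : Type u} [CommRing B] [Algebra A B] {d : ℕ}
variable (F : PolLaw.MulLaw A B A d)
variable (A' : Type u) [CommRing A'] [Algebra A A']

/-- The map `A' ⊗ R → (A'/p) ⊗ R`. -/
noncomputable def rhoP (p : Ideal A') :
    A' ⊗[A] PolLaw.image F.law →ₐ[A] (A' ⧸ p) ⊗[A] PolLaw.image F.law :=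
  Algebra.TensorProduct.map (Ideal.Quotient.mkₐ A p) (AlgHom.id A (PolLaw.image F.law))

lemma rhoP_surjective (p : Ideal A') : Function.Surjective (rhoP F A' p) :=
  Algebra.TensorProduct.map_surjective _ _ (Ideal.Quotient.mkₐ_surjective A p)
    Function.surjective_id

lemma ker_rhoP (p : Ideal A') : RingHom.ker (rhoP F A' p) =
    p.map (Algebra.TensorProduct.includeLeft : A' →ₐ[A] A' ⊗[A] PolLaw.image F.law) := by
  rw [rhoP, Algebra.TensorProduct.rTensor_ker _ (Ideal.Quotient.mkₐ_surjective A p)]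
  congr 1
  exact Ideal.Quotient.mkₐ_ker A p

/-- The map `A' ⊗ R → ((A'/p) ⊗ B) ⧸ relKer`. -/
noncomputable def PsiP (p : Ideal A') : A' ⊗[A] PolLaw.image F.law →ₐ[A] RT F (A' ⧸ p) :=
  (fT F (A' ⧸ p)).comp (rhoP F A' p)

lemma PsiP_surjective (p : Ideal A') : Function.Surjective (PsiP F A' p) :=
  (fT_surjective F (A' ⧸ p)).comp (rhoP_surjective F A' p)

lemma PsiP_algebraMap (p : Ideal A') (a' : A') :
    PsiP F A' p (algebraMap A' (A' ⊗[A] PolLaw.image F.law) a') =
      hT F (A' ⧸ p) (Ideal.Quotient.mk p a') := by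
  rw [Algebra.TensorProduct.algebraMap_apply, PsiP, AlgHom.comp_apply, rhoP,
    Algebra.TensorProduct.map_tmul, fT, Algebra.TensorProduct.productMap_apply_tmul,
    AlgHom.id_apply, map_one, mul_one]
  rfl

lemma ker_PsiP_le (p : Ideal A') (Q : Ideal (A' ⊗[A] PolLaw.image F.law)) [Q.IsPrime]
    (hpQ : p ≤ Q.under A') : RingHom.ker (PsiP F A' p) ≤ Q := by
  intro z hz
  rw [RingHom.mem_ker, PsiP, AlgHom.comp_apply] at hz
  obtain ⟨n, hn⟩ := fT_nil F (A' ⧸ p) _ hz
  rw [← map_pow] at hn
  have h1 : z ^ n ∈ RingHom.ker (rhoP F A' p) := hn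
  rw [ker_rhoP] at h1
  have h2 : p.map (Algebra.TensorProduct.includeLeft :
      A' →ₐ[A] A' ⊗[A] PolLaw.image F.law) ≤ Q := by
    rw [Ideal.map_le_iff_le_comap]
    exact hpQ
  exact Ideal.IsPrime.mem_of_pow_mem inferInstance n (h2 h1)

instance hasGoingDown_image : Algebra.HasGoingDown A' (A' ⊗[A] PolLaw.image F.law) where
  exists_ideal_le_liesOver_of_lt {p} _ Q _ hlt := by
    haveI : IsDomain (A' ⧸ p) := Ideal.Quotient.isDomain p
    have hker := ker_PsiP_le F A' p Q hlt.le
    have hQD : (Q.map (PsiP F A' p)).IsPrime :=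
      Ideal.map_isPrime_of_surjective (PsiP_surjective F A' p) hker
    have hcomapQ : (Q.map (PsiP F A' p)).comap (PsiP F A' p) = Q := by
      rw [Ideal.comap_map_of_surjective _ (PsiP_surjective F A' p)]
      exact sup_eq_left.mpr hker
    obtain ⟨PD, hPD, hPDle⟩ := Ideal.exists_minimalPrimes_le
      (I := (⊥ : Ideal (RT F (A' ⧸ p)))) (J := Q.map (PsiP F A' p)) bot_le
    haveI : PD.IsPrime := hPD.1.1
    refine ⟨PD.comap (PsiP F A' p), ?_, Ideal.comap_isPrime _ _, ⟨?_⟩⟩
    · rw [← hcomapQ]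
      exact Ideal.comap_mono hPDle
    · ext a'
      rw [Ideal.under_def, Ideal.mem_comap, Ideal.mem_comap, PsiP_algebraMap]
      constructor
      · intro ha
        rw [Ideal.Quotient.eq_zero_iff_mem.mpr ha, map_zero]
        exact PD.zero_mem
      · intro ha
        by_contra hne
        have hδ : Ideal.Quotient.mk p a' ≠ 0 := fun h0 => hne (Ideal.Quotient.eq_zero_iff_mem.mp h0)
        exact hT_notMem_of_mem_minimalPrimes F (A' ⧸ p) hPD hδ ha

/-- `S13704`. -/
theorem generalizingMap_comap_image :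
    GeneralizingMap (PrimeSpectrum.comap (algebraMap A' (A' ⊗[A] PolLaw.image F.law))) :=
  Algebra.HasGoingDown.iff_generalizingMap_primeSpectrumComap.mp (hasGoingDown_image F A')

end GoingDown

end Groth.Agent.Lib.Helper6.ZC
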