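import Mathlib
import Groth.Prelude.Def_PolLaw
import Groth.Agent.Lib.Helper6.ZC.Ker

/-!
# The kernel of a push-forward law (helper6)
-/

set_option autoImplicit false
set_option linter.unusedSectionVars false
set_option linter.unusedVariables false
set_option linter.unusedSimpArgs false
set_option linter.style.haveILetI false
set_option maxHeartbeats 400000
universe u
open scoped TensorProduct
open Polynomial

namespace Groth.Agent.Lib.Helper6.ZC

section Precomp

variable {A : Type u} [CommRing A] {B : Type u} [CommRing B] [Algebra A B]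
  {B' : Type u} [CommRing B'] [Algebra A B'] {d : ℕ}
variable (F : PolLaw.MulLaw A B A d) (φ : B' →ₐ[A] B)

lemma precomp_toFun'_semi (S : Type u) [CommSemiring S] [Algebra A S] (z : S ⊗[A] B') :
    (F.precomp φ).law.toFun' S z =
      F.law.toFun' S (Algebra.TensorProduct.map (AlgHom.id S S) φ z) := by
  show F.law.toFun' S (φ.toLinearMap.lTensor S z) = _
  rw [PolLaw.lTensor_algHom_apply]

lemma comap_ker_le_ker_precomp :
    (PolLaw.ker F.law).comap φ ≤ PolLaw.ker (F.precomp φ).law := by
  intro b' hb' S _ _ x w
  rw [precomp_toFun'_semi, precomp_toFun'_semi, map_add, map_mul,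
    Algebra.TensorProduct.map_tmul, map_one]
  exact hb' S _ _

lemma chiA_precomp (b' : B') : chiA (F.precomp φ) b' = chiA F (φ b') := by
  rw [chiA, chiA, Fh, Fh, precomp_toFun'_semi, map_sub, Algebra.TensorProduct.map_tmul,
    Algebra.TensorProduct.map_tmul, map_one, map_one, AlgHom.id_apply]

theorem radical_ker_precomp :
    (PolLaw.ker (F.precomp φ).law).radical = ((PolLaw.ker F.law).comap φ).radical := by
  apply le_antisymm
  · rw [Ideal.radical_le_radical_iff]
    intro b' hb'
    refine ⟨d, ?_⟩
    have h1 := chiA_of_mem_ker (F.precomp φ) b' hb'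
    rw [chiA_precomp] at h1
    have h2 := aeval_chiA_mem_ker F (φ b')
    rw [h1, map_pow, map_neg, Polynomial.aeval_X] at h2
    rw [Ideal.mem_comap, map_pow]
    have h3 : (φ b') ^ d = (-1) ^ d * (-(φ b')) ^ d := by
      rw [← mul_pow]; simp
    rw [h3]
    exact Ideal.mul_mem_left _ _ h2
  · exact Ideal.radical_mono (comap_ker_le_ker_precomp F φ)

end Precomp

end Groth.Agent.Lib.Helper6.ZC
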