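import Mathlib

/-!
# A splitting ring with a retraction (helper6)

For a monic polynomial `g` over a commutative ring `A` there is a commutative `A`-algebra `Ω` with
an `A`-linear retraction `Ω → A` in which `g` is a product of linear factors.  When `g` is separable
the differences of the roots are units and the Vandermonde matrix of the roots is invertible.
-/

set_option autoImplicit false
set_option linter.unusedSectionVars false
set_option linter.unusedVariables false
set_option linter.unusedSimpArgs false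
set_option linter.style.haveILetI false
set_option maxHeartbeats 400000
universe u
open Polynomial

namespace Groth.Agent.Lib.Helper6.ZC

theorem exists_splitting_ring : ∀ (n : ℕ) (A : Type u) [CommRing A] (g : Polynomial A),
    g.Monic → g.natDegree = n →
    ∃ (Ω : Type u) (_ : CommRing Ω) (_ : Algebra A Ω) (r : Ω →ₗ[A] A) (x : Fin n → Ω),
      r 1 = 1 ∧ g.map (algebraMap A Ω) = ∏ i, (X - C (x i)) := by
  intro n
  induction n with
  | zero =>
    intro A _ g hg hdeg
    refine ⟨A, inferInstance, inferInstance, LinearMap.id, Fin.elim0, rfl, ?_⟩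
    have h1 : g = 1 := hg.natDegree_eq_zero.mp hdeg
    rw [h1]
    simp
  | succ n ih =>
    intro A _ g hg hdeg
    let Ω₁ := AdjoinRoot g
    let x₁ : Ω₁ := AdjoinRoot.root g
    let g₁ : Polynomial Ω₁ := (g.map (algebraMap A Ω₁)) /ₘ (X - C x₁)
    have hdim : 0 < (AdjoinRoot.powerBasis' hg).dim := by
      rw [AdjoinRoot.powerBasis'_dim, hdeg]
      exact Nat.succ_pos n
    let r₁ : Ω₁ →ₗ[A] A := (AdjoinRoot.powerBasis' hg).basis.coord ⟨0, hdim⟩
    have hr₁ : r₁ 1 = 1 := by
      have h3 : (1 : Ω₁) = (AdjoinRoot.powerBasis' hg).basis ⟨0, hdim⟩ := by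
        rw [PowerBasis.basis_eq_pow]
        simp
      show (AdjoinRoot.powerBasis' hg).basis.coord ⟨0, hdim⟩ 1 = 1
      rw [h3, Module.Basis.coord_apply, Module.Basis.repr_self, Finsupp.single_eq_same]
    haveI : Nontrivial A := by
      by_contra hA
      rw [not_nontrivial_iff_subsingleton] at hA
      have : g = 0 := Subsingleton.elim _ _
      rw [this, natDegree_zero] at hdeg
      exact absurd hdeg (Nat.succ_ne_zero n).symm
    haveI : Nontrivial Ω₁ := by
      by_contra hΩ
      rw [not_nontrivial_iff_subsingleton] at hΩ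
      have h5 : (1 : Ω₁) = 0 := Subsingleton.elim _ _
      rw [h5, map_zero] at hr₁
      exact zero_ne_one hr₁
    have hroot : (g.map (algebraMap A Ω₁)).IsRoot x₁ := AdjoinRoot.isRoot_root g
    have hfac : (X - C x₁) * g₁ = g.map (algebraMap A Ω₁) :=
      mul_divByMonic_eq_iff_isRoot.mpr hroot
    have hgm : (g.map (algebraMap A Ω₁)).Monic := hg.map _
    have hg₁ : g₁.Monic := by
      apply Monic.of_mul_monic_left (monic_X_sub_C x₁)
      rw [hfac]
      exact hgm
    have hdeg₁ : g₁.natDegree = n := by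
      have h2 := Monic.natDegree_mul (monic_X_sub_C x₁) hg₁
      rw [hfac, hg.natDegree_map (algebraMap A Ω₁), hdeg, natDegree_X_sub_C] at h2
      omega
    obtain ⟨Ω, instΩ, instAlg, r', x', hr', hx'⟩ := ih Ω₁ g₁ hg₁ hdeg₁
    letI : Algebra A Ω := ((algebraMap Ω₁ Ω).comp (algebraMap A Ω₁)).toAlgebra
    haveI : IsScalarTower A Ω₁ Ω := IsScalarTower.of_algebraMap_eq (fun _ => rfl)
    refine ⟨Ω, instΩ, inferInstance, r₁ ∘ₗ (r'.restrictScalars A),
      Fin.cons (algebraMap Ω₁ Ω x₁) x', ?_, ?_⟩
    · rw [LinearMap.comp_apply, LinearMap.restrictScalars_apply, hr', hr₁]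
    · have h4 : g.map (algebraMap A Ω) = (g.map (algebraMap A Ω₁)).map (algebraMap Ω₁ Ω) := by
        rw [Polynomial.map_map]
        rfl
      rw [h4, ← hfac, Polynomial.map_mul, hx', Fin.prod_univ_succ]
      simp

lemma isUnit_sub_of_separable {Ω : Type*} [CommRing Ω] {n : ℕ} (x : Fin n → Ω)
    (hsep : (∏ i, (X - C (x i)) : Polynomial Ω).Separable) {i j : Fin n} (hij : i ≠ j) :
    IsUnit (x i - x j) := by
  classical
  have hdvd : (X - C (x i)) * (X - C (x j)) ∣ ∏ k, (X - C (x k)) := by
    rw [← Finset.mul_prod_erase Finset.univ _ (Finset.mem_univ i),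
      ← Finset.mul_prod_erase (Finset.univ.erase i) _
        (Finset.mem_erase.mpr ⟨hij.symm, Finset.mem_univ j⟩), ← mul_assoc]
    exact Dvd.intro _ rfl
  obtain ⟨a, b, hab⟩ := (hsep.of_dvd hdvd).isCoprime
  have h2 := congrArg (eval (x i)) hab
  simp only [eval_add, eval_mul, eval_sub, eval_X, eval_C, sub_self, mul_zero, zero_add,
    eval_one] at h2
  exact IsUnit.of_mul_eq_one_right _ h2

lemma isUnit_vandermonde_det {Ω : Type*} [CommRing Ω] {n : ℕ} (x : Fin n → Ω)
    (h : ∀ i j, i ≠ j → IsUnit (x i - x j)) : IsUnit (Matrix.vandermonde x).det := by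
  rw [Matrix.det_vandermonde, IsUnit.prod_iff]
  intro i _
  rw [IsUnit.prod_iff]
  intro j hj
  exact h j i (ne_of_gt (Finset.mem_Ioi.mp hj))

lemma mem_of_vandermonde {Ω U : Type*} [CommRing Ω] [AddCommGroup U] [Module Ω U] {n : ℕ}
    (x : Fin n → Ω) (hV : IsUnit (Matrix.vandermonde x).det) (N : Submodule Ω U) (u : Fin n → U)
    (h : ∀ k, ∑ i : Fin n, x k ^ (i : ℕ) • u i ∈ N) (i : Fin n) : u i ∈ N := by
  classical
  have hWV := Matrix.nonsing_inv_mul (Matrix.vandermonde x) hV
  have h1 : u i = ∑ k, (Matrix.vandermonde x)⁻¹ i k • ∑ j : Fin n, x k ^ (j : ℕ) • u j := by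
    simp_rw [Finset.smul_sum, smul_smul]
    rw [Finset.sum_comm]
    have h2 : ∀ j : Fin n, ∑ k, ((Matrix.vandermonde x)⁻¹ i k * x k ^ (j : ℕ)) • u j =
        ((1 : Matrix (Fin n) (Fin n) Ω) i j) • u j := by
      intro j
      rw [← Finset.sum_smul, ← hWV, Matrix.mul_apply]
      simp [Matrix.vandermonde_apply]
    simp_rw [h2, Matrix.one_apply]
    simp
  rw [h1]
  exact Submodule.sum_mem _ fun k _ => Submodule.smul_mem _ _ (h k)

end Groth.Agent.Lib.Helper6.ZC
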