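import Mathlib
import Groth.Prelude.Def_PolLaw
import Groth.Prelude.Def_PolLaw2
import Groth.Agent.Lib.Helper6.ZC.PolyBC
import Groth.Agent.Lib.Helper6.ZC.BCRad
import Groth.Agent.Lib.Helper6.ZC.SplitRing

/-!
# The kernel of a polynomial law commutes with adjoining a root of a monic separable polynomial
(helper6)
-/

set_option autoImplicit false
set_option linter.unusedSectionVars false
set_option linter.unusedVariables false
set_option linter.unusedSimpArgs false
set_option linter.style.haveILetI false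
set_option maxHeartbeats 400000
universe u
open scoped TensorProduct
open Polynomial

namespace Groth.Agent.Lib.Helper6.ZC

section Descent

variable {A : Type u} [CommRing A] {B : Type u} [CommRing B] [Algebra A B]
  {C : Type u} [CommRing C] [Algebra A C] (F : B →ₚₗ[A] C)

/-- Descent of kernel membership along an algebra with a linear retraction. -/
theorem mem_ker_of_inKer_retraction (Ω : Type u) [CommRing Ω] [Algebra A Ω] (r : Ω →ₗ[A] A)
    (hr : r 1 = 1) (b : B) (hb : InKer F Ω ((1 : Ω) ⊗ₜ[A] b)) : b ∈ PolLaw.ker F := by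
  apply mem_ker_of_commRing
  intro S _ _ x w
  let R := Ω ⊗[A] S
  let φ : Ω →ₐ[A] R := Algebra.TensorProduct.includeLeft
  let ι : S →ₐ[A] R := Algebra.TensorProduct.includeRight
  have h1 := hb R φ (bc B ι x) (bc B ι w)
  rw [bc_tmul, map_one] at h1
  have h2 : bc B ι (x + w * ((1 : S) ⊗ₜ[A] b)) = bc B ι x + bc B ι w * ((1 : R) ⊗ₜ[A] b) := by
    rw [map_add, map_mul, bc_tmul, map_one]
  have h3 := F.isCompat_apply' ι (x + w * ((1 : S) ⊗ₜ[A] b))
  have h4 := F.isCompat_apply' ι x
  let ρ : R →ₗ[A] S := (TensorProduct.lid A S).toLinearMap ∘ₗ r.rTensor S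
  have hρ : ρ ∘ₗ ι.toLinearMap = LinearMap.id := by
    apply LinearMap.ext
    intro s
    show (TensorProduct.lid A S) (r.rTensor S ((1 : Ω) ⊗ₜ[A] s)) = s
    rw [LinearMap.rTensor_tmul, hr, TensorProduct.lid_tmul, one_smul]
  have hinj : Function.Injective (ι.toLinearMap.rTensor C) := by
    apply Function.LeftInverse.injective (g := ρ.rTensor C)
    intro y
    rw [← LinearMap.comp_apply, ← LinearMap.rTensor_comp, hρ, LinearMap.rTensor_id,
      LinearMap.id_apply]
  apply hinj
  rw [h3, h4, PolLaw.rTensor_algHom_apply, PolLaw.rTensor_algHom_apply]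
  show F.toFun' R (bc B ι (x + w * ((1 : S) ⊗ₜ[A] b))) = F.toFun' R (bc B ι x)
  rw [h2, h1]

end Descent

section Main

variable {A : Type u} [CommRing A] {B : Type u} [CommRing B] [Algebra A B]
  (F : B →ₚₗ[A] A) (g : Polynomial A) (hg : g.Monic)

/-- Every element of `A[X]/(g) ⊗ B` is a combination of powers of the root. -/
lemma exists_repr_adjoinRoot (hg : g.Monic) (z : AdjoinRoot g ⊗[A] B) :
    ∃ b : Fin g.natDegree → B, z = ∑ i : Fin g.natDegree, (AdjoinRoot.root g ^ (i : ℕ)) ⊗ₜ[A] b i := by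
  induction z using TensorProduct.induction_on with
  | zero => exact ⟨0, by simp⟩
  | tmul a c =>
    let pb := AdjoinRoot.powerBasis' hg
    have hdim : pb.dim = g.natDegree := AdjoinRoot.powerBasis'_dim hg
    have h1 := pb.basis.sum_repr a
    refine ⟨fun i => pb.basis.repr a (Fin.cast hdim.symm i) • c, ?_⟩
    conv_lhs => rw [← h1]
    rw [TensorProduct.sum_tmul]
    rw [← (Fin.castOrderIso hdim).toEquiv.sum_comp]
    refine Finset.sum_congr rfl fun i _ => ?_
    rw [TensorProduct.smul_tmul, PowerBasis.basis_eq_pow, AdjoinRoot.powerBasis'_gen]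
    simp
  | add z z' h h' =>
    obtain ⟨b, hb⟩ := h
    obtain ⟨b', hb'⟩ := h'
    refine ⟨b + b', ?_⟩
    rw [hb, hb', ← Finset.sum_add_distrib]
    refine Finset.sum_congr rfl fun i _ => ?_
    rw [Pi.add_apply, TensorProduct.tmul_add]

/-- The kernel of the base change to `A[X]/(g)`, `g` monic separable, is generated by the kernel. -/
theorem kerBC_le_extKer_adjoinRoot (hg : g.Monic) (hsep : g.Separable) :
    PolLaw.kerBC F (AdjoinRoot g) ≤ extKer F (AdjoinRoot g) := by
  intro z hz
  obtain ⟨Ω, instΩ, instAlg, r, x, hr, hx⟩ := exists_splitting_ring g.natDegree A g hg rfl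
  have hroot : ∀ k, eval₂ (algebraMap A Ω) (x k) g = 0 := by
    intro k
    rw [← eval_map, hx, eval_prod]
    exact Finset.prod_eq_zero (Finset.mem_univ k) (by simp)
  let σ : Fin g.natDegree → (AdjoinRoot g →ₐ[A] Ω) := fun k =>
    AdjoinRoot.liftAlgHom g (Algebra.ofId A Ω) (x k) (hroot k)
  obtain ⟨b, hb⟩ := exists_repr_adjoinRoot g hg z
  have hzk : ∀ k, InKer F Ω (bc B (σ k) z) := by
    intro k S _ _ φ p w
    letI : Algebra (AdjoinRoot g) S := (φ.comp (σ k)).toRingHom.toAlgebra
    haveI : IsScalarTower A (AdjoinRoot g) S :=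
      IsScalarTower.of_algebraMap_eq (fun a => ((φ.comp (σ k)).commutes a).symm)
    have h := hz S p w
    have h5 : IsScalarTower.toAlgHom A (AdjoinRoot g) S = φ.comp (σ k) := AlgHom.ext (fun _ => rfl)
    rw [h5] at h
    rw [bc_comp]
    exact h
  have hzk' : ∀ k, bc B (σ k) z =
      ∑ i : Fin g.natDegree, (x k) ^ (i : ℕ) • ((1 : Ω) ⊗ₜ[A] b i) := by
    intro k
    rw [hb, map_sum]
    refine Finset.sum_congr rfl fun i _ => ?_
    have h8 : σ k (AdjoinRoot.root g) = x k :=
      AdjoinRoot.liftAlgHom_root g (Algebra.ofId A Ω) (x k) (hroot k)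
    rw [bc_tmul, map_pow, h8, TensorProduct.smul_tmul', smul_eq_mul, mul_one]
  let N : Submodule Ω (Ω ⊗[A] B) :=
    { carrier := {y | InKer F Ω y}
      add_mem' := fun hy hy' => hy.add hy'
      zero_mem' := InKer.zero
      smul_mem' := fun c y hy => by
        have h6 : c • y = (c ⊗ₜ[A] (1 : B)) * y := by
          rw [Algebra.smul_def, Algebra.TensorProduct.algebraMap_apply]
          rfl
        show InKer F Ω (c • y)
        rw [h6]
        exact InKer.mul_left hy _ }
  have hunit : IsUnit (Matrix.vandermonde x).det :=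
    isUnit_vandermonde_det x (fun i j hij => isUnit_sub_of_separable x
      (by rw [← hx]; exact hsep.map) hij)
  have hbi : ∀ i, InKer F Ω ((1 : Ω) ⊗ₜ[A] b i) :=
    mem_of_vandermonde x hunit N (fun i => (1 : Ω) ⊗ₜ[A] b i)
      (fun k => by
        show InKer F Ω _
        rw [← hzk' k]
        exact hzk k)
  have hbker : ∀ i, b i ∈ PolLaw.ker F :=
    fun i => mem_ker_of_inKer_retraction F Ω r hr (b i) (hbi i)
  rw [hb]
  refine Ideal.sum_mem _ fun i _ => ?_
  have h7 : (AdjoinRoot.root g ^ (i : ℕ)) ⊗ₜ[A] b i =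
      ((AdjoinRoot.root g ^ (i : ℕ)) ⊗ₜ[A] (1 : B)) *
        (Algebra.TensorProduct.includeRight : B →ₐ[A] AdjoinRoot g ⊗[A] B) (b i) := by
    simp
  rw [h7]
  exact Ideal.mul_mem_left _ _ (Ideal.mem_map_of_mem _ (hbker i))

end Main

end Groth.Agent.Lib.Helper6.ZC
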