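import Mathlib
import Groth.Prelude.Def_PolLaw
import Groth.Agent.Lib.Helper6.ZC.PolyBC
import Groth.Agent.Lib.Helper6.ZC.BCRad
import Groth.Agent.Lib.Helper6.ZC.GenG

/-!
# The differential of a polynomial law with values in the base ring (helper6)

`Dlaw F S y z` is the coefficient of `X` in `F (y + X z)`.  It is natural, additive and
homogeneous in `z`, and in characteristic zero its vanishing on multiples of `b` characterises
the kernel of `F`.
-/

set_option autoImplicit false
set_option linter.unusedSectionVars false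
set_option linter.unusedVariables false
set_option linter.unusedSimpArgs false
set_option linter.style.haveILetI false
set_option maxHeartbeats 400000
universe u
open scoped TensorProduct
open Polynomial

namespace Groth.Agent.Lib.Helper6.ZC

section Deriv

variable {A : Type u} [CommRing A] {B : Type u} [CommRing B] [Algebra A B] (F : B →ₚₗ[A] A)

/-- `S ⊗ B → S[X] ⊗ B`. -/
noncomputable abbrev ιX (S : Type u) [CommRing S] [Algebra A S] :
    S ⊗[A] B →ₐ[A] Polynomial S ⊗[A] B :=
  bc B (Polynomial.CAlgHom (R := A) (A := S))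

/-- The element `X ⊗ 1`. -/
noncomputable abbrev tX (S : Type u) [CommRing S] [Algebra A S] : Polynomial S ⊗[A] B :=
  (Polynomial.X : Polynomial S) ⊗ₜ[A] (1 : B)

/-- The differential of `F` at `y` in the direction `z`. -/
noncomputable def Dlaw (S : Type u) [CommRing S] [Algebra A S] (y z : S ⊗[A] B) : S :=
  (Fh F (Polynomial S) (ιX S y + tX S * ιX S z)).coeff 1

variable {S S' : Type u} [CommRing S] [Algebra A S] [CommRing S'] [Algebra A S']

lemma bc_map_ιX (φ : S →ₐ[A] S') (y : S ⊗[A] B) :
    bc B (Polynomial.mapAlgHom φ) (ιX S y) = ιX S' (bc B φ y) := by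
  rw [bc_comp, bc_comp]
  congr 2
  apply AlgHom.ext
  intro s
  simp

lemma Dlaw_natural (φ : S →ₐ[A] S') (y z : S ⊗[A] B) :
    φ (Dlaw F S y z) = Dlaw F S' (bc B φ y) (bc B φ z) := by
  unfold Dlaw
  rw [← bc_map_ιX, ← bc_map_ιX]
  have h1 := Fh_natural F (Polynomial.mapAlgHom φ) (ιX S y + tX S * ιX S z)
  have h2 : bc B (Polynomial.mapAlgHom φ) (tX (B := B) S) = tX S' := by
    rw [bc_tmul]
    simp
  rw [map_add, map_mul, h2] at h1
  rw [← h1, Polynomial.coe_mapAlgHom, Polynomial.coeff_map]
  rfl

lemma Dlaw_eq_zero_of (y z : S ⊗[A] B)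
    (h : F.toFun' (Polynomial S) (ιX S y + tX S * ιX S z) = F.toFun' (Polynomial S) (ιX S y)) :
    Dlaw F S y z = 0 := by
  unfold Dlaw
  rw [(Fh_eq_iff F _ _ _).mpr h]
  have h1 := Fh_natural F (Polynomial.CAlgHom (R := A) (A := S)) y
  rw [← h1]
  simp

/-- The substitution `X ↦ s X`. -/
noncomputable def σs (s : S) : Polynomial S →ₐ[A] Polynomial S :=
  (Polynomial.aeval (R := S) (C s * X : Polynomial S)).restrictScalars A

lemma σs_apply (s : S) (p : Polynomial S) : σs (A := A) s p = p.comp (C s * X) := rfl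

lemma σs_comp_C (s : S) :
    (σs (A := A) s).comp (Polynomial.CAlgHom (R := A) (A := S)) = Polynomial.CAlgHom := by
  apply AlgHom.ext
  intro a
  simp [σs_apply]

lemma ιX_smul (s : S) (z : S ⊗[A] B) :
    ιX S (s • z) = ((C s : Polynomial S) ⊗ₜ[A] (1 : B)) * ιX S z := by
  rw [smul_eq_tmul_one_mul, map_mul, bc_tmul]
  rfl

lemma Dlaw_smul (s : S) (y z : S ⊗[A] B) : Dlaw F S y (s • z) = s * Dlaw F S y z := by
  unfold Dlaw
  have h1 := Fh_natural F (σs (A := A) s) (ιX S y + tX S * ιX S z)
  have h2 : bc B (σs (A := A) s) (ιX S y + tX S * ιX S z) = ιX S y + tX S * ιX S (s • z) := by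
    rw [map_add, map_mul, bc_comp, bc_comp, σs_comp_C, bc_tmul, ιX_smul, ← mul_assoc]
    congr 2
    rw [Algebra.TensorProduct.tmul_mul_tmul, mul_one, σs_apply]
    rw [Polynomial.X_comp, mul_comm]
  rw [h2] at h1
  rw [← h1, σs_apply, Polynomial.comp_C_mul_X_coeff]
  ring

lemma coeff_one_eval_X (H : Polynomial (Polynomial S)) :
    (H.eval X).coeff 1 = (H.coeff 0).coeff 1 + (H.coeff 1).coeff 0 := by
  rw [Polynomial.eval_eq_sum_range, Polynomial.finsetSum_coeff]
  have h : ∀ j ∈ Finset.range (H.natDegree + 1), (H.coeff j * X ^ j).coeff 1 =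
      if j = 0 then (H.coeff 0).coeff 1 else if j = 1 then (H.coeff 1).coeff 0 else 0 := by
    intro j _
    rw [Polynomial.coeff_mul_X_pow']
    rcases j with _ | _ | j
    · simp
    · simp
    · simp
  rw [Finset.sum_congr rfl h]
  rcases Nat.eq_zero_or_pos H.natDegree with h0 | h0
  · rw [h0]
    have h1 : H.coeff 1 = 0 := Polynomial.coeff_eq_zero_of_natDegree_lt (by omega)
    simp [h1]
  · have hsub : ({0, 1} : Finset ℕ) ⊆ Finset.range (H.natDegree + 1) := by
      intro j hj
      simp only [Finset.mem_insert, Finset.mem_singleton] at hj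
      rw [Finset.mem_range]
      omega
    rw [← Finset.sum_subset hsub]
    · simp
    · intro j _ hj
      simp only [Finset.mem_insert, Finset.mem_singleton, not_or] at hj
      rw [if_neg hj.1, if_neg hj.2]

lemma bc_ιX_of_comp {T : Type u} [CommRing T] [Algebra A T] (φ : Polynomial S →ₐ[A] T)
    (ψ : S →ₐ[A] T) (h : φ.comp (Polynomial.CAlgHom (R := A) (A := S)) = ψ) (u : S ⊗[A] B) :
    bc B φ (ιX S u) = bc B ψ u := by
  rw [bc_comp, h]

/-- Evaluation `Y ↦ X` on `S[X][Y]`. -/
noncomputable def evX (S : Type u) [CommRing S] [Algebra A S] :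
    Polynomial (Polynomial S) →ₐ[A] Polynomial S :=
  (Polynomial.aeval (R := Polynomial S) (X : Polynomial S)).restrictScalars A

lemma evX_apply (H : Polynomial (Polynomial S)) : evX (A := A) S H = H.eval X := by
  rw [evX, AlgHom.restrictScalars_apply, Polynomial.coe_aeval_eq_eval]

lemma Dlaw_add (y z₁ z₂ : S ⊗[A] B) :
    Dlaw F S y (z₁ + z₂) = Dlaw F S y z₁ + Dlaw F S y z₂ := by
  let U₁ : Polynomial S ⊗[A] B := ιX S y + tX S * ιX S z₁
  let E : Polynomial (Polynomial S) ⊗[A] B :=
    ιX (Polynomial S) U₁ + tX (Polynomial S) * ιX (Polynomial S) (ιX S z₂)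
  let H : Polynomial (Polynomial S) := Fh F _ E
  -- (i)
  have hi : (H.coeff 0).coeff 1 = Dlaw F S y z₁ := by
    have h1 := Fh_natural F (ev0 (A := A) (Polynomial S)) E
    have h2 : bc B (ev0 (A := A) (Polynomial S)) E = U₁ := by
      have h3 : (ev0 (A := A) (Polynomial S)).comp
          (Polynomial.CAlgHom (R := A) (A := Polynomial S)) = AlgHom.id A _ := by
        apply AlgHom.ext
        intro a
        simp
      show bc B _ (ιX (Polynomial S) U₁ + tX (Polynomial S) * ιX (Polynomial S) (ιX S z₂)) = U₁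
      rw [map_add, map_mul, bc_ιX_of_comp _ _ h3, bc_id, bc_tmul, ev0_X, TensorProduct.zero_tmul,
        zero_mul, add_zero]
    rw [h2, ev0_apply] at h1
    show ((Fh F _ E).coeff 0).coeff 1 = _
    rw [h1]
    rfl
  -- (ii)
  have hii : (H.eval X).coeff 1 = Dlaw F S y (z₁ + z₂) := by
    have h1 := Fh_natural F (evX (A := A) S) E
    have h2 : bc B (evX (A := A) S) E = ιX S y + tX S * ιX S (z₁ + z₂) := by
      have h3 : (evX (A := A) S).comp
          (Polynomial.CAlgHom (R := A) (A := Polynomial S)) = AlgHom.id A _ := by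
        apply AlgHom.ext
        intro a
        simp [evX_apply]
      show bc B _ (ιX (Polynomial S) U₁ + tX (Polynomial S) * ιX (Polynomial S) (ιX S z₂)) = _
      rw [map_add, map_mul, bc_ιX_of_comp _ _ h3, bc_ιX_of_comp _ _ h3, bc_id, bc_id, bc_tmul,
        evX_apply, Polynomial.eval_X, map_add, mul_add, add_assoc]
    rw [h2, evX_apply] at h1
    show ((Fh F _ E).eval X).coeff 1 = _
    rw [h1]
    rfl
  -- (iii)
  have hiii : (H.coeff 1).coeff 0 = Dlaw F S y z₂ := by
    have h1 := Fh_natural F (Polynomial.mapAlgHom (ev0 (A := A) S)) E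
    have h3 : (Polynomial.mapAlgHom (ev0 (A := A) S)).comp
        (Polynomial.CAlgHom (R := A) (A := Polynomial S)) =
        (Polynomial.CAlgHom (R := A) (A := S)).comp (ev0 (A := A) S) := by
      apply AlgHom.ext
      intro a
      simp
    have h4 : (ev0 (A := A) S).comp (Polynomial.CAlgHom (R := A) (A := S)) = AlgHom.id A _ := by
      apply AlgHom.ext
      intro a
      simp
    have h2 : bc B (Polynomial.mapAlgHom (ev0 (A := A) S)) E = ιX S y + tX S * ιX S z₂ := by
      show bc B _ (ιX (Polynomial S) U₁ + tX (Polynomial S) * ιX (Polynomial S) (ιX S z₂)) = _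
      rw [map_add, map_mul, bc_ιX_of_comp _ _ h3, bc_ιX_of_comp _ _ h3, ← bc_comp, ← bc_comp,
        bc_ιX_of_comp _ _ h4, bc_id]
      have h5 : bc B (ev0 (A := A) S) U₁ = y := by
        show bc B _ (ιX S y + tX S * ιX S z₁) = y
        rw [map_add, map_mul, bc_ιX_of_comp _ _ h4, bc_id, bc_tmul, ev0_X,
          TensorProduct.zero_tmul, zero_mul, add_zero]
      rw [h5, bc_tmul]
      simp
    rw [h2] at h1
    have h6 : ((Polynomial.mapAlgHom (ev0 (A := A) S)) (Fh F _ E)).coeff 1 =
        ((Fh F _ E).coeff 1).coeff 0 := by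
      rw [Polynomial.coe_mapAlgHom, Polynomial.coeff_map]
      exact ev0_apply (A := A) S _
    show ((Fh F _ E).coeff 1).coeff 0 = _
    rw [← h6, h1]
    rfl
  rw [← hii, ← hi, ← hiii]
  exact coeff_one_eval_X H

lemma coeff_one_aeval_add (p : Polynomial S) :
    ((Polynomial.aeval (R := S) (C X + X : Polynomial (Polynomial S))) p).coeff 1 =
      derivative p := by
  induction p using Polynomial.induction_on' with
  | add p q hp hq => rw [map_add, Polynomial.coeff_add, hp, hq, map_add]
  | monomial n a =>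
    rw [Polynomial.aeval_monomial, add_comm (C X) X, Polynomial.derivative_monomial]
    have h1 : algebraMap S (Polynomial (Polynomial S)) a = C (C a) := rfl
    rw [h1, Polynomial.coeff_C_mul, Polynomial.coeff_X_add_C_pow, Nat.choose_one_right,
      ← Polynomial.C_mul_X_pow_eq_monomial, map_mul, Polynomial.C_eq_natCast]
    ring

/-- The substitution `X ↦ X + Y`. -/
noncomputable def τXY (S : Type u) [CommRing S] [Algebra A S] :
    Polynomial S →ₐ[A] Polynomial (Polynomial S) :=
  (Polynomial.aeval (R := S) (C X + X : Polynomial (Polynomial S))).restrictScalars A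

/-- Evaluation at `1`. -/
noncomputable def ev1 (S : Type u) [CommRing S] [Algebra A S] : Polynomial S →ₐ[A] S :=
  (Polynomial.aeval (1 : S)).restrictScalars A

/-- In characteristic zero, the vanishing of the differential on multiples of `b` implies that `b`
lies in the kernel. -/
theorem mem_ker_of_Dlaw [Algebra ℚ A] (b : B)
    (h : ∀ (S : Type u) [CommRing S] [Algebra A S] (y w : S ⊗[A] B),
      Dlaw F S y (w * ((1 : S) ⊗ₜ[A] b)) = 0) : b ∈ PolLaw.ker F := by
  apply mem_ker_of_commRing
  intro S _ _ x w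
  letI : Module ℚ S := Module.compHom S ((algebraMap A S).comp (algebraMap ℚ A))
  haveI : IsAddTorsionFree S := IsAddTorsionFree.of_module_rat S
  obtain ⟨u, hudef⟩ : ∃ u : S ⊗[A] B, u = w * ((1 : S) ⊗ₜ[A] b) := ⟨_, rfl⟩
  rw [← hudef]
  let U : Polynomial S ⊗[A] B := ιX S x + tX S * ιX S u
  let G : Polynomial S := Fh F _ U
  have hu : ιX S u = ιX S w * ((1 : Polynomial S) ⊗ₜ[A] b) := by
    rw [hudef, map_mul, bc_tmul, map_one]
  have hder : derivative G = 0 := by
    rw [← coeff_one_aeval_add]
    have h1 := Fh_natural F (τXY (A := A) S) U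
    have h3 : (τXY (A := A) S).comp (Polynomial.CAlgHom (R := A) (A := S)) =
        (Polynomial.CAlgHom (R := A) (A := Polynomial S)).comp
          (Polynomial.CAlgHom (R := A) (A := S)) := by
      apply AlgHom.ext
      intro a
      simp [τXY]
    have h2 : bc B (τXY (A := A) S) U =
        ιX (Polynomial S) U + tX (Polynomial S) * ιX (Polynomial S) (ιX S u) := by
      show bc B _ (ιX S x + tX S * ιX S u) = ιX (Polynomial S) (ιX S x + tX S * ιX S u) + _
      have h4 : bc B (τXY (A := A) S) (tX (B := B) S) =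
          ιX (Polynomial S) (tX S) + tX (Polynomial S) := by
        rw [bc_tmul, bc_tmul, ← TensorProduct.add_tmul]
        congr 1
        simp [τXY]
      have hL : bc B (τXY (A := A) S) (ιX S x + tX S * ιX S u) =
          bc B (τXY (A := A) S) (ιX S x) + bc B (τXY (A := A) S) (tX S) *
            bc B (τXY (A := A) S) (ιX S u) := by rw [map_add, map_mul]
      have hR : ιX (Polynomial S) (ιX S x + tX S * ιX S u) =
          ιX (Polynomial S) (ιX S x) + ιX (Polynomial S) (tX S) *
            ιX (Polynomial S) (ιX S u) := by rw [map_add, map_mul]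
      have ha : ∀ v : S ⊗[A] B, bc B (τXY (A := A) S) (ιX S v) =
          ιX (Polynomial S) (ιX S v) := by
        intro v
        rw [bc_ιX_of_comp _ _ h3, ← bc_comp]
      rw [hL, hR, ha, ha, h4]
      ring
    rw [h2] at h1
    have h5 := h (Polynomial S) U (ιX S w)
    rw [← hu] at h5
    show ((Polynomial.aeval (R := S) (C X + X : Polynomial (Polynomial S))) G).coeff 1 = 0
    have h6 : (Polynomial.aeval (R := S) (C X + X : Polynomial (Polynomial S))) G =
        τXY (A := A) S G := rfl
    rw [h6, h1]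
    exact h5
  have hG : G = C (G.coeff 0) := Polynomial.eq_C_of_derivative_eq_zero hder
  have e1 : ev1 (A := A) S G = Fh F S (x + u) := by
    have h1 := Fh_natural F (ev1 (A := A) S) U
    have h3 : (ev1 (A := A) S).comp (Polynomial.CAlgHom (R := A) (A := S)) = AlgHom.id A _ := by
      apply AlgHom.ext
      intro a
      simp [ev1]
    have h2 : bc B (ev1 (A := A) S) U = x + u := by
      show bc B _ (ιX S x + tX S * ιX S u) = _
      rw [map_add, map_mul, bc_ιX_of_comp _ _ h3, bc_ιX_of_comp _ _ h3, bc_id, bc_id, bc_tmul]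
      simp [ev1, ← Algebra.TensorProduct.one_def]
    rw [h2] at h1
    exact h1
  have e0 : ev0 (A := A) S G = Fh F S x := by
    have h1 := Fh_natural F (ev0 (A := A) S) U
    have h3 : (ev0 (A := A) S).comp (Polynomial.CAlgHom (R := A) (A := S)) = AlgHom.id A _ := by
      apply AlgHom.ext
      intro a
      simp
    have h2 : bc B (ev0 (A := A) S) U = x := by
      show bc B _ (ιX S x + tX S * ιX S u) = _
      rw [map_add, map_mul, bc_ιX_of_comp _ _ h3, bc_id, bc_tmul, ev0_X, TensorProduct.zero_tmul,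
        zero_mul, add_zero]
    rw [h2] at h1
    exact h1
  rw [← Fh_eq_iff]
  show Fh F S (x + u) = Fh F S x
  rw [← e1, ← e0, hG]
  simp [ev1]

end Deriv

end Groth.Agent.Lib.Helper6.ZC
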