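import Mathlib
import Groth.Prelude.Def_PolLaw
import Groth.Agent.Lib.Helper6.ZC.KerQ1

/-!
# In characteristic zero the kernel of a law on a finite algebra commutes with flat base change
(helper6)
-/

set_option autoImplicit false
set_option linter.unusedSectionVars false
set_option linter.unusedVariables false
set_option linter.unusedSimpArgs false
set_option linter.style.haveILetI false
set_option maxHeartbeats 400000
universe u
open scoped TensorProduct
open MvPolynomial

namespace Groth.Agent.Lib.Helper6.ZC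

section Span

variable {A : Type u} [CommRing A] {B : Type u} [CommRing B] [Algebra A B]
  {n : ℕ} (e : Fin n → B) (he : Submodule.span A (Set.range e) = ⊤)

include he in
lemma exists_sum_tmul_gen (S : Type u) [CommRing S] [Algebra A S] (y : S ⊗[A] B) :
    ∃ s : Fin n → S, y = ∑ i, s i ⊗ₜ[A] e i := by
  induction y using TensorProduct.induction_on with
  | zero => exact ⟨0, by simp⟩
  | tmul t c =>
    have hc : c ∈ Submodule.span A (Set.range e) := by rw [he]; trivial
    obtain ⟨a, ha⟩ := (Submodule.mem_span_range_iff_exists_fun A).mp hc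
    refine ⟨fun i => a i • t, ?_⟩
    rw [← ha, TensorProduct.tmul_sum]
    refine Finset.sum_congr rfl fun i _ => ?_
    rw [TensorProduct.tmul_smul, TensorProduct.smul_tmul']
  | add y y' h h' =>
    obtain ⟨s, hs⟩ := h
    obtain ⟨s', hs'⟩ := h'
    refine ⟨s + s', ?_⟩
    rw [hs, hs', ← Finset.sum_add_distrib]
    refine Finset.sum_congr rfl fun i _ => ?_
    rw [Pi.add_apply, TensorProduct.add_tmul]

end Span

section Lam

variable {A : Type u} [CommRing A] {B : Type u} [CommRing B] [Algebra A B] (F : B →ₚₗ[A] A)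
  {n : ℕ} (e : Fin n → B)

/-- The generic element in the first set of variables. -/
noncomputable def genY : MvPolynomial (Fin n ⊕ Fin n) A ⊗[A] B :=
  ∑ i, (X (Sum.inl i) : MvPolynomial (Fin n ⊕ Fin n) A) ⊗ₜ[A] e i

/-- The generic element in the second set of variables. -/
noncomputable def genW : MvPolynomial (Fin n ⊕ Fin n) A ⊗[A] B :=
  ∑ j, (X (Sum.inr j) : MvPolynomial (Fin n ⊕ Fin n) A) ⊗ₜ[A] e j

lemma Dlaw_zero (S : Type u) [CommRing S] [Algebra A S] (y : S ⊗[A] B) : Dlaw F S y 0 = 0 := by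
  have h := Dlaw_smul F (0 : S) y 0
  rw [zero_smul, zero_mul] at h
  exact h

/-- The linear map whose kernel is the kernel of `F`. -/
noncomputable def Λker : B →ₗ[A] MvPolynomial (Fin n ⊕ Fin n) A where
  toFun c := Dlaw F _ (genY e) (genW e * ((1 : MvPolynomial (Fin n ⊕ Fin n) A) ⊗ₜ[A] c))
  map_add' c c' := by
    rw [TensorProduct.tmul_add, mul_add, Dlaw_add]
  map_smul' a c := by
    have h1 : genW e * ((1 : MvPolynomial (Fin n ⊕ Fin n) A) ⊗ₜ[A] (a • c)) =
        (C a : MvPolynomial (Fin n ⊕ Fin n) A) •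
          (genW e * ((1 : MvPolynomial (Fin n ⊕ Fin n) A) ⊗ₜ[A] c)) := by
      rw [smul_eq_tmul_one_mul, ← mul_assoc, mul_comm _ (genW e), mul_assoc,
        Algebra.TensorProduct.tmul_mul_tmul, one_mul, mul_one, TensorProduct.tmul_smul]
      congr 1
      rw [TensorProduct.smul_tmul', MvPolynomial.smul_eq_C_mul, mul_one]
    rw [h1, Dlaw_smul, RingHom.id_apply, MvPolynomial.smul_eq_C_mul]

lemma Λker_apply (c : B) : Λker F e c =
    Dlaw F _ (genY e) (genW e * ((1 : MvPolynomial (Fin n ⊕ Fin n) A) ⊗ₜ[A] c)) := rfl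

lemma Λker_eq_zero_of_mem_ker {b : B} (hb : b ∈ PolLaw.ker F) : Λker F e b = 0 := by
  rw [Λker_apply]
  apply Dlaw_eq_zero_of
  have h1 : ιX _ (genW e * ((1 : MvPolynomial (Fin n ⊕ Fin n) A) ⊗ₜ[A] b)) =
      ιX _ (genW e) * ((1 : Polynomial (MvPolynomial (Fin n ⊕ Fin n) A)) ⊗ₜ[A] b) := by
    rw [map_mul, bc_tmul, map_one]
  rw [h1, ← mul_assoc]
  exact hb _ _ _

include F in
lemma mem_ker_of_Λker_eq_zero [Algebra ℚ A] (he : Submodule.span A (Set.range e) = ⊤) {b : B}
    (hb : Λker F e b = 0) : b ∈ PolLaw.ker F := by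
  apply mem_ker_of_Dlaw
  intro S _ _ y w
  obtain ⟨s, rfl⟩ := exists_sum_tmul_gen e he S y
  obtain ⟨r, rfl⟩ := exists_sum_tmul_gen e he S w
  let ψ : MvPolynomial (Fin n ⊕ Fin n) A →ₐ[A] S := MvPolynomial.aeval (Sum.elim s r)
  have h1 : bc B ψ (genY e) = ∑ i, s i ⊗ₜ[A] e i := by
    rw [genY, map_sum]
    refine Finset.sum_congr rfl fun i _ => ?_
    rw [bc_tmul]
    simp [ψ]
  have h2 : bc B ψ (genW e) = ∑ i, r i ⊗ₜ[A] e i := by
    rw [genW, map_sum]
    refine Finset.sum_congr rfl fun i _ => ?_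
    rw [bc_tmul]
    simp [ψ]
  have h3 := Dlaw_natural F ψ (genY e)
    (genW e * ((1 : MvPolynomial (Fin n ⊕ Fin n) A) ⊗ₜ[A] b))
  rw [← Λker_apply, hb, map_zero, map_mul, h1, h2, bc_tmul, map_one] at h3
  exact h3.symm

end Lam

section Main

variable {A : Type u} [CommRing A] [Algebra ℚ A] {B : Type u} [CommRing B] [Algebra A B]
  [Module.Finite A B] (F : B →ₚₗ[A] A)
  (A' : Type u) [CommRing A'] [Algebra A A'] [Module.Flat A A']

lemma inKer_of_mem_kerBC {z : A' ⊗[A] B} (hz : z ∈ PolLaw.kerBC F A') : InKer F A' z := by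
  intro S _ _ φ p w
  letI : Algebra A' S := φ.toRingHom.toAlgebra
  haveI : IsScalarTower A A' S := IsScalarTower.of_algebraMap_eq (fun a => (φ.commutes a).symm)
  have h := hz S p w
  have h5 : IsScalarTower.toAlgHom A A' S = φ := AlgHom.ext (fun _ => rfl)
  rw [h5] at h
  exact h

theorem kerBC_le_extKer_of_flat : PolLaw.kerBC F A' ≤ extKer F A' := by
  intro z hz
  have hzK := inKer_of_mem_kerBC F A' hz
  obtain ⟨n, e, he⟩ := Module.Finite.exists_fin (R := A) (M := B)
  let P := MvPolynomial (Fin n ⊕ Fin n) A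
  let R := A' ⊗[A] P
  let φL : A' →ₐ[A] R := Algebra.TensorProduct.includeLeft
  let φR : P →ₐ[A] R := Algebra.TensorProduct.includeRight
  -- the formula for `Λ ⊗ A'`
  have hform : ∀ z' : A' ⊗[A] B, (Λker F e).lTensor A' z' =
      Dlaw F R (bc B φR (genY e)) (bc B φR (genW e) * bc B φL z') := by
    intro z'
    induction z' using TensorProduct.induction_on with
    | zero => rw [map_zero, map_zero, mul_zero, Dlaw_zero]
    | tmul a' c =>
      rw [LinearMap.lTensor_tmul, Λker_apply]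
      have h1 : a' ⊗ₜ[A] Dlaw F P (genY e) (genW e * ((1 : P) ⊗ₜ[A] c)) =
          (a' ⊗ₜ[A] (1 : P) : R) * φR (Dlaw F P (genY e) (genW e * ((1 : P) ⊗ₜ[A] c))) := by
        show _ = (a' ⊗ₜ[A] (1 : P) : R) * ((1 : A') ⊗ₜ[A] _)
        rw [Algebra.TensorProduct.tmul_mul_tmul, mul_one, one_mul]
      rw [h1, Dlaw_natural, ← Dlaw_smul]
      congr 1
      rw [map_mul, bc_tmul, bc_tmul, map_one, smul_eq_tmul_one_mul, ← mul_assoc,
        mul_comm _ (bc B φR (genW e)), mul_assoc, Algebra.TensorProduct.tmul_mul_tmul, one_mul]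
      congr 2
      show (a' ⊗ₜ[A] (1 : P) : R) * ((1 : A') ⊗ₜ[A] (1 : P)) = a' ⊗ₜ[A] (1 : P)
      rw [Algebra.TensorProduct.tmul_mul_tmul, mul_one, one_mul]
    | add z₁ z₂ h₁ h₂ => rw [map_add, map_add, mul_add, Dlaw_add, h₁, h₂]
  -- vanishing
  have hvan : (Λker F e).lTensor A' z = 0 := by
    rw [hform]
    apply Dlaw_eq_zero_of
    have h2 := hzK (Polynomial R) ((Polynomial.CAlgHom (R := A) (A := R)).comp φL)
      (ιX R (bc B φR (genY e))) (tX R * ιX R (bc B φR (genW e)))
    rw [← bc_comp] at h2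
    rw [map_mul, ← mul_assoc]
    exact h2
  -- exactness
  have hex : Function.Exact (LinearMap.ker (Λker F e)).subtype (Λker F e) :=
    LinearMap.exact_subtype_ker_map _
  have hex' := Module.Flat.lTensor_exact A' hex
  obtain ⟨k, hk⟩ := (hex' z).mp hvan
  rw [← hk]
  clear hk hvan hzK hz
  induction k using TensorProduct.induction_on with
  | zero => rw [map_zero]; exact Ideal.zero_mem _
  | tmul a' κ =>
    rw [LinearMap.lTensor_tmul]
    have hκ : (κ : B) ∈ PolLaw.ker F := mem_ker_of_Λker_eq_zero F e he κ.2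
    have h3 : a' ⊗ₜ[A] (κ : B) = (a' ⊗ₜ[A] (1 : B)) *
        (Algebra.TensorProduct.includeRight : B →ₐ[A] A' ⊗[A] B) (κ : B) := by
      simp
    show a' ⊗ₜ[A] (κ : B) ∈ _
    rw [h3]
    exact Ideal.mul_mem_left _ _ (Ideal.mem_map_of_mem _ hκ)
  | add k k' h h' => rw [map_add]; exact Ideal.add_mem _ h h'

end Main

end Groth.Agent.Lib.Helper6.ZC
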