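import Mathlib
import Groth.Prelude.Def_PolLaw
import Groth.Prelude.Def_PolLaw2
import Groth.Prelude.Def_W4c5normfunctorschNorm
import Groth.Agent.Lib.Helper6.ZC.NM1

/-!
# Base change of universal normic pairs (helper6)
-/

set_option autoImplicit false
set_option linter.unusedSectionVars false
set_option linter.unusedVariables false
set_option linter.unusedSimpArgs false
set_option linter.style.haveILetI false
set_option maxHeartbeats 400000
universe u
open scoped TensorProduct

namespace Groth.Agent.Lib.Helper6.ZC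

section NormicPost

variable {R : Type u} [CommRing R] (R' : Type u) [CommRing R'] [Algebra R R']
  {M' : Type u} [AddCommGroup M'] [Module R M'] [Module R' M'] [IsScalarTower R R' M']
  {N E : Type u} [AddCommGroup N] [Module R N] [AddCommGroup E] [Module R E]

lemma lTensor_smul' (φ : N →ₗ[R] E) (P : Type u) [CommSemiring P] [Algebra R P] (p : P)
    (t : P ⊗[R] N) : φ.lTensor P (p • t) = p • φ.lTensor P t := by
  induction t using TensorProduct.induction_on with
  | zero => simp
  | tmul s n => rw [TensorProduct.smul_tmul', LinearMap.lTensor_tmul, LinearMap.lTensor_tmul,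
      TensorProduct.smul_tmul']
  | add a b ha hb => simp only [smul_add, map_add, ha, hb]

theorem isNormic_postcomp (ν : M' →ₚₗ[R] N) (hν : PolLaw.IsNormic R' ν) (φ : N →ₗ[R] E) :
    PolLaw.IsNormic R' (PolLaw.postcomp φ ν) := by
  intro P _ _ x m
  show φ.lTensor P (ν.toFun' P _) = _ • φ.lTensor P (ν.toFun' P m)
  rw [hν P x m, lTensor_smul']

end NormicPost

section Normic

variable {R R' Q Q' : Type u} [CommRing R] [CommRing R'] [Algebra R R']
  [CommRing Q] [Algebra R Q] [CommRing Q'] [Algebra R Q'] [Algebra Q Q'] [Algebra R' Q']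
  [IsScalarTower R Q Q'] [IsScalarTower R R' Q'] [Algebra.IsPushout R R' Q Q']
  {M' : Type u} [AddCommGroup M'] [Module R M'] [Module R' M'] [IsScalarTower R R' M']
  {M'' : Type u} [AddCommGroup M''] [Module R M''] [Module R' M''] [Module Q M''] [Module Q' M'']
  [IsScalarTower R R' M''] [IsScalarTower R Q M''] [IsScalarTower R' Q' M''] [IsScalarTower Q Q' M'']
  (f : M' →ₗ[R'] M'')
  {E : Type u} [AddCommGroup E] [Module R E] [Module Q E] [IsScalarTower R Q E]

/-- The comparison map intertwines the two actions. -/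
lemma ΞK_actEnd (S : Type u) [CommSemiring S] [Algebra R S] [Algebra Q S] [IsScalarTower R Q S]
    (x : S ⊗[R] R') (z : S ⊗[R] M') :
    ΞK R Q S (f.restrictScalars R) (PolLaw.actEnd M' S x z) =
      PolLaw.actEnd M'' S (ΞK R Q S (IsScalarTower.toAlgHom R R' Q').toLinearMap x)
        (ΞK R Q S (f.restrictScalars R) z) := by
  induction x using TensorProduct.induction_on with
  | zero => simp
  | tmul s r =>
    induction z using TensorProduct.induction_on with
    | zero => simp
    | tmul t m =>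
      rw [PolLaw.actEnd_tmul_tmul, ΞK_tmul, ΞK_tmul, ΞK_tmul, PolLaw.actEnd_tmul_tmul]
      simp
    | add a b ha hb => simp only [map_add, ha, hb]
  | add a b ha hb => simp only [map_add, LinearMap.add_apply, ha, hb]

lemma norm_ΞK (P : Type u) [CommRing P] [Algebra R P] [Algebra Q P] [IsScalarTower R Q P]
    (x : P ⊗[R] R') :
    Algebra.norm P (ΞK R Q P (IsScalarTower.toAlgHom R R' Q').toLinearMap x) = Algebra.norm P x := by
  rw [← bcAlong_eq_ΞK, norm_bcAlong]

lemma exists_ΞK_eq (P : Type u) [CommRing P] [Algebra R P] [Algebra Q P] [IsScalarTower R Q P]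
    (x : P ⊗[Q] Q') :
    ∃ x₀ : P ⊗[R] R', ΞK R Q P (IsScalarTower.toAlgHom R R' Q').toLinearMap x₀ = x := by
  obtain ⟨x₀, rfl⟩ := (pushEquiv R R' Q Q' P).surjective x
  exact ⟨x₀, by rw [← bcAlong_eq_ΞK, ← pushEquiv_eq]⟩

variable (R' Q') in
theorem isNormic_extLaw (hg : IsBaseChange Q (f.restrictScalars R)) (lam : M' →ₚₗ[R] E)
    (hlam : PolLaw.IsNormic R' lam) :
    PolLaw.IsNormic Q' (extLaw (f.restrictScalars R) hg lam) := by
  intro P _ _ x y
  letI : Algebra R P := Algebra.compHom P (algebraMap R Q)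
  haveI : IsScalarTower R Q P := IsScalarTower.of_algebraMap_eq fun _ => rfl
  obtain ⟨x₀, rfl⟩ := exists_ΞK_eq (R := R) (R' := R') P x
  obtain ⟨z, rfl⟩ : ∃ z, y = ΞK R Q P (f.restrictScalars R) z :=
    ⟨eM _ hg P y, (ΞK_eM _ hg P y).symm⟩
  rw [← ΞK_actEnd, extLaw_toFun', extLaw_toFun']
  unfold extFun
  rw [eM_ΞK, eM_ΞK, hlam P x₀ z, ΞK_smul, norm_ΞK]

lemma ρE_incl_smul (S : Type u) [CommSemiring S] [Algebra R S] (n : S)
    (w : (Q ⊗[R] S) ⊗[Q] E) :
    ρE Q E S ((Algebra.TensorProduct.includeRight (R := R) (A := Q) (B := S) n) • w) =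
      n • ρE Q E S w := by
  induction w using TensorProduct.induction_on with
  | zero => simp
  | tmul t e =>
    induction t using TensorProduct.induction_on with
    | zero => simp
    | tmul q s =>
      rw [TensorProduct.smul_tmul', smul_eq_mul, Algebra.TensorProduct.includeRight_apply,
        Algebra.TensorProduct.tmul_mul_tmul, one_mul, ρE_tmul, ρE_tmul, TensorProduct.smul_tmul',
        smul_eq_mul]
    | add a b ha hb => simp only [TensorProduct.add_tmul, smul_add, map_add, ha, hb]
  | add a b ha hb => simp only [smul_add, map_add, ha, hb]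

variable (R' Q') in
theorem isNormic_resLaw [Module.Free R R'] [Module.Finite R R']
    (mu : M'' →ₚₗ[Q] E) (hmu : PolLaw.IsNormic Q' mu) :
    PolLaw.IsNormic R' (resLaw (f.restrictScalars R) mu) := by
  intro P _ _ x z
  rw [resLaw_toFun', resLaw_toFun']
  unfold resFun
  rw [PolLaw.rTensor_actEnd, ΞK_actEnd (Q := Q) (Q' := Q') f (Q ⊗[R] P), hmu (Q ⊗[R] P), norm_ΞK, ← PolLaw.detAct_self,
    PolLaw.detAct_map, PolLaw.detAct_self, ρE_incl_smul]

end Normic

section Main

variable {R R' Q Q' : Type u} [CommRing R] [CommRing R'] [Algebra R R']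
  [CommRing Q] [Algebra R Q] [CommRing Q'] [Algebra R Q'] [Algebra Q Q'] [Algebra R' Q']
  [IsScalarTower R Q Q'] [IsScalarTower R R' Q'] [Algebra.IsPushout R R' Q Q']
  [Module.Free R R'] [Module.Finite R R']
  {M' : Type u} [AddCommGroup M'] [Module R M'] [Module R' M'] [IsScalarTower R R' M']
  {M'' : Type u} [AddCommGroup M''] [Module R M''] [Module R' M''] [Module Q M''] [Module Q' M'']
  [IsScalarTower R R' M''] [IsScalarTower R Q M''] [IsScalarTower R' Q' M''] [IsScalarTower Q Q' M'']

/-- A base change along `R' → Q'` of an `R'`-module is also a base change along `R → Q`. -/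
theorem isBaseChange_restrict (f : M' →ₗ[R'] M'') (hf : IsBaseChange Q' f) :
    IsBaseChange Q (f.restrictScalars R) := by
  haveI : Algebra.IsPushout R Q R' Q' := Algebra.IsPushout.symm inferInstance
  refine IsBaseChange.of_equiv
    ((Algebra.IsPushout.cancelBaseChange R Q R' Q' M').symm ≪≫ₗ
      (hf.equiv.restrictScalars Q)) (fun x => ?_)
  rw [LinearEquiv.trans_apply, Algebra.IsPushout.cancelBaseChange_symm_tmul, map_one]
  show hf.equiv (1 ⊗ₜ x) = f x
  rw [IsBaseChange.equiv_tmul, one_smul]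

theorem norm_baseChange (f : M' →ₗ[R'] M'') (hf : IsBaseChange Q' f)
    {N : Type u} [AddCommGroup N] [Module R N] (ν : M' →ₚₗ[R] N) (hν : PolLaw.IsUnivNormic R' ν)
    {N'' : Type u} [AddCommGroup N''] [Module R N''] [Module Q N''] [IsScalarTower R Q N'']
    (ν'' : M'' →ₚₗ[Q] N'') (hν'' : PolLaw.IsUnivNormic Q' ν'') :
    ∃ u : N →ₗ[R] N'',
      (∀ (P : Type u) [CommRing P] [Algebra R P] [Algebra Q P] [IsScalarTower R Q P]
        (m : P ⊗[R] M'),
          ν''.toFun' P (PolLaw.bcAlong (f.restrictScalars R) P m) =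
            PolLaw.bcAlong u P (ν.toFun' P m)) ∧
      IsBaseChange Q u := by
  have hg : IsBaseChange Q (f.restrictScalars R) := isBaseChange_restrict f hf
  let ι : N →ₗ[R] Q ⊗[R] N := TensorProduct.mk R Q N 1
  -- the base-changed law
  have hνQ : PolLaw.IsNormic Q' (extLaw (f.restrictScalars R) hg (PolLaw.postcomp ι ν)) :=
    isNormic_extLaw R' Q' f hg _ (isNormic_postcomp R' ν hν.1 ι)
  obtain ⟨ψ, hψ, -⟩ := hν''.2 (Q ⊗[R] N) _ hνQ
  have hres : PolLaw.IsNormic R' (resLaw (f.restrictScalars R) ν'') :=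
    isNormic_resLaw R' Q' f ν'' hν''.1
  obtain ⟨u, hu, -⟩ := hν.2 N'' _ hres
  have hu' : PolLaw.postcomp u ν = resLaw (f.restrictScalars R) ν'' := hu
  have hψ' : PolLaw.postcomp ψ ν'' =
      extLaw (f.restrictScalars R) hg (PolLaw.postcomp ι ν) := hψ
  -- `ψ ∘ u = ι`
  have h1 : ψ.restrictScalars R ∘ₗ u = ι := by
    refine (hν.2 (Q ⊗[R] N) (PolLaw.postcomp ι ν) (isNormic_postcomp R' ν hν.1 ι)).unique ?_ rfl
    rw [postcomp_comp_lin, hu', ← resLaw_postcomp, hψ', resLaw_extLaw]
  have hQu : ∀ n : N, (u.liftBaseChange Q) ((1 : Q) ⊗ₜ[R] n) = u n := by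
    intro n
    rw [LinearMap.liftBaseChange_tmul, one_smul]
  have h2 : ∀ t : Q ⊗[R] N, ψ (u.liftBaseChange Q t) = t := by
    intro t
    induction t using TensorProduct.induction_on with
    | zero => simp
    | tmul q n =>
      rw [LinearMap.liftBaseChange_tmul, map_smul]
      have := LinearMap.congr_fun h1 n
      rw [LinearMap.comp_apply, LinearMap.restrictScalars_apply] at this
      rw [this]
      show q • ((1 : Q) ⊗ₜ[R] n) = _
      rw [TensorProduct.smul_tmul', smul_eq_mul, mul_one]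
    | add a b ha hb => simp only [map_add, ha, hb]
  -- `ν'' = ext (u ∘ ν)`
  have h3 : extLaw (f.restrictScalars R) hg (PolLaw.postcomp u ν) = ν'' := by
    rw [hu', extLaw_resLaw]
  have h4 : (u.liftBaseChange Q).restrictScalars R ∘ₗ ι = u := by
    apply LinearMap.ext
    intro n
    exact hQu n
  have h5 : (u.liftBaseChange Q) ∘ₗ ψ = LinearMap.id := by
    refine (hν''.2 N'' ν'' hν''.1).unique ?_ (postcomp_id_lin ν'')
    rw [postcomp_comp_lin, hψ', ← extLaw_postcomp, ← postcomp_comp_lin, h4, h3]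
  refine ⟨u, ?_, ?_⟩
  · intro P _ _ _ _ m
    rw [← h3, bcAlong_eq_ΞK, extLaw_toFun']
    unfold extFun
    rw [eM_ΞK, bcAlong_eq_ΞK]
    show ΞK R Q P LinearMap.id (u.lTensor P (ν.toFun' P m)) = _
    rw [ΞK_lTensor_pre]
    rfl
  · refine IsBaseChange.of_equiv
      (LinearEquiv.ofLinearMap (u.liftBaseChange Q) ψ h5 (LinearMap.ext h2)) (fun n => hQu n)

end Main

end Groth.Agent.Lib.Helper6.ZC
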