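import Mathlib
import Groth.Prelude.Def_PolLaw
import Groth.Prelude.Def_SymTen
import Groth.Prelude.Def_PolLaw2
import Groth.Agent.Lib.Helper6.ZC.NormDesc3

/-!
# The norm law `T^d(B) → Γ^d(B)`: statements (helper6)
-/

set_option autoImplicit false
set_option linter.unusedSectionVars false
set_option linter.unusedVariables false
set_option linter.unusedSimpArgs false
set_option linter.style.haveILetI false
set_option maxHeartbeats 400000
universe u
open scoped TensorProduct

namespace Groth.Agent.Lib.Helper6.ZC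

section Ground

variable {A : Type u} [CommRing A] {P B C : Type u} [CommRing P] [Algebra A P] [CommRing B]
  [Algebra A B] [CommRing C] [Algebra A C] (d : ℕ)
variable {I : Type u} [DecidableEq I] (e : Module.Basis I A P)

lemma lid_lTensor {M N : Type u} [AddCommGroup M] [Module A M] [AddCommGroup N] [Module A N]
    (g : M →ₗ[A] N) (y : A ⊗[A] M) :
    TensorProduct.lid A N (g.lTensor A y) = g (TensorProduct.lid A M y) := by
  induction y using TensorProduct.induction_on with
  | zero => simp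
  | tmul a m => simp
  | add x y hx hy => simp only [map_add, hx, hy]

/-- The ground-level norm `T^d(P) → TS^d(P)`. -/
noncomputable def nP (z : Tp A P d) : SymTen.TS A P d :=
  TensorProduct.lid A _ ((NPlaw d e).toFun' A ((1 : A) ⊗ₜ[A] z))

lemma prod_one_tmul {R : Type u} [CommRing R] [Algebra A R] {ι : Type*} (s : Finset ι)
    (x : ι → R) : ∏ i ∈ s, ((1 : A) ⊗ₜ[A] x i : A ⊗[A] R) = (1 : A) ⊗ₜ[A] ∏ i ∈ s, x i := by
  have : ∀ r : R, ((1 : A) ⊗ₜ[A] r : A ⊗[A] R) =
      (Algebra.TensorProduct.includeRight : R →ₐ[A] A ⊗[A] R) r := fun r => rfl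
  simp only [this]
  rw [map_prod]

lemma val_nP (z : Tp A P d) :
    ((nP d e z : SymTen.TS A P d) : Tp A P d) =
      ∏ σ : Equiv.Perm (Fin d), SymTen.perm A P d σ z := by
  have h := val_NPlaw d e A ((1 : A) ⊗ₜ[A] z)
  have h2 := congrArg (TensorProduct.lid A (Tp A P d)) h
  rw [lid_lTensor] at h2
  rw [nP]
  show (SymTen.TS A P d).val.toLinearMap _ = _
  rw [h2, symmLaw_toFun']
  simp only [Algebra.TensorProduct.map_tmul, AlgHom.id_apply]
  rw [prod_one_tmul, TensorProduct.lid_tmul, one_smul]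

lemma nP_val (t : SymTen.TS A P d) : nP d e (t : Tp A P d) = t ^ d.factorial := by
  apply Subtype.ext
  rw [val_nP]
  have : ∀ σ : Equiv.Perm (Fin d), SymTen.perm A P d σ (t : Tp A P d) = t := fun σ => by
    rw [SymTen.perm_apply]; exact t.2 σ
  simp only [this]
  rw [Finset.prod_const, Finset.card_univ, Fintype.card_perm, Fintype.card_fin]
  simp

variable (γ : PolLaw.MulLaw A B C d) (π : P →ₐ[A] B) (hπ : Function.Surjective π)

/-- The ground map of the norm law on the image of `T^d(P)`. -/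
theorem FM_ground_tmap (z : Tp A P d) :
    (FM d e γ π hπ).law.ground (SymTen.tmap A d π z) = fC d γ e π (nP d e z) := by
  show TensorProduct.lid A C ((Flaw d e γ π hπ).toFun' A
    ((TensorProduct.lid A (Tp A B d)).symm (SymTen.tmap A d π z))) = _
  have h1 : (TensorProduct.lid A (Tp A B d)).symm (SymTen.tmap A d π z) =
      (SymTen.tmap A d π).toLinearMap.lTensor A ((1 : A) ⊗ₜ[A] z) := by
    rw [TensorProduct.lid_symm_apply, LinearMap.lTensor_tmul]
    rfl
  rw [h1, Flaw_apply, Glaw_toFun', lid_lTensor]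
  rfl

lemma FM_ground_zero : (FM d e γ π hπ).law.ground 0 = 0 := by
  show TensorProduct.lid A C ((Flaw d e γ π hπ).toFun' A
    ((TensorProduct.lid A (Tp A B d)).symm 0)) = 0
  rw [map_zero]
  have h := (FM d e γ π hπ).homog A (0 : A) 0
  rw [smul_zero, zero_pow (Nat.factorial_ne_zero d), zero_smul] at h
  have h' : (Flaw d e γ π hπ).toFun' A 0 = 0 := h
  rw [h', map_zero]

end Ground

section Main

variable {A B C : Type u} [CommRing A] [CommRing B] [Algebra A B] [CommRing C] [Algebra A C]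
  {d : ℕ} {γ : PolLaw.MulLaw A B C d} {φ : C →ₐ[A] SymTen.TS A B d}
variable {P : Type u} [CommRing P] [Algebra A P] {I : Type u} [DecidableEq I]
  (e : Module.Basis I A P) (π : P →ₐ[A] B) (hπ : Function.Surjective π)

include hπ in
/-- `φ ∘ F = ∏ σ`. -/
theorem phi_FM_ground (hφ : HPhi d γ φ) (z : Tp A B d) :
    ((φ ((FM d e γ π hπ).law.ground z) : SymTen.TS A B d) : Tp A B d) =
      ∏ σ : Equiv.Perm (Fin d), SymTen.perm A B d σ z := by
  obtain ⟨z', rfl⟩ := tmap_surjective d π hπ z
  rw [FM_ground_tmap, phi_fC e π hφ, val_nP, map_prod]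
  refine Finset.prod_congr rfl fun σ _ => ?_
  rw [tmap_perm]

/-- `F ∘ φ = (·)^{d!}`. -/
theorem FM_ground_phi (hγ : PolLaw.IsGammaD γ) (hφ : HPhi d γ φ) (c : C) :
    (FM d e γ π hπ).law.ground ((φ c : SymTen.TS A B d) : Tp A B d) = c ^ d.factorial := by
  obtain ⟨t, rfl⟩ := fC_surjective e π hγ hπ c
  rw [phi_fC e π hφ, FM_ground_tmap, nP_val, map_pow]

end Main

section Statements

variable {A B C : Type u} [CommRing A] [CommRing B] [Algebra A B] [CommRing C] [Algebra A C]

/-- Existence of the norm law `T^d(B) → Γ^d(B)`. -/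
theorem exists_normLaw (d : ℕ) (γ : PolLaw.MulLaw A B C d) (hγ : PolLaw.IsGammaD γ)
    (φ : C →ₐ[A] SymTen.TS A B d) (hφ : HPhi d γ φ) :
    ∃ F : PolLaw.MulLaw A (⨂[A] _ : Fin d, B) C d.factorial,
      (∀ z : ⨂[A] _ : Fin d, B, ((SymTen.TS A B d).val (φ (F.law.ground z)) : ⨂[A] _ : Fin d, B) =
        ∏ σ : Equiv.Perm (Fin d), SymTen.perm A B d σ z) ∧
      (∀ c : C, F.law.ground ((φ c : SymTen.TS A B d) : ⨂[A] _ : Fin d, B) = c ^ d.factorial) ∧
      F.law.ground 0 = 0 := by
  classical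
  refine ⟨FM d (MvPolynomial.basisMonomials B A) γ (πB A B) (πB_surjective A B), ?_, ?_, ?_⟩
  · intro z
    exact phi_FM_ground (MvPolynomial.basisMonomials B A) (πB A B) (πB_surjective A B) hφ z
  · intro c
    exact FM_ground_phi (MvPolynomial.basisMonomials B A) (πB A B) (πB_surjective A B) hγ hφ c
  · exact FM_ground_zero d _ γ _ _

/-- `x^{d!} = 0` on the kernel and `y^{d!}` in the image. -/
theorem pow_factorial_ker_coker (d : ℕ) (γ : PolLaw.MulLaw A B C d) (hγ : PolLaw.IsGammaD γ)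
    (φ : C →ₐ[A] SymTen.TS A B d) (hφ : HPhi d γ φ) :
    (∀ x : C, φ x = 0 → x ^ d.factorial = 0) ∧
      (∀ y : SymTen.TS A B d, y ^ d.factorial ∈ φ.range) := by
  obtain ⟨F, h1, h2, h3⟩ := exists_normLaw d γ hγ φ hφ
  refine ⟨fun x hx => ?_, fun y => ?_⟩
  · rw [← h2 x, hx]
    exact h3
  · rw [AlgHom.mem_range]
    refine ⟨F.law.ground (y : ⨂[A] _ : Fin d, B), ?_⟩
    apply Subtype.ext
    have := h1 (y : ⨂[A] _ : Fin d, B)
    have hy : ∀ σ : Equiv.Perm (Fin d), SymTen.perm A B d σ (y : ⨂[A] _ : Fin d, B) = y :=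
      fun σ => by rw [SymTen.perm_apply]; exact y.2 σ
    simp only [hy] at this
    rw [Finset.prod_const, Finset.card_univ, Fintype.card_perm, Fintype.card_fin] at this
    rw [Subalgebra.coe_pow]
    exact this

end Statements

end Groth.Agent.Lib.Helper6.ZC
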