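import Mathlib
import Groth.Prelude.Def_PolLaw
import Groth.Prelude.Def_SymTen
import Groth.Prelude.Def_PolLaw2
import Groth.Agent.Lib.Helper6.ZC.NormFinal
import Groth.Agent.Lib.Helper6.PolyLawFam

/-!
# The norm law `TS^d(B) → Γ^d(B)` and the power laws (helper6)
-/

set_option autoImplicit false
set_option linter.unusedSectionVars false
set_option linter.unusedVariables false
set_option linter.unusedSimpArgs false
set_option linter.style.haveILetI false
set_option maxHeartbeats 400000
universe u
open scoped TensorProduct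

namespace Groth.Agent.Lib.Helper6.ZC

section LawLevel

variable {A B C : Type u} [CommRing A] [CommRing B] [Algebra A B] [CommRing C] [Algebra A C]
  {d : ℕ} {γ : PolLaw.MulLaw A B C d} {φ : C →ₐ[A] SymTen.TS A B d}
variable {P : Type u} [CommRing P] [Algebra A P] {I : Type u} [DecidableEq I]
  (e : Module.Basis I A P) (π : P →ₐ[A] B) (hπ : Function.Surjective π)

lemma map_perm_lTensor_val (R : Type u) [CommRing R] [Algebra A R] (S : Type u) [CommSemiring S]
    [Algebra A S] (σ : Equiv.Perm (Fin d)) (t : S ⊗[A] SymTen.TS A R d) :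
    Algebra.TensorProduct.map (AlgHom.id S S) (SymTen.perm A R d σ)
      ((SymTen.TS A R d).val.toLinearMap.lTensor S t) =
      (SymTen.TS A R d).val.toLinearMap.lTensor S t := by
  induction t using TensorProduct.induction_on with
  | zero => simp
  | tmul s m =>
    rw [LinearMap.lTensor_tmul, Algebra.TensorProduct.map_tmul, AlgHom.id_apply]
    congr 1
    rw [SymTen.perm_apply]
    exact m.2 σ
  | add x y hx hy => simp only [map_add, hx, hy]

lemma symmLaw_lTensor_val (R : Type u) [CommRing R] [Algebra A R] (S : Type u) [CommSemiring S]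
    [Algebra A S] (t : S ⊗[A] SymTen.TS A R d) :
    (SymTen.symmLaw A R d).law.toFun' S ((SymTen.TS A R d).val.toLinearMap.lTensor S t) =
      (SymTen.TS A R d).val.toLinearMap.lTensor S (t ^ d.factorial) := by
  rw [symmLaw_toFun']
  simp only [map_perm_lTensor_val]
  rw [Finset.prod_const, Finset.card_univ, Fintype.card_perm, Fintype.card_fin,
    PolLaw.lTensor_algHom_apply, PolLaw.lTensor_algHom_apply, map_pow]

lemma phi_fC_lTensor (hφ : HPhi d γ φ) (S : Type u) [CommSemiring S] [Algebra A S]
    (t : S ⊗[A] SymTen.TS A P d) :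
    ((SymTen.TS A B d).val.comp φ).toLinearMap.lTensor S
        ((fC d γ e π).toLinearMap.lTensor S t) =
      (SymTen.tmap A d π).toLinearMap.lTensor S ((SymTen.TS A P d).val.toLinearMap.lTensor S t) := by
  have h : ((SymTen.TS A B d).val.comp φ).toLinearMap ∘ₗ (fC d γ e π).toLinearMap =
      (SymTen.tmap A d π).toLinearMap ∘ₗ (SymTen.TS A P d).val.toLinearMap :=
    LinearMap.ext fun t => phi_fC e π hφ t
  rw [← LinearMap.comp_apply, ← LinearMap.lTensor_comp, h, LinearMap.lTensor_comp,
    LinearMap.comp_apply]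

include hπ in
/-- Law-level version of `φ ∘ F = ∏ σ`. -/
theorem val_phi_Flaw (hφ : HPhi d γ φ) (S : Type u) [CommSemiring S] [Algebra A S]
    (x : S ⊗[A] Tp A B d) :
    ((SymTen.TS A B d).val.comp φ).toLinearMap.lTensor S ((Flaw d e γ π hπ).toFun' S x) =
      (SymTen.symmLaw A B d).law.toFun' S x := by
  obtain ⟨z, rfl⟩ := LinearMap.lTensor_surjective S (g := (SymTen.tmap A d π).toLinearMap)
    (tmap_surjective d π hπ) x
  rw [Flaw_apply, Glaw_toFun', phi_fC_lTensor e π hφ, val_NPlaw, tmap_symmLaw]

/-- Law-level version of `F ∘ φ = (·)^{d!}`. -/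
theorem Flaw_val_phi (hγ : PolLaw.IsGammaD γ) (hφ : HPhi d γ φ) (S : Type u) [CommSemiring S]
    [Algebra A S] (c : S ⊗[A] C) :
    (Flaw d e γ π hπ).toFun' S (((SymTen.TS A B d).val.comp φ).toLinearMap.lTensor S c) =
      c ^ d.factorial := by
  obtain ⟨t, rfl⟩ := LinearMap.lTensor_surjective S (g := (fC d γ e π).toLinearMap)
    (fC_surjective e π hγ hπ) c
  rw [phi_fC_lTensor e π hφ, Flaw_apply, Glaw_toFun']
  have h1 : (NPlaw d e).toFun' S ((SymTen.TS A P d).val.toLinearMap.lTensor S t) =
      t ^ d.factorial := by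
    apply lTensor_val_injective d e S
    rw [val_NPlaw, symmLaw_lTensor_val]
  rw [h1, PolLaw.lTensor_algHom_apply, PolLaw.lTensor_algHom_apply, map_pow]

end LawLevel

section Statement

variable {A B C : Type u} [CommRing A] [CommRing B] [Algebra A B] [CommRing C] [Algebra A C]

/-- There is a multiplicative law `TS^d(B) → Γ^d(B)` of degree `d!` whose composites with `φ`
are the `d!`-th power laws. -/
theorem exists_normLaw_TS (d : ℕ) (γ : PolLaw.MulLaw A B C d) (hγ : PolLaw.IsGammaD γ)
    (φ : C →ₐ[A] SymTen.TS A B d) (hφ : HPhi d γ φ) :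
    ∃ F : PolLaw.MulLaw A (SymTen.TS A B d) C d.factorial,
      PolLaw.MulLaw.postcomp φ F = PolLaw.MulLaw.pow A (SymTen.TS A B d) d.factorial ∧
      PolLaw.MulLaw.precomp F φ = PolLaw.MulLaw.pow A C d.factorial := by
  classical
  set e := MvPolynomial.basisMonomials B A with he
  set F₀ := FM d e γ (πB A B) (πB_surjective A B) with hF₀
  refine ⟨F₀.precomp (SymTen.TS A B d).val, ?_, ?_⟩
  · apply PolLaw.MulLaw.ext
    apply Groth.Agent.Lib.Helper6.PolyLawFam.law_ext
    intro n
    funext y
    set S := MvPolynomial (Fin n) A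
    have hinj : Function.Injective ((SymTen.TS A B d).val.toLinearMap.lTensor S) :=
      Module.Flat.lTensor_preserves_injective_linearMap _ Subtype.val_injective
    apply hinj
    show (SymTen.TS A B d).val.toLinearMap.lTensor S (φ.toLinearMap.lTensor S
      ((Flaw d e γ (πB A B) (πB_surjective A B)).toFun' S
        ((SymTen.TS A B d).val.toLinearMap.lTensor S y))) =
      (SymTen.TS A B d).val.toLinearMap.lTensor S (y ^ d.factorial)
    have h1 := val_phi_Flaw e (πB A B) (πB_surjective A B) hφ S
      ((SymTen.TS A B d).val.toLinearMap.lTensor S y)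
    have h2 : ((SymTen.TS A B d).val.comp φ).toLinearMap =
        (SymTen.TS A B d).val.toLinearMap ∘ₗ φ.toLinearMap := rfl
    rw [h2, LinearMap.lTensor_comp, LinearMap.comp_apply] at h1
    rw [h1, symmLaw_lTensor_val]
  · apply PolLaw.MulLaw.ext
    ext S _ _ c
    show (Flaw d e γ (πB A B) (πB_surjective A B)).toFun' S
      ((SymTen.TS A B d).val.toLinearMap.lTensor S (φ.toLinearMap.lTensor S c)) = c ^ d.factorial
    have h1 := Flaw_val_phi e (πB A B) (πB_surjective A B) hγ hφ S c
    have h2 : ((SymTen.TS A B d).val.comp φ).toLinearMap =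
        (SymTen.TS A B d).val.toLinearMap ∘ₗ φ.toLinearMap := rfl
    rw [h2, LinearMap.lTensor_comp, LinearMap.comp_apply] at h1
    exact h1

end Statement

end Groth.Agent.Lib.Helper6.ZC
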