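import Mathlib
import Groth.Prelude.Def_PolLaw
import Groth.Agent.Lib.Helper6.ZC.Fibre

/-!
# Semilocal base: the image of a family of zero cycles is semilocal (helper6)
-/

set_option autoImplicit false
set_option linter.unusedSectionVars false
set_option linter.unusedVariables false
set_option linter.unusedSimpArgs false
set_option linter.style.haveILetI false
set_option maxHeartbeats 400000
universe u
open scoped TensorProduct
open Polynomial

namespace Groth.Agent.Lib.Helper6.ZC

section Semilocal

variable {A : Type u} [CommRing A] {B : Type u} [CommRing B] [Algebra A B] {d : ℕ}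
variable (F : PolLaw.MulLaw A B A d)

/-- `S13724`. -/
theorem finite_maximalSpectrum_image [Finite (MaximalSpectrum A)] :
    Finite (MaximalSpectrum (PolLaw.image F.law)) := by
  haveI := image_isIntegral F
  have hfib : ∀ p : PrimeSpectrum A,
      (PrimeSpectrum.comap (algebraMap A (PolLaw.image F.law)) ⁻¹' {p}).Finite := by
    intro p
    have h1 : Finite (PrimeSpectrum (p.asIdeal.ResidueField ⊗[A] PolLaw.image F.law)) :=
      (card_primeSpectrum_fibre_le F p.asIdeal.ResidueField).1
    exact Set.finite_coe_iff.mp (Finite.of_equiv _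
      (PrimeSpectrum.preimageOrderIsoFiber A (PolLaw.image F.law) p).symm.toEquiv)
  have hU : (⋃ m : MaximalSpectrum A,
      PrimeSpectrum.comap (algebraMap A (PolLaw.image F.law)) ⁻¹' {m.toPrimeSpectrum}).Finite :=
    Set.finite_iUnion (fun m => hfib _)
  have hmem : ∀ M : MaximalSpectrum (PolLaw.image F.law), M.toPrimeSpectrum ∈
      ⋃ m : MaximalSpectrum A,
        PrimeSpectrum.comap (algebraMap A (PolLaw.image F.law)) ⁻¹' {m.toPrimeSpectrum} := by
    intro M
    haveI := M.isMaximal
    have hmax : (M.asIdeal.comap (algebraMap A (PolLaw.image F.law))).IsMaximal :=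
      Ideal.isMaximal_comap_of_isIntegral_of_isMaximal _
    rw [Set.mem_iUnion]
    exact ⟨⟨_, hmax⟩, rfl⟩
  haveI := hU.to_subtype
  refine Finite.of_injective (fun M => (⟨M.toPrimeSpectrum, hmem M⟩ :
    ↥(⋃ m : MaximalSpectrum A,
      PrimeSpectrum.comap (algebraMap A (PolLaw.image F.law)) ⁻¹' {m.toPrimeSpectrum}))) ?_
  intro M M' h
  have h1 : M.toPrimeSpectrum = M'.toPrimeSpectrum := congrArg Subtype.val h
  exact MaximalSpectrum.toPrimeSpectrum_injective h1

end Semilocal

end Groth.Agent.Lib.Helper6.ZC
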