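import Mathlib
import Groth.Prelude.Def_PolLaw
import Groth.Agent.Lib.Helper6.ZC.Fibre

/-!
# Residue fields of the image of a family of zero cycles over a field (helper6)
-/

set_option autoImplicit false
set_option linter.unusedSectionVars false
set_option linter.unusedVariables false
set_option linter.unusedSimpArgs false
set_option linter.style.haveILetI false
set_option maxHeartbeats 400000
universe u
open scoped TensorProduct
open Polynomial

namespace Groth.Agent.Lib.Helper6.ZC

section SepDeg

variable {k : Type u} [Field k] {R : Type u} [CommRing R] [Algebra k R]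
variable (P : Ideal R) [P.IsPrime]

/-- The map `Ω ⊗ R → Ω` attached to an embedding of the residue field. -/
noncomputable def psiEmb (σ : Field.Emb k P.ResidueField) :
    (AlgebraicClosure P.ResidueField) ⊗[k] R →ₐ[k] AlgebraicClosure P.ResidueField :=
  Algebra.TensorProduct.productMap (AlgHom.id k _)
    (σ.comp (IsScalarTower.toAlgHom k R P.ResidueField))

lemma psiEmb_tmul (σ : Field.Emb k P.ResidueField) (ω : AlgebraicClosure P.ResidueField) (r : R) :
    psiEmb P σ (ω ⊗ₜ[k] r) = ω * σ (algebraMap R P.ResidueField r) := by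
  rw [psiEmb, Algebra.TensorProduct.productMap_apply_tmul]
  rfl

/-- The point of `Spec (Ω ⊗ R)` attached to an embedding of the residue field. -/
noncomputable def pointEmb (σ : Field.Emb k P.ResidueField) :
    PrimeSpectrum ((AlgebraicClosure P.ResidueField) ⊗[k] R) :=
  ⟨RingHom.ker (psiEmb P σ).toRingHom, RingHom.ker_isPrime _⟩

lemma pointEmb_injective : Function.Injective (pointEmb (k := k) P) := by
  intro σ σ' h
  have hker : RingHom.ker (psiEmb P σ).toRingHom =
      RingHom.ker (psiEmb P σ').toRingHom :=
    congrArg PrimeSpectrum.asIdeal h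
  have h1 : ∀ x, psiEmb P σ' x = psiEmb P σ x := by
    intro x
    have h2 : x - (psiEmb P σ x) ⊗ₜ[k] (1 : R) ∈
        RingHom.ker (psiEmb P σ).toRingHom := by
      rw [RingHom.mem_ker]
      show psiEmb P σ (x - (psiEmb P σ x) ⊗ₜ[k] (1 : R)) = 0
      rw [map_sub, psiEmb_tmul, map_one, map_one, mul_one, sub_self]
    rw [hker, RingHom.mem_ker] at h2
    have h3 : psiEmb P σ' (x - (psiEmb P σ x) ⊗ₜ[k] (1 : R)) = 0 := h2
    rw [map_sub, psiEmb_tmul, map_one, map_one, mul_one, sub_eq_zero] at h3
    exact h3
  apply Ideal.ResidueField.algHom_ext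
  apply AlgHom.ext
  intro r
  have h4 := h1 ((1 : AlgebraicClosure P.ResidueField) ⊗ₜ[k] r)
  rw [psiEmb_tmul, psiEmb_tmul, one_mul, one_mul] at h4
  exact h4.symm

end SepDeg

section Main

variable {k : Type u} [Field k] {B : Type u} [CommRing B] [Algebra k B] {d : ℕ}
variable (F : PolLaw.MulLaw k B k d)

/-- `S13707`. -/
theorem finite_spec_image_field :
    Finite (PrimeSpectrum (PolLaw.image F.law)) ∧
      Nat.card (PrimeSpectrum (PolLaw.image F.law)) ≤ d ∧
      ∀ P : PrimeSpectrum (PolLaw.image F.law), P.asIdeal.IsMaximal ∧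
        Finite (Field.Emb k P.asIdeal.ResidueField) := by
  obtain ⟨h1, h2⟩ := card_primeSpectrum_image_le F
  refine ⟨h1, h2, fun P => ⟨isMaximal_of_prime_image F P, ?_⟩⟩
  obtain ⟨h3, _⟩ := card_primeSpectrum_fibre_le F (AlgebraicClosure P.asIdeal.ResidueField)
  exact Finite.of_injective _ (pointEmb_injective (k := k) P.asIdeal)

end Main

end Groth.Agent.Lib.Helper6.ZC
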