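import Mathlib
import Groth.Prelude.Def_PolLaw
import Groth.Agent.Lib.Helper6.ZC.Rel
import Groth.Agent.Lib.Helper6.PolyLawFam

/-!
# Multiplicative laws on a split algebra (helper6)

If `T ⊗ B ≃ T^d` and `F : B → A` is a multiplicative law of degree `d` with nil kernel, then over
every `T`-algebra `F` is the product of the `d` coordinates.  Consequences: the norm law of a
finite étale algebra of rank `d` has zero kernel and is the unique multiplicative law of degree `d`
with nil kernel.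
-/

set_option autoImplicit false
set_option linter.unusedSectionVars false
set_option linter.unusedVariables false
set_option linter.unusedSimpArgs false
set_option linter.style.haveILetI false
set_option maxHeartbeats 800000
set_option synthInstance.maxHeartbeats 400000
universe u
open scoped TensorProduct
open Polynomial

namespace Groth.Agent.Lib.Helper6.ZC

section RingLemmas

lemma prod_one_sub_add {R : Type*} [CommRing R] {ι : Type*} (e a : ι → R)
    (horth : ∀ i j, i ≠ j → e i * e j = 0) (J : Finset ι) :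
    ∏ i ∈ J, (1 - e i + a i * e i) = 1 - ∑ i ∈ J, e i + ∑ i ∈ J, a i * e i := by
  classical
  induction J using Finset.induction_on with
  | empty => simp
  | insert k J hk ih =>
    rw [Finset.prod_insert hk, Finset.sum_insert hk, Finset.sum_insert hk, ih]
    have h1 : e k * ∑ i ∈ J, e i = 0 := by
      rw [Finset.mul_sum]
      exact Finset.sum_eq_zero fun i hi => horth k i (fun h => hk (by rw [h]; exact hi))
    have h2 : e k * ∑ i ∈ J, a i * e i = 0 := by
      rw [Finset.mul_sum]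
      refine Finset.sum_eq_zero fun i hi => ?_
      have h3 := horth k i (fun h => hk (by rw [h]; exact hi))
      have h4 : e k * (a i * e i) = a i * (e k * e i) := by ring
      rw [h4, h3, mul_zero]
    linear_combination (1 - a k) * h1 + (a k - 1) * h2

theorem coeff_mul_coeff {R : Type u} [CommRing R] (P : R[X])
    (hmul : aeval (Polynomial.C (X : R[X]) : R[X][X]) P * aeval (X : R[X][X]) P =
      aeval (Polynomial.C (X : R[X]) * X : R[X][X]) P) (k l : ℕ) :
    P.coeff k * P.coeff l = if k = l then P.coeff l else 0 := by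
  rw [aeval_CX, aeval_X', aeval_comp'] at hmul
  have h2 := congrArg (fun p => (p.coeff l).coeff k) hmul
  simp only [Polynomial.coeff_C_mul, Polynomial.coeff_map, Polynomial.comp_C_mul_X_coeff,
    Polynomial.coeff_mul_C, Polynomial.coeff_C_mul, Polynomial.coeff_X_pow] at h2
  rw [h2]
  split_ifs <;> simp

lemma norm_pi {R : Type*} [CommRing R] {m : ℕ} (f : Fin m → R) :
    Algebra.norm R f = ∏ i, f i := by
  rw [Algebra.norm_eq_matrix_det (Pi.basisFun R (Fin m))]
  have h : Algebra.leftMulMatrix (Pi.basisFun R (Fin m)) f = Matrix.diagonal f := by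
    ext i j
    rw [Algebra.leftMulMatrix_eq_repr_mul, Pi.basisFun_repr, Pi.basisFun_apply,
      Matrix.diagonal_apply, Pi.mul_apply, Pi.single_apply]
    split_ifs <;> simp
  rw [h, Matrix.det_diagonal]

lemma fun_mul_single {R : Type*} [CommRing R] {m : ℕ} (f : Fin m → R) (i : Fin m) :
    f * Pi.single i (1 : R) = Pi.single i (f i) := by
  ext j
  rw [Pi.mul_apply, Pi.single_apply, Pi.single_apply]
  split_ifs with h
  · rw [h, mul_one]
  · rw [mul_zero]

end RingLemmas

section Split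

variable {A : Type u} [CommRing A] {B : Type u} [CommRing B] [Algebra A B]
variable {T : Type u} [CommRing T] [Algebra A T] {m : ℕ}
variable (E : T ⊗[A] B ≃ₐ[T] (Fin m → T))

/-- The standard idempotents of a split algebra. -/
noncomputable def idm (i : Fin m) : T ⊗[A] B := E.symm (Pi.single i 1)

lemma E_idm (i : Fin m) : E (idm E i) = Pi.single i 1 := E.apply_symm_apply _

lemma idm_mul_self (i : Fin m) : idm E i * idm E i = idm E i := by
  apply E.injective
  rw [map_mul, E_idm, fun_mul_single, Pi.single_eq_same]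

lemma idm_orth (i j : Fin m) (h : i ≠ j) : idm E i * idm E j = 0 := by
  apply E.injective
  rw [map_mul, E_idm, E_idm, fun_mul_single, Pi.single_eq_of_ne h.symm, Pi.single_zero, map_zero]

lemma sum_idm : ∑ i, idm E i = 1 := by
  apply E.injective
  rw [map_sum, map_one]
  simp only [E_idm]
  exact Finset.univ_sum_single (1 : Fin m → T)

lemma E_tmul_one_apply (t : T) (j : Fin m) : E (t ⊗ₜ[A] (1 : B)) j = t := by
  have h : algebraMap T (T ⊗[A] B) t = t ⊗ₜ[A] (1 : B) := rfl
  rw [← h, E.commutes]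
  simp

lemma E_smul_idm (t : T) (i : Fin m) :
    E ((t ⊗ₜ[A] (1 : B)) * idm E i) = Pi.single i t := by
  rw [map_mul, E_idm, fun_mul_single, E_tmul_one_apply]

lemma mul_idm (z : T ⊗[A] B) (i : Fin m) :
    z * idm E i = ((E z i) ⊗ₜ[A] (1 : B)) * idm E i := by
  apply E.injective
  rw [E_smul_idm, map_mul, E_idm, fun_mul_single]

lemma E_tmul (t : T) (b : B) (i : Fin m) :
    E (t ⊗ₜ[A] b) i = t * E ((1 : T) ⊗ₜ[A] b) i := by
  have h : t ⊗ₜ[A] b = t • ((1 : T) ⊗ₜ[A] b) := by
    rw [TensorProduct.smul_tmul', smul_eq_mul, mul_one]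
  rw [h, map_smul, Pi.smul_apply, smul_eq_mul]

lemma prod_E_one_sub (i : Fin m) : ∏ j, E (1 - idm E i) j = 0 := by
  apply Finset.prod_eq_zero (Finset.mem_univ i)
  simp only [map_sub, map_one, E_idm, Pi.sub_apply, Pi.one_apply, Pi.single_eq_same, sub_self]

lemma prod_E_perturb (i : Fin m) (z : T ⊗[A] B) :
    ∏ j, E (1 - idm E i + idm E i * z) j = E z i := by
  rw [Finset.prod_eq_single i]
  · simp only [map_add, map_sub, map_one, map_mul, E_idm, Pi.add_apply, Pi.sub_apply,
      Pi.one_apply, Pi.mul_apply, Pi.single_eq_same, sub_self, zero_add, one_mul]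
  · intro j _ hj
    simp only [map_add, map_sub, map_one, map_mul, E_idm, Pi.add_apply, Pi.sub_apply,
      Pi.one_apply, Pi.mul_apply, Pi.single_eq_of_ne hj, sub_zero, zero_mul, add_zero]
  · intro h
    exact absurd (Finset.mem_univ i) h

/-- The `i`-th point `B → T` of a split algebra. -/
noncomputable def pt (i : Fin m) : B →ₐ[A] T :=
  (((Pi.evalAlgHom T (fun _ : Fin m => T) i).comp E.toAlgHom).restrictScalars A).comp
    (Algebra.TensorProduct.includeRight : B →ₐ[A] T ⊗[A] B)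

lemma pt_apply (i : Fin m) (b : B) : pt E i b = E ((1 : T) ⊗ₜ[A] b) i := rfl

variable {S' : Type u} [CommRing S'] [Algebra A S'] (ψ : T →ₐ[A] S')

/-- The `i`-th coordinate `S' ⊗ B → S'` over a `T`-algebra `S'`. -/
noncomputable def crd (i : Fin m) : S' ⊗[A] B →ₐ[A] S' :=
  Algebra.TensorProduct.productMap (AlgHom.id A S') (ψ.comp (pt E i))

lemma crd_tmul (i : Fin m) (s : S') (b : B) :
    crd E ψ i (s ⊗ₜ[A] b) = s * ψ (E ((1 : T) ⊗ₜ[A] b) i) := rfl

lemma crd_bc (i : Fin m) (z : T ⊗[A] B) : crd E ψ i (bc B ψ z) = ψ (E z i) := by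
  induction z using TensorProduct.induction_on with
  | zero => simp
  | tmul t b => rw [bc_tmul, crd_tmul, E_tmul E t b i, map_mul]
  | add x y hx hy => simp only [map_add, Pi.add_apply, hx, hy]

lemma mul_idm' (i : Fin m) (x : S' ⊗[A] B) :
    x * bc B ψ (idm E i) = ((crd E ψ i x) ⊗ₜ[A] (1 : B)) * bc B ψ (idm E i) := by
  induction x using TensorProduct.induction_on with
  | zero => simp
  | tmul s b =>
    have h1 : s ⊗ₜ[A] b = (s ⊗ₜ[A] (1 : B)) * bc B ψ ((1 : T) ⊗ₜ[A] b) := by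
      rw [bc_tmul, map_one, Algebra.TensorProduct.tmul_mul_tmul, mul_one, one_mul]
    have h2 : bc B ψ ((1 : T) ⊗ₜ[A] b) * bc B ψ (idm E i) =
        ((ψ (E ((1 : T) ⊗ₜ[A] b) i)) ⊗ₜ[A] (1 : B)) * bc B ψ (idm E i) := by
      rw [← map_mul, mul_idm E, map_mul, bc_tmul]
    rw [crd_tmul, tmul_one_mul, mul_assoc, ← h2, ← mul_assoc, ← h1]
  | add x y hx hy => rw [add_mul, hx, hy, map_add, TensorProduct.add_tmul, add_mul]

lemma bc_idm_orth (i j : Fin m) (h : i ≠ j) : bc B ψ (idm E i) * bc B ψ (idm E j) = 0 := by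
  rw [← map_mul, idm_orth E i j h, map_zero]

lemma sum_bc_idm : ∑ i, bc B ψ (idm E i) = 1 := by
  rw [← map_sum, sum_idm, map_one]

lemma eq_prod_gE (x : S' ⊗[A] B) :
    x = ∏ i, gE ψ (idm E i) (crd E ψ i x) := by
  have h : ∏ i, (1 - bc B ψ (idm E i) + ((crd E ψ i x) ⊗ₜ[A] (1 : B)) * bc B ψ (idm E i)) =
      1 - ∑ i, bc B ψ (idm E i) + ∑ i, ((crd E ψ i x) ⊗ₜ[A] (1 : B)) * bc B ψ (idm E i) :=
    prod_one_sub_add (fun i => bc B ψ (idm E i)) (fun i => (crd E ψ i x) ⊗ₜ[A] (1 : B))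
      (fun i j hij => bc_idm_orth E ψ i j hij) Finset.univ
  have h2 : ∑ i, ((crd E ψ i x) ⊗ₜ[A] (1 : B)) * bc B ψ (idm E i) = x := by
    have h3 : ∀ i ∈ Finset.univ, ((crd E ψ i x) ⊗ₜ[A] (1 : B)) * bc B ψ (idm E i) =
        x * bc B ψ (idm E i) := fun i _ => (mul_idm' E ψ i x).symm
    rw [Finset.sum_congr rfl h3, ← Finset.mul_sum, sum_bc_idm, mul_one]
  rw [sum_bc_idm, h2] at h
  show x = ∏ i, (1 - bc B ψ (idm E i) + ((crd E ψ i x) ⊗ₜ[A] (1 : B)) * bc B ψ (idm E i))
  rw [h]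
  ring

end Split

section Law

variable {A : Type u} [CommRing A] {B : Type u} [CommRing B] [Algebra A B] {d : ℕ}
variable (F : PolLaw.MulLaw A B A d)
variable {T : Type u} [CommRing T] [Algebra A T]

lemma Fh_prod {S : Type u} [CommRing S] [Algebra A S] {ι : Type*} (J : Finset ι)
    (f : ι → S ⊗[A] B) :
    Fh F.law S (∏ i ∈ J, f i) = ∏ i ∈ J, Fh F.law S (f i) := by
  classical
  induction J using Finset.induction_on with
  | empty => rw [Finset.prod_empty, Finset.prod_empty, Fh_one]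
  | insert k J hk ih => rw [Finset.prod_insert hk, Finset.prod_insert hk, Fh_mul, ih]

lemma Fh_tmul_mul {S : Type u} [CommRing S] [Algebra A S] (s : S) (x : S ⊗[A] B) :
    Fh F.law S ((s ⊗ₜ[A] (1 : B)) * x) = s ^ d * Fh F.law S x := by
  rw [Fh_mul, Fh_tmul_one]

lemma Pe_zero : Pe F (0 : T ⊗[A] B) = 1 := by
  have h : gE (Polynomial.CAlgHom (R := A) (A := T)) (0 : T ⊗[A] B) Polynomial.X = 1 := by
    rw [gE, map_zero, mul_zero, sub_zero, add_zero]
  rw [Pe, h, Fh_one]

lemma Pe_sum {ι : Type*} (e : ι → T ⊗[A] B) (horth : ∀ i j, i ≠ j → e i * e j = 0)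
    (J : Finset ι) : Pe F (∑ i ∈ J, e i) = ∏ i ∈ J, Pe F (e i) := by
  classical
  induction J using Finset.induction_on with
  | empty => rw [Finset.sum_empty, Finset.prod_empty, Pe_zero]
  | insert k J hk ih =>
    rw [Finset.sum_insert hk, Finset.prod_insert hk, ← ih]
    apply Pe_add
    have h1 : e k * ∑ i ∈ J, e i = 0 := by
      rw [Finset.mul_sum]
      exact Finset.sum_eq_zero fun i hi => horth k i (fun h => hk (by rw [h]; exact hi))
    rw [h1]
    exact (relKer F T).zero_mem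

lemma Pe_coeff_zero (e : T ⊗[A] B) : (Pe F e).coeff 0 = Fh F.law T (1 - e) := by
  rw [Polynomial.coeff_zero_eq_eval_zero]
  have h := eval₂_Pe F (AlgHom.id A T) 0 e
  have h2 : gE (AlgHom.id A T) e (0 : T) = 1 - e := by
    rw [gE, bc_id, TensorProduct.zero_tmul, zero_mul, add_zero]
  rw [h2] at h
  exact h

lemma C_mul_Pe {e : T ⊗[A] B} (he : e * e = e) :
    Polynomial.C (Fh F.law T (1 - e)) * Pe F e = Polynomial.C (Fh F.law T (1 - e)) := by
  have h1 : Polynomial.C (Fh F.law T (1 - e)) =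
      Fh F.law (Polynomial T) (bc B (Polynomial.CAlgHom (R := A) (A := T)) (1 - e)) :=
    Fh_natural F.law (Polynomial.CAlgHom (R := A) (A := T)) (1 - e)
  rw [h1, Pe, ← Fh_mul]
  congr 1
  have he' : bc B (Polynomial.CAlgHom (R := A) (A := T)) e *
      bc B (Polynomial.CAlgHom (R := A) (A := T)) e =
      bc B (Polynomial.CAlgHom (R := A) (A := T)) e := by rw [← map_mul, he]
  rw [gE, map_sub, map_one]
  linear_combination (1 - (Polynomial.X : Polynomial T) ⊗ₜ[A] (1 : B)) * he'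

lemma Fh_idem_split {S : Type u} [CommRing S] [Algebra A S] (hd : d ≠ 0) {γ : S}
    (hγ : γ * γ = γ) (y : S ⊗[A] B) :
    Fh F.law S ((1 - γ ⊗ₜ[A] (1 : B)) + (γ ⊗ₜ[A] (1 : B)) * y) =
      γ * Fh F.law S y + (1 - γ) := by
  have hγi : IsIdempotentElem γ := hγ
  have hp1 : γ ^ d = γ := by
    obtain ⟨d', hd'⟩ := Nat.exists_eq_succ_of_ne_zero hd
    rw [hd']
    exact hγi.pow_succ_eq d'
  have hp2 : (1 - γ) ^ d = 1 - γ := by
    obtain ⟨d', hd'⟩ := Nat.exists_eq_succ_of_ne_zero hd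
    rw [hd']
    exact hγi.one_sub.pow_succ_eq d'
  have hff : (γ ⊗ₜ[A] (1 : B)) * (γ ⊗ₜ[A] (1 : B)) = γ ⊗ₜ[A] (1 : B) := by
    rw [Algebra.TensorProduct.tmul_mul_tmul, hγ, mul_one]
  have h1 : (γ ⊗ₜ[A] (1 : B)) * ((1 - γ ⊗ₜ[A] (1 : B)) + (γ ⊗ₜ[A] (1 : B)) * y) =
      (γ ⊗ₜ[A] (1 : B)) * y := by
    linear_combination (y - 1) * hff
  have h3 : (1 - γ) ⊗ₜ[A] (1 : B) = 1 - γ ⊗ₜ[A] (1 : B) := by
    rw [TensorProduct.sub_tmul, Algebra.TensorProduct.one_def]
  have h2 : ((1 - γ) ⊗ₜ[A] (1 : B)) * ((1 - γ ⊗ₜ[A] (1 : B)) + (γ ⊗ₜ[A] (1 : B)) * y) =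
      (1 - γ) ⊗ₜ[A] (1 : B) := by
    rw [h3]
    linear_combination (1 - y) * hff
  have k1 : γ * Fh F.law S ((1 - γ ⊗ₜ[A] (1 : B)) + (γ ⊗ₜ[A] (1 : B)) * y) =
      γ * Fh F.law S y := by
    have e1 := Fh_tmul_mul F γ ((1 - γ ⊗ₜ[A] (1 : B)) + (γ ⊗ₜ[A] (1 : B)) * y)
    have e2 := Fh_tmul_mul F γ y
    rw [h1, e2, hp1] at e1
    exact e1.symm
  have k2 : (1 - γ) * Fh F.law S ((1 - γ ⊗ₜ[A] (1 : B)) + (γ ⊗ₜ[A] (1 : B)) * y) =
      1 - γ := by
    have e1 := Fh_tmul_mul F (1 - γ) ((1 - γ ⊗ₜ[A] (1 : B)) + (γ ⊗ₜ[A] (1 : B)) * y)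
    rw [h2, Fh_tmul_one, hp2] at e1
    exact e1.symm
  linear_combination k1 + k2

lemma Fh_one_sub_mul_self (e : T ⊗[A] B) (he : e * e = e) :
    Fh F.law T (1 - e) * Fh F.law T (1 - e) = Fh F.law T (1 - e) := by
  rw [← Fh_mul]
  congr 1
  linear_combination he

lemma Pe_smul_idem (hd : d ≠ 0) {e : T ⊗[A] B} (he : e * e = e) :
    Pe F (((Fh F.law T (1 - e)) ⊗ₜ[A] (1 : B)) * e) = 1 := by
  have hc := Fh_one_sub_mul_self F e he
  have hγ : (Polynomial.C (Fh F.law T (1 - e)) : Polynomial T) *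
      Polynomial.C (Fh F.law T (1 - e)) = Polynomial.C (Fh F.law T (1 - e)) := by
    rw [← Polynomial.C_mul, hc]
  have hCA : ∀ t : T, (Polynomial.CAlgHom (R := A) (A := T)) t = Polynomial.C t := fun t => rfl
  have h1 : gE (Polynomial.CAlgHom (R := A) (A := T))
      (((Fh F.law T (1 - e)) ⊗ₜ[A] (1 : B)) * e) Polynomial.X =
      (1 - (Polynomial.C (Fh F.law T (1 - e))) ⊗ₜ[A] (1 : B)) +
        ((Polynomial.C (Fh F.law T (1 - e))) ⊗ₜ[A] (1 : B)) *
          gE (Polynomial.CAlgHom (R := A) (A := T)) e Polynomial.X := by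
    rw [gE, gE, map_mul, bc_tmul, hCA]
    ring
  have h2 := C_mul_Pe F he
  rw [Pe] at h2
  rw [Pe, h1, Fh_idem_split F hd hγ, h2]
  ring

lemma extKer_le_nilradical (hker : PolLaw.ker F.law ≤ nilradical B) (S : Type u) [CommRing S]
    [Algebra A S] : extKer F.law S ≤ nilradical (S ⊗[A] B) := by
  refine Ideal.map_le_iff_le_comap.mpr ?_
  intro b hb
  rw [Ideal.mem_comap, mem_nilradical]
  exact (mem_nilradical.mp (hker hb)).map _

lemma idem_eq_zero_of_mem_relKer (hker : PolLaw.ker F.law ≤ nilradical B) {z : T ⊗[A] B}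
    (hz : z * z = z) (hmem : z ∈ relKer F T) : z = 0 := by
  obtain ⟨n, hn⟩ := Ideal.mem_radical_iff.mp (relKer_le_radical F T hmem)
  obtain ⟨k, hk⟩ := mem_nilradical.mp (extKer_le_nilradical F hker T hn)
  have h3 : IsNilpotent z := ⟨n * k, by rw [pow_mul]; exact hk⟩
  exact IsIdempotentElem.eq_zero_of_isNilpotent hz h3

lemma smul_idem_eq_zero (hd : d ≠ 0) (hker : PolLaw.ker F.law ≤ nilradical B) {e : T ⊗[A] B}
    (he : e * e = e) : ((Fh F.law T (1 - e)) ⊗ₜ[A] (1 : B)) * e = 0 := by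
  have hc := Fh_one_sub_mul_self F e he
  have hcc : ((Fh F.law T (1 - e)) ⊗ₜ[A] (1 : B)) * ((Fh F.law T (1 - e)) ⊗ₜ[A] (1 : B)) =
      (Fh F.law T (1 - e)) ⊗ₜ[A] (1 : B) := by
    rw [Algebra.TensorProduct.tmul_mul_tmul, hc, mul_one]
  have hab : ∀ a b : T ⊗[A] B, (a * b) * (a * b) = (a * a) * (b * b) := fun a b => by ring
  have hz : (((Fh F.law T (1 - e)) ⊗ₜ[A] (1 : B)) * e) *
      (((Fh F.law T (1 - e)) ⊗ₜ[A] (1 : B)) * e) =
      ((Fh F.law T (1 - e)) ⊗ₜ[A] (1 : B)) * e := by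
    rw [hab, hcc, he]
  have hP := Pe_smul_idem F hd he
  have hidem : IsIdemMod F (((Fh F.law T (1 - e)) ⊗ₜ[A] (1 : B)) * e) := by
    show _ * _ - _ ∈ relKer F T
    rw [hz, sub_self]
    exact (relKer F T).zero_mem
  exact idem_eq_zero_of_mem_relKer F hker hz (mem_relKer_of_Pe_eq_one F hidem hP)

lemma Pe_hmul {e : T ⊗[A] B} (he : IsIdemMod F e) :
    Polynomial.aeval (Polynomial.C (Polynomial.X : T[X]) : T[X][X]) (Pe F e) *
      Polynomial.aeval (Polynomial.X : T[X][X]) (Pe F e) =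
    Polynomial.aeval (Polynomial.C (Polynomial.X : T[X]) * Polynomial.X : T[X][X]) (Pe F e) := by
  let φ : T →ₐ[A] Polynomial (Polynomial T) :=
    (Polynomial.CAlgHom (R := A) (A := Polynomial T)).comp (Polynomial.CAlgHom (R := A) (A := T))
  have h1 : ∀ s : Polynomial (Polynomial T), Polynomial.aeval s (Pe F e) =
      Polynomial.eval₂ (φ : T →+* Polynomial (Polynomial T)) s (Pe F e) := by
    intro s
    rw [Polynomial.aeval_def]
    rfl
  rw [h1, h1, h1, eval₂_Pe, eval₂_Pe, eval₂_Pe, Fh_gE_mul F he]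

variable (E : T ⊗[A] B ≃ₐ[T] (Fin d → T))

lemma Fh_one_sub_idm (hker : PolLaw.ker F.law ≤ nilradical B) (i : Fin d) :
    Fh F.law T (1 - idm E i) = 0 := by
  have hd : d ≠ 0 := Nat.pos_iff_ne_zero.mp i.pos
  have h1 := smul_idem_eq_zero F hd hker (idm_mul_self E i)
  have h2 := E_smul_idm E (Fh F.law T (1 - idm E i)) i
  rw [h1, map_zero] at h2
  have h3 := congrFun h2 i
  rw [Pi.single_eq_same] at h3
  exact h3.symm

lemma prod_Pe_idm : ∏ i, Pe F (idm E i) = Polynomial.X ^ d := by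
  have h := Pe_sum F (idm E) (idm_orth E) Finset.univ
  rw [sum_idm, Pe_one] at h
  exact h.symm

lemma Pe_idm_eq_X (hker : PolLaw.ker F.law ≤ nilradical B) (i : Fin d) :
    Pe F (idm E i) = Polynomial.X := by
  classical
  have he : ∀ j, IsIdemMod F (idm E j) := fun j => by
    show idm E j * idm E j - idm E j ∈ relKer F T
    rw [idm_mul_self, sub_self]
    exact (relKer F T).zero_mem
  have hkl := fun j => coeff_mul_coeff (Pe F (idm E j)) (Pe_hmul F (he j))
  have h0 : ∀ j, (Pe F (idm E j)).coeff 0 = 0 := fun j => by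
    rw [Pe_coeff_zero]
    exact Fh_one_sub_idm F E hker j
  have hfac : ∀ j, Pe F (idm E j) = Polynomial.X * (Pe F (idm E j)).divX := fun j => by
    have h := Polynomial.X_mul_divX_add (Pe F (idm E j))
    rw [h0 j, Polynomial.C_0, add_zero] at h
    exact h.symm
  have h1 : ∏ j, Pe F (idm E j) = Polynomial.X ^ d * ∏ j, (Pe F (idm E j)).divX := by
    calc ∏ j, Pe F (idm E j) = ∏ j, (Polynomial.X * (Pe F (idm E j)).divX) :=
          Finset.prod_congr rfl (fun j _ => hfac j)
      _ = Polynomial.X ^ d * ∏ j, (Pe F (idm E j)).divX := by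
          rw [Finset.prod_mul_distrib, Finset.prod_const, Finset.card_univ, Fintype.card_fin]
  have hone : ∏ j, (Pe F (idm E j)).divX = 1 := by
    have h2 : (Polynomial.X : T[X]) ^ d * ∏ j, (Pe F (idm E j)).divX =
        (Polynomial.X : T[X]) ^ d * 1 := by
      rw [← h1, prod_Pe_idm, mul_one]
    exact (Polynomial.monic_X_pow d).isRegular.left h2
  have hunit : IsUnit ((Pe F (idm E i)).coeff 1) := by
    have h2 : Polynomial.eval 0 (Pe F (idm E i)).divX = (Pe F (idm E i)).coeff 1 := by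
      rw [← Polynomial.coeff_zero_eq_eval_zero, Polynomial.coeff_divX, zero_add]
    have h3 := congrArg (Polynomial.eval 0) hone
    rw [Polynomial.eval_prod, Polynomial.eval_one] at h3
    have h4 := Finset.mul_prod_erase Finset.univ
      (fun j => Polynomial.eval 0 (Pe F (idm E j)).divX) (Finset.mem_univ i)
    have h5 := h4.trans h3
    rw [← h2]
    exact IsUnit.of_mul_eq_one _ h5
  have hc1 : (Pe F (idm E i)).coeff 1 = 1 := by
    have h5 := hkl i 1 1
    rw [if_pos rfl] at h5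
    have h6 : (Pe F (idm E i)).coeff 1 * (Pe F (idm E i)).coeff 1 =
        (Pe F (idm E i)).coeff 1 * 1 := by rw [h5, mul_one]
    exact hunit.mul_left_cancel h6
  ext k
  rw [Polynomial.coeff_X]
  by_cases hk : 1 = k
  · rw [if_pos hk, ← hk, hc1]
  · rw [if_neg hk]
    have h7 := hkl i k 1
    rw [if_neg (fun h => hk h.symm), hc1, mul_one] at h7
    exact h7

/-- Over every `T`-algebra, a multiplicative law of degree `d` with nil kernel on an algebra
split of rank `d` is the product of the coordinates. -/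
theorem Fh_eq_prod_crd (hker : PolLaw.ker F.law ≤ nilradical B) {S' : Type u} [CommRing S']
    [Algebra A S'] (ψ : T →ₐ[A] S') (x : S' ⊗[A] B) :
    Fh F.law S' x = ∏ i, crd E ψ i x := by
  have h1 : Fh F.law S' x = Fh F.law S' (∏ i, gE ψ (idm E i) (crd E ψ i x)) := by
    rw [← eq_prod_gE E ψ x]
  rw [h1, Fh_prod]
  refine Finset.prod_congr rfl fun i _ => ?_
  rw [← eval₂_Pe, Pe_idm_eq_X F E hker i, Polynomial.eval₂_X]

theorem Fh_eq_of_split (E : T ⊗[A] B ≃ₐ[T] (Fin d → T)) [Module.FaithfullyFlat A T]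
    (F' : PolLaw.MulLaw A B A d)
    (hF : PolLaw.ker F.law ≤ nilradical B) (hF' : PolLaw.ker F'.law ≤ nilradical B)
    (S : Type u) [CommRing S] [Algebra A S] (y : S ⊗[A] B) :
    Fh F.law S y = Fh F'.law S y := by
  have hinj : Function.Injective (TensorProduct.mk A T S 1) :=
    Module.FaithfullyFlat.tensorProduct_mk_injective (A := A) (B := T) S
  have h1 := Fh_natural F.law (Algebra.TensorProduct.includeRight : S →ₐ[A] T ⊗[A] S) y
  have h2 := Fh_natural F'.law (Algebra.TensorProduct.includeRight : S →ₐ[A] T ⊗[A] S) y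
  have h3 := Fh_eq_prod_crd F E hF (Algebra.TensorProduct.includeLeft : T →ₐ[A] T ⊗[A] S)
    (bc B (Algebra.TensorProduct.includeRight : S →ₐ[A] T ⊗[A] S) y)
  have h4 := Fh_eq_prod_crd F' E hF' (Algebra.TensorProduct.includeLeft : T →ₐ[A] T ⊗[A] S)
    (bc B (Algebra.TensorProduct.includeRight : S →ₐ[A] T ⊗[A] S) y)
  rw [Algebra.TensorProduct.includeRight_apply] at h1 h2
  apply hinj
  rw [TensorProduct.mk_apply, TensorProduct.mk_apply, h1, h2]
  exact h3.trans h4.symm

theorem mulLaw_eq_of_split (E : T ⊗[A] B ≃ₐ[T] (Fin d → T)) [Module.FaithfullyFlat A T]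
    (F' : PolLaw.MulLaw A B A d)
    (hF : PolLaw.ker F.law ≤ nilradical B) (hF' : PolLaw.ker F'.law ≤ nilradical B) :
    F = F' := by
  apply PolLaw.MulLaw.ext
  apply PolyLawFam.law_ext
  intro n
  funext y
  exact (Algebra.TensorProduct.rid A A (MvPolynomial (Fin n) A)).injective
    (Fh_eq_of_split F E F' hF hF' (MvPolynomial (Fin n) A) y)

end Law

section Norm

variable {A : Type u} [CommRing A] {B : Type u} [CommRing B] [Algebra A B] {d : ℕ}
variable {T : Type u} [CommRing T] [Algebra A T] {m : ℕ}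
variable (E : T ⊗[A] B ≃ₐ[T] (Fin m → T))

lemma Fh_eq_prod_of_norm (N : PolLaw.MulLaw A B A d)
    (hN : ∀ (S : Type u) [CommRing S] [Algebra A S] (x : S ⊗[A] B),
      N.law.toFun' S x = Algebra.norm S x ⊗ₜ[A] (1 : A)) (z : T ⊗[A] B) :
    Fh N.law T z = ∏ j, E z j := by
  rw [Fh, hN T z, Algebra.TensorProduct.rid_tmul, one_smul, ← Algebra.norm_eq_of_algEquiv E z,
    norm_pi]

theorem ker_eq_bot_of_norm (E : T ⊗[A] B ≃ₐ[T] (Fin m → T)) [Module.FaithfullyFlat A T]
    (N : PolLaw.MulLaw A B A d)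
    (hN : ∀ (S : Type u) [CommRing S] [Algebra A S] (x : S ⊗[A] B),
      N.law.toFun' S x = Algebra.norm S x ⊗ₜ[A] (1 : A)) :
    PolLaw.ker N.law = ⊥ := by
  rw [eq_bot_iff]
  intro b hb
  rw [Ideal.mem_bot]
  have key : ∀ i, E ((1 : T) ⊗ₜ[A] b) i = 0 := by
    intro i
    have h1 := hb T (1 - idm E i) (idm E i)
    have h2 := (Fh_eq_iff N.law T _ _).mpr h1
    rw [Fh_eq_prod_of_norm E N hN, Fh_eq_prod_of_norm E N hN, prod_E_perturb, prod_E_one_sub] at h2
    exact h2
  have h3 : (1 : T) ⊗ₜ[A] b = 0 := by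
    apply E.injective
    rw [map_zero]
    funext i
    exact key i
  apply Module.FaithfullyFlat.tensorProduct_mk_injective (A := A) (B := T) B
  show (1 : T) ⊗ₜ[A] b = (1 : T) ⊗ₜ[A] (0 : B)
  rw [h3, TensorProduct.tmul_zero]

end Norm

/-- The norm law of a finite étale algebra free of rank `d` has zero kernel and is the unique
multiplicative law of degree `d` with nil kernel. -/
theorem normLaw_main {A B : Type u} [CommRing A] [CommRing B] [Algebra A B]
    [Module.Free A B] [Module.Finite A B] [Algebra.Etale A B] (d : ℕ)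
    (hd : Module.finrank A B = d) (N : PolLaw.MulLaw A B A d)
    (hN : ∀ (S : Type u) [CommRing S] [Algebra A S] (x : S ⊗[A] B),
      N.law.toFun' S x = Algebra.norm S x ⊗ₜ[A] (1 : A)) :
    PolLaw.ker N.law = ⊥ ∧
      ∀ F : PolLaw.MulLaw A B A d, PolLaw.ker F.law ≤ nilradical B → F = N := by
  rcases subsingleton_or_nontrivial A with hA | hA
  · haveI : Subsingleton B := Module.subsingleton A B
    refine ⟨?_, fun F _ => ?_⟩
    · rw [eq_bot_iff]
      intro b _
      rw [Ideal.mem_bot]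
      exact Subsingleton.elim _ _
    · apply PolLaw.MulLaw.ext
      ext S _ _ x
      haveI : Subsingleton (S ⊗[A] A) := Module.subsingleton A _
      exact Subsingleton.elim _ _
  · have hn : Module.rankAtStalk (R := A) B = d := by
      rw [Module.rankAtStalk_eq_finrank_of_free, hd]
    obtain ⟨T, _, _, _, _, _, hsplit⟩ := Algebra.IsFiniteSplit.exists_tensorProduct_of_etale hn
    obtain ⟨m, ⟨E⟩⟩ := Algebra.IsFiniteSplit.nonempty_algEquiv_fun T (T ⊗[A] B)
    haveI : Nontrivial T := (FaithfulSMul.algebraMap_injective A T).nontrivial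
    have hm : m = d := by
      have h1 := E.toLinearEquiv.finrank_eq
      rw [Module.finrank_fin_fun, Module.finrank_baseChange, hd] at h1
      exact h1.symm
    subst hm
    have hker := ker_eq_bot_of_norm E N hN
    refine ⟨hker, fun F hF => ?_⟩
    have hNnil : PolLaw.ker N.law ≤ nilradical B := by
      rw [hker]
      exact bot_le
    exact mulLaw_eq_of_split F E N hF hNnil

end Groth.Agent.Lib.Helper6.ZC
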