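import Mathlib
import Groth.Prelude.Def_PolLaw
import Groth.Prelude.Def_SymTen
import Groth.Agent.Lib.Helper6.ZC.FlatTS

/-!
# Symmetric tensors of a flat module are flat (helper6)
-/

set_option autoImplicit false
set_option linter.unusedSectionVars false
set_option linter.unusedVariables false
set_option linter.unusedSimpArgs false
set_option linter.style.haveILetI false
set_option maxHeartbeats 400000
universe u
open scoped TensorProduct

namespace Groth.Agent.Lib.Helper6.ZC

section Defs

variable (A : Type u) [CommRing A] (d : ℕ) (X : Type u) [AddCommGroup X] [Module A X]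

/-- The submodule of symmetric tensors of a module. -/
noncomputable def TSm : Submodule A (Tmod A d X) :=
  ⨅ σ : Equiv.Perm (Fin d),
    LinearMap.eqLocus (PiTensorProduct.reindex A (fun _ : Fin d => X) σ).toLinearMap LinearMap.id

variable {A d X}

lemma mem_TSm {t : Tmod A d X} :
    t ∈ TSm A d X ↔
      ∀ σ : Equiv.Perm (Fin d), PiTensorProduct.reindex A (fun _ : Fin d => X) σ t = t := by
  simp [TSm, Submodule.mem_iInf, LinearMap.mem_eqLocus]

variable {Y : Type u} [AddCommGroup Y] [Module A Y]

/-- Linear functoriality of symmetric tensors of modules. -/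
noncomputable def TSmlin (g : X →ₗ[A] Y) : TSm A d X →ₗ[A] TSm A d Y where
  toFun t := ⟨Tm A d g t.1, mem_TSm.mpr fun σ => by rw [← Tm_reindex, mem_TSm.mp t.2 σ]⟩
  map_add' x y := Subtype.ext (map_add (Tm A d g) x.1 y.1)
  map_smul' a x := Subtype.ext (map_smul (Tm A d g) a x.1)

end Defs

section Flat

variable {A : Type u} [CommRing A] {M : Type u} [AddCommGroup M] [Module A M] [Module.Flat A M]
  (d : ℕ)

lemma Tmod_flat_mod : Module.Flat A (Tmod A d M) := by
  induction d with
  | zero =>
    exact Module.Flat.of_linearEquiv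
      (PiTensorProduct.isEmptyEquiv (R := A) (s := fun _ : Fin 0 => M) (Fin 0))
  | succ d ih =>
    haveI := ih
    exact Module.Flat.of_linearEquiv (splitT A M d)

/-- `TS^d(M) → T^d(M)` is universally injective for flat `M`. -/
theorem lTensor_subtype_TSm_injective (S : Type u) [AddCommGroup S] [Module A S] :
    Function.Injective ((TSm A d M).subtype.lTensor S) := by
  classical
  rw [injective_iff_map_eq_zero]
  intro w hw
  obtain ⟨m, s, t, rfl⟩ := exists_fin_sum_tmul_mod w
  obtain ⟨k1, u1, z, hsym, hz⟩ := exists_sym_chart (A := A) (X := M) d m (fun i => (t i).1)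
    (fun i σ => mem_TSm.mp (t i).2 σ)
  let ζ : S ⊗[A] Tmod A d (Fin k1 → A) := ∑ i, s i ⊗ₜ[A] z i
  have hζ : NTm A S d u1 ζ = 0 := by
    simp only [ζ, map_sum, NTm_tmul, hz]
    rw [map_sum] at hw
    simp only [LinearMap.lTensor_tmul] at hw
    exact hw
  obtain ⟨k2, a, y, hy, ha⟩ := KL (A := A) (N := S) (B := M) d (Fin k1 → A) u1 ζ hζ
  let z' : Fin m → SymTen.TS A (Fin k1 → A) d := fun i => ⟨z i, hsym i⟩
  let w2 : S ⊗[A] SymTen.TS A (Fin k2 → A) d := ∑ i, s i ⊗ₜ[A] TSlin d a (z' i)
  have hw2 : w2 = 0 := by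
    apply lTensor_val_injective_mod d (ePi A k2) S
    rw [map_zero]
    simp only [w2, map_sum, LinearMap.lTensor_tmul]
    simp only [ζ, map_sum, NTm_tmul] at ha
    exact ha
  -- the map `TS(L₂) → TSm(M)` induced by `y`
  let Y' : SymTen.TS A (Fin k2 → A) d →ₗ[A] TSm A d M :=
    { toFun := fun t => ⟨Tm A d y t.1, mem_TSm.mpr fun σ => by rw [← Tm_reindex, t.2 σ]⟩
      map_add' := fun x x' => Subtype.ext (map_add (Tm A d y) x.1 x'.1)
      map_smul' := fun c x => Subtype.ext (map_smul (Tm A d y) c x.1) }
  have h3 : Y'.lTensor S w2 = ∑ i, s i ⊗ₜ[A] t i := by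
    simp only [w2, map_sum, LinearMap.lTensor_tmul]
    refine Finset.sum_congr rfl fun i _ => ?_
    congr 1
    apply Subtype.ext
    show Tm A d y (Tm A d a (z i)) = (t i).1
    rw [← Tm_comp_apply, ← hy, hz]
  rw [← h3, hw2, map_zero]

/-- Symmetric tensors of a flat module are flat. -/
theorem TSm_flat : Module.Flat A (TSm A d M) := by
  haveI := Tmod_flat_mod (A := A) (M := M) d
  rw [Module.Flat.iff_rTensor_preserves_injective_linearMap]
  intro N N' _ _ _ _ f hf
  have h1 : Function.Injective
      ((TSm A d M).subtype.lTensor N' ∘ₗ f.rTensor (TSm A d M)) := by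
    rw [LinearMap.lTensor_comp_rTensor, ← LinearMap.rTensor_comp_lTensor]
    exact (Module.Flat.rTensor_preserves_injective_linearMap (M := Tmod A d M) f hf).comp
      (lTensor_subtype_TSm_injective d N)
  exact Function.Injective.of_comp h1

end Flat

end Groth.Agent.Lib.Helper6.ZC
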