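import Mathlib
import Groth.Prelude.Def_PolLaw
import Groth.Prelude.Def_SymTen
import Groth.Prelude.Def_PolLaw2
import Groth.Prelude.Def_W4c5normfunctorschNorm
import Groth.Agent.Lib.Helper6.ZC.Trace
import Groth.Agent.Lib.Helper6.ZC.AltSpan

/-!
# Symmetric tensors act on the top exterior power through the norm (helper6)
-/

set_option autoImplicit false
set_option linter.unusedSectionVars false
set_option linter.unusedVariables false
set_option linter.unusedSimpArgs false
set_option linter.style.haveILetI false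
set_option maxHeartbeats 400000
universe u
open scoped TensorProduct
open MvPolynomial

namespace Groth.Agent.Lib.Helper6.ZC

section Det

variable {R : Type u} [CommRing R] {M : Type u} [CommRing M] [Algebra R M] {d : ℕ}
  (e : Module.Basis (Fin d) R M)

/-- The determinant functional on the tensor power. -/
noncomputable def Dfun : (⨂[R] _ : Fin d, M) →ₗ[R] R :=
  PiTensorProduct.lift (e.det : M [⋀^Fin d]→ₗ[R] R).toMultilinearMap

lemma Dfun_tprod (p : Fin d → M) : Dfun e (PiTensorProduct.tprod R p) = e.det p := by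
  rw [Dfun, PiTensorProduct.lift.tprod]
  rfl

lemma Dfun_altSpan (x : ⨂[R] _ : Fin d, M) (hx : x ∈ SymTen.altSpan R M d) : Dfun e x = 0 := by
  refine Submodule.span_induction ?_ ?_ ?_ ?_ hx
  · rintro _ ⟨p, i, j, hij, hp, rfl⟩
    rw [Dfun_tprod]
    exact (e.det : M [⋀^Fin d]→ₗ[R] R).map_eq_zero_of_eq p hp hij
  · simp
  · intro x y _ _ hx hy; rw [map_add, hx, hy, add_zero]
  · intro a x _ hx; rw [map_smul, hx, smul_zero]

/-- The generator of the top exterior power. -/
noncomputable def ωe : ⨂[R] _ : Fin d, M := PiTensorProduct.tprod R (fun i => e i)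

lemma Dfun_ωe : Dfun e (ωe e) = 1 := by
  rw [ωe, Dfun_tprod]
  exact e.det_self

lemma perm_decomp (σ : Equiv.Perm (Fin d)) :
    PiTensorProduct.tprod R (fun i => e (σ i)) -
      Dfun e (PiTensorProduct.tprod R (fun i => e (σ i))) • ωe e ∈ SymTen.altSpan R M d := by
  induction σ using Equiv.Perm.swap_induction_on' with
  | one =>
    have : (fun i => e ((1 : Equiv.Perm (Fin d)) i)) = fun i => e i := rfl
    rw [this, ← ωe, Dfun_ωe, one_smul, sub_self]
    exact Submodule.zero_mem _
  | mul_swap σ i j hij ih =>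
    set q : Fin d → M := fun k => e (σ k) with hq
    have e1 : (fun k => e ((σ * Equiv.swap i j) k)) = q ∘ Equiv.swap i j := rfl
    rw [e1]
    have h1 := swap_add_mem (R := R) q i j hij
    have h2 : Dfun e (PiTensorProduct.tprod R (q ∘ Equiv.swap i j)) =
        - Dfun e (PiTensorProduct.tprod R q) := by
      rw [Dfun_tprod, Dfun_tprod]
      exact (e.det : M [⋀^Fin d]→ₗ[R] R).map_swap q hij
    rw [h2]
    have : PiTensorProduct.tprod R (q ∘ Equiv.swap i j) -
        (- Dfun e (PiTensorProduct.tprod R q)) • ωe e =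
        (PiTensorProduct.tprod R (q ∘ Equiv.swap i j) + PiTensorProduct.tprod R q) -
        (PiTensorProduct.tprod R q - Dfun e (PiTensorProduct.tprod R q) • ωe e) := by
      rw [neg_smul]; abel
    rw [this]
    exact Submodule.sub_mem _ h1 ih

/-- Every tensor is congruent to a multiple of the generator modulo `altSpan`. -/
theorem sub_Dfun_smul_mem (y : ⨂[R] _ : Fin d, M) :
    y - Dfun e y • ωe e ∈ SymTen.altSpan R M d := by
  classical
  have hy : y = ∑ c : Fin d → Fin d, (EbG (d := d) e).repr y c • EbG (d := d) e c :=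
    ((EbG (d := d) e).sum_repr y).symm
  have hlin : y - Dfun e y • ωe e = ∑ c : Fin d → Fin d, (EbG (d := d) e).repr y c •
      (EbG (d := d) e c - Dfun e (EbG (d := d) e c) • ωe e) := by
    conv_lhs => rw [hy]
    rw [map_sum, Finset.sum_smul, ← Finset.sum_sub_distrib]
    refine Finset.sum_congr rfl fun c _ => ?_
    rw [map_smul, smul_sub, smul_eq_mul, mul_smul]
  rw [hlin]
  refine Submodule.sum_mem _ fun c _ => Submodule.smul_mem _ _ ?_
  rw [EbG_apply]
  by_cases hc : Function.Injective c
  · have hbij : Function.Bijective c := Finite.injective_iff_bijective.mp hc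
    exact perm_decomp e (Equiv.ofBijective c hbij)
  · have h0 : Dfun e (PiTensorProduct.tprod R fun k => e (c k)) = 0 := by
      rw [Dfun_tprod]
      apply (e.det : M [⋀^Fin d]→ₗ[R] R).map_eq_zero_of_not_injective
      intro hinj
      exact hc (fun a b hab => hinj (by simp [hab]))
    rw [h0, zero_smul, sub_zero]
    rw [Function.Injective] at hc
    push Not at hc
    obtain ⟨i, j, hij, hne⟩ := hc
    exact tprod_mem_altSpan _ i j hne (by rw [hij])

include e in
/-- Multiplication by a symmetric tensor preserves `altSpan`. -/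
theorem mul_mem_altSpan (t : ⨂[R] _ : Fin d, M) (ht : t ∈ SymTen.TS R M d)
    (x : ⨂[R] _ : Fin d, M) (hx : x ∈ SymTen.altSpan R M d) :
    t * x ∈ SymTen.altSpan R M d := by
  refine Submodule.span_induction ?_ ?_ ?_ ?_ hx
  · rintro _ ⟨p, i, j, hij, hp, rfl⟩
    apply mem_altSpan_of_swap_invariant e _ i j hij
    rw [map_mul, SymTen.perm_apply, SymTen.perm_apply, ht (Equiv.swap i j),
      PiTensorProduct.reindex_tprod]
    congr 2
    funext k
    by_cases hki : k = i
    · subst hki; simp [hp]
    · by_cases hkj : k = j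
      · subst hkj; simp [hp]
      · simp [Equiv.swap_apply_of_ne_of_ne hki hkj]
  · rw [mul_zero]; exact Submodule.zero_mem _
  · intro x y _ _ hx hy; rw [mul_add]; exact Submodule.add_mem _ hx hy
  · intro a x _ hx; rw [mul_smul_comm]; exact Submodule.smul_mem _ _ hx

/-- A symmetric tensor acts on the tensor power modulo `altSpan` through the scalar
`Dfun (t * ω)`. -/
theorem mul_sub_smul_mem (t : ⨂[R] _ : Fin d, M) (ht : t ∈ SymTen.TS R M d)
    (x : ⨂[R] _ : Fin d, M) :
    t * x - Dfun e (t * ωe e) • x ∈ SymTen.altSpan R M d := by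
  have hx := sub_Dfun_smul_mem e x
  have h1 := mul_mem_altSpan e t ht _ hx
  have h2 := sub_Dfun_smul_mem e (t * ωe e)
  -- t * x = t*(x - D x ω) + D x • (t*ω) ; t*ω = (t*ω - D(tω) ω) + D(tω) ω
  have : t * x - Dfun e (t * ωe e) • x =
      t * (x - Dfun e x • ωe e) + Dfun e x • (t * ωe e - Dfun e (t * ωe e) • ωe e)
      - Dfun e (t * ωe e) • (x - Dfun e x • ωe e) := by
    rw [mul_sub, mul_smul_comm, smul_sub, smul_sub, smul_smul, smul_smul,
      mul_comm (Dfun e x) (Dfun e (t * ωe e))]
    abel
  rw [this]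
  exact Submodule.sub_mem _ (Submodule.add_mem _ h1 (Submodule.smul_mem _ _ h2))
    (Submodule.smul_mem _ _ hx)

end Det

end Groth.Agent.Lib.Helper6.ZC
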