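import Mathlib
import Groth.Prelude.Def_PolLaw
import Groth.Prelude.Def_SymTen
import Groth.Prelude.Def_PolLaw2
import Groth.Prelude.Def_W4c5normfunctorschNorm
import Groth.Agent.Lib.Helper6.ZC.Trace
import Groth.Agent.Lib.Helper6.ZC.TopExt

/-!
# Symmetric tensors act on the top exterior power through the norm, II (helper6)
-/

set_option autoImplicit false
set_option linter.unusedSectionVars false
set_option linter.unusedVariables false
set_option linter.unusedSimpArgs false
set_option linter.style.haveILetI false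
set_option maxHeartbeats 400000
universe u
open scoped TensorProduct
open MvPolynomial

namespace Groth.Agent.Lib.Helper6.ZC

section ExtGen

variable {A : Type u} [CommRing A] {B : Type u} [CommRing B] [Algebra A B] (d : ℕ)
variable {I : Type u} [DecidableEq I] (e : Module.Basis I A B)

/-- Two linear maps on `TS^d(B)` agreeing on the values of the universal law at the generic
elements agree. -/
theorem linearMap_ext_of_gen {N : Type u} [AddCommGroup N] [Module A N]
    (g g' : SymTen.TS A B d →ₗ[A] N)
    (h : ∀ J : Finset I, g.lTensor (MvPolynomial I A) ((τlaw d e).toFun' (MvPolynomial I A) (gen e J)) =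
      g'.lTensor (MvPolynomial I A) ((τlaw d e).toFun' (MvPolynomial I A) (gen e J))) : g = g' := by
  have hc : ∀ c : Fin d → I, g (osumTS d e c) = g' (osumTS d e c) := by
    intro c
    set J := Finset.univ.image c
    have e1 : (τlaw d e).toFun' (MvPolynomial I A) (gen e J) =
        ∑ ν ∈ (Fintype.piFinset (fun _ : Fin d => J)).image typ,
          (monomial ν (1 : A)) ⊗ₜ[A] O d e ν := by
      rw [gen, τlaw_sum_tmul]
      refine Finset.sum_congr rfl fun ν _ => ?_
      rw [← prod_X_pow_eq_monomial]
    have h2 := h J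
    rw [e1, map_sum, map_sum] at h2
    simp only [LinearMap.lTensor_tmul] at h2
    have h3 := congrArg (coeffN (typ c)) h2
    rw [coeffN_sum_monomial _ (fun ν => g (O d e ν)) (typ_mem_image d c),
      coeffN_sum_monomial _ (fun ν => g' (O d e ν)) (typ_mem_image d c), O_typ] at h3
    exact h3
  apply LinearMap.ext_on_range (v := osumTS d e) (span_osumTS d e)
  exact hc

end ExtGen

section LawSide

variable {R : Type u} [CommRing R] {M : Type u} [CommRing M] [Algebra R M] {d : ℕ}

lemma tpowLaw_eq_pw (S : Type u) [CommSemiring S] [Algebra R S] (x : S ⊗[R] M) :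
    (SymTen.tpowLaw R M d).law.toFun' S x = (pw R M d).toFun' S x := by
  rw [SymTen.tpowLaw, PolLaw.MulLaw.prodMap_toFun', pw_toFun']
  refine Finset.prod_congr rfl fun k _ => ?_
  induction x using TensorProduct.induction_on with
  | zero => simp
  | tmul s b => rw [ιS_tmul, Algebra.TensorProduct.map_tmul]; rfl
  | add x y hx hy => rw [map_add, map_add, hx, hy]

lemma tpowAct_eq_mul (a x : ⨂[R] _ : Fin d, M) : SymTen.tpowAct R M M d a x = a * x := by
  induction a using PiTensorProduct.induction_on with
  | smul_tprod r a =>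
    induction x using PiTensorProduct.induction_on with
    | smul_tprod r' p =>
      simp only [SymTen.tpowAct, map_smul, LinearMap.smul_apply, PiTensorProduct.lift.tprod,
        MultilinearMap.compLinearMap_apply, PiTensorProduct.mapMultilinear_apply,
        PiTensorProduct.map_tprod, smul_mul_assoc, mul_smul_comm, PiTensorProduct.tprod_mul_tprod]
      rfl
    | add x y hx hy => rw [map_add, hx, hy, mul_add]
  | add a b ha hb => rw [map_add, LinearMap.add_apply, ha, hb, add_mul]

variable (e : Module.Basis (Fin d) R M)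

lemma det_baseChange (S : Type u) [CommRing S] [Algebra R S] (v : Fin d → M) :
    (Algebra.TensorProduct.basis S e).det (fun i => (1 : S) ⊗ₜ[R] v i) =
      algebraMap R S (e.det v) := by
  rw [Module.Basis.det_apply, Module.Basis.det_apply, RingHom.map_det]
  congr 1
  ext i j
  simp [Module.Basis.toMatrix_apply, Algebra.TensorProduct.basis_repr_tmul]

lemma exists_sum_basis (S : Type u) [CommRing S] [Algebra R S] (x : S ⊗[R] M) :
    ∃ s : Fin d → S, x = ∑ j, s j ⊗ₜ[R] e j := by
  refine ⟨fun j => (Algebra.TensorProduct.basis S e).repr x j, ?_⟩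
  conv_lhs => rw [← (Algebra.TensorProduct.basis S e).sum_repr x]
  refine Finset.sum_congr rfl fun j _ => ?_
  rw [Algebra.TensorProduct.basis_apply, TensorProduct.smul_tmul', smul_eq_mul, mul_one]

/-- The norm as a sum over maps `c`. -/
lemma norm_sum_tmul (S : Type u) [CommRing S] [Algebra R S] (s : Fin d → S) :
    Algebra.norm S (∑ j, s j ⊗ₜ[R] e j : S ⊗[R] M) =
      ∑ c : Fin d → Fin d, (∏ i, s (c i)) * algebraMap R S (e.det (fun i => e (c i) * e i)) := by
  classical
  set eS := Algebra.TensorProduct.basis S e with heS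
  set x : S ⊗[R] M := ∑ j, s j ⊗ₜ[R] e j with hx
  have h1 : Algebra.norm S x = eS.det (fun i => x * eS i) := by
    rw [Algebra.norm_apply]
    have := Module.Basis.det_comp eS (Algebra.lmul S (S ⊗[R] M) x) eS
    rw [Module.Basis.det_self, mul_one] at this
    rw [← this]
    rfl
  have h2 : (fun i => x * eS i) = fun i => ∑ j, s j • ((1 : S) ⊗ₜ[R] (e j * e i)) := by
    funext i
    rw [hx, heS, Algebra.TensorProduct.basis_apply, Finset.sum_mul]
    refine Finset.sum_congr rfl fun j _ => ?_
    rw [Algebra.TensorProduct.tmul_mul_tmul, mul_one, TensorProduct.smul_tmul', smul_eq_mul,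
      mul_one]
  rw [h1, h2]
  have h3 := (eS.det : (S ⊗[R] M) [⋀^Fin d]→ₗ[S] S).toMultilinearMap.map_sum
    (fun (i : Fin d) (j : Fin d) => s j • ((1 : S) ⊗ₜ[R] (e j * e i)))
  have h3' : eS.det (fun i => ∑ j, s j • ((1 : S) ⊗ₜ[R] (e j * e i))) =
      ∑ c : Fin d → Fin d, eS.det (fun i => s (c i) • ((1 : S) ⊗ₜ[R] (e (c i) * e i))) := h3
  rw [h3']
  refine Finset.sum_congr rfl fun c _ => ?_
  have h4 := (eS.det : (S ⊗[R] M) [⋀^Fin d]→ₗ[S] S).toMultilinearMap.map_smul_univ
    (fun i => s (c i)) (fun i => (1 : S) ⊗ₜ[R] (e (c i) * e i))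
  have h4' : eS.det (fun i => s (c i) • ((1 : S) ⊗ₜ[R] (e (c i) * e i))) =
      (∏ i, s (c i)) • eS.det (fun i => (1 : S) ⊗ₜ[R] (e (c i) * e i)) := h4
  rw [h4', heS, det_baseChange e S, smul_eq_mul]

/-- The action of the tensor power law on the generator of the top exterior power is the norm. -/
theorem Dfun_pw_eq_norm (S : Type u) [CommRing S] [Algebra R S] (x : S ⊗[R] M) :
    (Dfun e ∘ₗ LinearMap.mulRight R (ωe e)).lTensor S ((pw R M d).toFun' S x) =
      (Algebra.norm S x) ⊗ₜ[R] (1 : R) := by
  obtain ⟨s, rfl⟩ := exists_sum_basis e S x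
  rw [pw_sum_tmul_gen, map_sum, norm_sum_tmul, TensorProduct.sum_tmul]
  refine Finset.sum_congr rfl fun c _ => ?_
  rw [LinearMap.lTensor_tmul, LinearMap.comp_apply, LinearMap.mulRight_apply, ωe,
    PiTensorProduct.tprod_mul_tprod, Dfun_tprod]
  rw [← Algebra.commutes, ← Algebra.smul_def, TensorProduct.smul_tmul, smul_eq_mul, mul_one]
  rfl

end LawSide

section Final

variable (R : Type u) [CommRing R] (R' : Type u) [CommRing R'] [Algebra R R']
  [Module.Free R R'] [Module.Finite R R'] (d : ℕ) (hd : Module.finrank R R' = d)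
  {C : Type u} [CommRing C] [Algebra R C] (γ : PolLaw.MulLaw R R' C d)

theorem tpowAct_sub_norm_smul_mem (hγ : PolLaw.IsGammaD γ)
    (φ : C →ₐ[R] (⨂[R] _ : Fin d, R')) (hφ : PolLaw.MulLaw.postcomp φ γ = SymTen.tpowLaw R R' d)
    (π : C →ₐ[R] R) (hπ : PolLaw.MulLaw.postcomp π γ = PolLaw.normLaw R R' d hd)
    (c : C) (x : ⨂[R] _ : Fin d, R') :
    SymTen.tpowAct R R' R' d (φ c) x - π c • x ∈ SymTen.altSpan R R' d := by
  classical
  rcases subsingleton_or_nontrivial R with hR | hR
  · have : Subsingleton (⨂[R] _ : Fin d, R') := Module.subsingleton R _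
    rw [Subsingleton.elim (SymTen.tpowAct R R' R' d (φ c) x - π c • x) 0]
    exact Submodule.zero_mem _
  let e : Module.Basis (Fin d) R R' := Module.finBasisOfFinrankEq R R' hd
  let e' : Module.Basis (ULift.{u} (Fin d)) R R' := e.reindex Equiv.ulift.symm
  set f := fC d γ e' (AlgHom.id R R') with hf
  have hfs : Function.Surjective f := fC_surjective e' (AlgHom.id R R') hγ Function.surjective_id
  have hfτ : ∀ (S : Type u) [CommSemiring S] [Algebra R S] (z : S ⊗[R] R'),
      f.toLinearMap.lTensor S ((τlaw d e').toFun' S z) = γ.law.toFun' S z := by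
    intro S _ _ z
    have := lTensor_fC_τ (γ := γ) e' (AlgHom.id R R') S z
    rw [this]
    congr 1
    have : (AlgHom.id R R').toLinearMap = LinearMap.id := rfl
    rw [this, LinearMap.lTensor_id, LinearMap.id_apply]
  have hφ' : ∀ (S : Type u) [CommSemiring S] [Algebra R S] (z : S ⊗[R] R'),
      φ.toLinearMap.lTensor S (γ.law.toFun' S z) = (pw R R' d).toFun' S z := by
    intro S _ _ z
    have := congrArg (fun G : PolLaw.MulLaw R R' (⨂[R] _ : Fin d, R') d => G.law.toFun' S z) hφ
    rw [← tpowLaw_eq_pw]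
    exact this
  have hπ' : ∀ (S : Type u) [CommRing S] [Algebra R S] (z : S ⊗[R] R'),
      π.toLinearMap.lTensor S (γ.law.toFun' S z) = (Algebra.norm S z) ⊗ₜ[R] (1 : R) := by
    intro S _ _ z
    have := congrArg (fun G : PolLaw.MulLaw R R' R d => G.law.toFun' S z) hπ
    rw [← PolLaw.normLaw_apply R R' d hd]
    exact this
  obtain ⟨t, rfl⟩ := hfs c
  have key1 : φ (f t) = (t : ⨂[R] _ : Fin d, R') := by
    have h : φ.toLinearMap ∘ₗ f.toLinearMap = (SymTen.TS R R' d).val.toLinearMap := by
      apply linearMap_ext_of_gen d e'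
      intro J
      rw [LinearMap.lTensor_comp, LinearMap.comp_apply, hfτ, hφ', val_τlaw]
    exact DFunLike.congr_fun h t
  have key2 : π (f t) = Dfun e ((t : ⨂[R] _ : Fin d, R') * ωe e) := by
    have h : π.toLinearMap ∘ₗ f.toLinearMap =
        (Dfun e ∘ₗ LinearMap.mulRight R (ωe e)) ∘ₗ (SymTen.TS R R' d).val.toLinearMap := by
      apply linearMap_ext_of_gen d e'
      intro J
      rw [LinearMap.lTensor_comp, LinearMap.comp_apply, hfτ, hπ', LinearMap.lTensor_comp,
        LinearMap.comp_apply, val_τlaw, Dfun_pw_eq_norm]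
    exact DFunLike.congr_fun h t
  rw [tpowAct_eq_mul, key1, key2]
  exact mul_sub_smul_mem e _ t.2 x

end Final

end Groth.Agent.Lib.Helper6.ZC
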