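import Mathlib
import Groth.Prelude.Def_PolLaw
import Groth.Prelude.Def_SymTen
import Groth.Prelude.Def_Flat
import Groth.Agent.Lib.Helper6.ZC.NormFinal
import Groth.Agent.Lib.Helper6.ZC.UH9

/-!
# `Spec TS^d(B) → Spec Γ^d(B)` is a universal homeomorphism (helper6)

Ring-theoretic part: given the power statements and liftings of residue field points.
-/

set_option autoImplicit false
set_option linter.unusedSectionVars false
set_option linter.unusedVariables false
set_option linter.unusedSimpArgs false
set_option linter.style.haveILetI false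
set_option maxHeartbeats 400000
universe u
open scoped TensorProduct
open AlgebraicGeometry

namespace Groth.Agent.Lib.Helper6.ZC

section RingPart

variable {C T : Type u} [CommRing C] [CommRing T] (φ : C →+* T) (N : ℕ) (hN : 0 < N)
  (h1 : ∀ x : C, φ x = 0 → x ^ N = 0) (h2 : ∀ y : T, ∃ c : C, φ c = y ^ N)

include hN h2 in
lemma isIntegral_of_pow : φ.IsIntegral := by
  intro y
  obtain ⟨c, hc⟩ := h2 y
  refine ⟨Polynomial.X ^ N - Polynomial.C c, Polynomial.monic_X_pow_sub_C c (Nat.pos_iff_ne_zero.mp hN), ?_⟩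
  rw [Polynomial.eval₂_sub, Polynomial.eval₂_pow, Polynomial.eval₂_X, Polynomial.eval₂_C, hc,
    sub_self]

include hN h2 in
lemma comap_injective_of_pow : Function.Injective (PrimeSpectrum.comap φ) := by
  have key : ∀ q q' : PrimeSpectrum T, PrimeSpectrum.comap φ q = PrimeSpectrum.comap φ q' →
      q.asIdeal ≤ q'.asIdeal := by
    intro q q' h y hy
    obtain ⟨c, hc⟩ := h2 y
    have h3 : c ∈ (PrimeSpectrum.comap φ q).asIdeal := by
      show φ c ∈ q.asIdeal
      rw [hc]
      exact Ideal.pow_mem_of_mem _ hy N hN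
    rw [h] at h3
    have h4 : φ c ∈ q'.asIdeal := h3
    rw [hc] at h4
    exact q'.isPrime.mem_of_pow_mem N h4
  intro q q' h
  apply PrimeSpectrum.ext
  exact le_antisymm (key q q' h) (key q' q h.symm)

include hN h1 h2 in
lemma comap_surjective_of_pow : Function.Surjective (PrimeSpectrum.comap φ) := by
  intro p
  letI : Algebra C T := φ.toAlgebra
  have hint : Algebra.IsIntegral C T := ⟨isIntegral_of_pow φ N hN h2⟩
  have hker : RingHom.ker (algebraMap C T) ≤ p.asIdeal := by
    intro x hx
    have : φ x = 0 := hx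
    have h3 := h1 x this
    exact p.isPrime.mem_of_pow_mem N (by rw [h3]; exact Ideal.zero_mem _)
  obtain ⟨Q, _, hQ, hQp⟩ := Ideal.exists_ideal_over_prime_of_isIntegral p.asIdeal (⊥ : Ideal T)
    (by rw [← RingHom.ker_eq_comap_bot]; exact hker)
  exact ⟨⟨Q, hQ⟩, PrimeSpectrum.ext hQp⟩

/-- Residue field maps are bijective if residue field points lift. -/
lemma residueField_bijective_of_lift
    (hinj : Function.Injective (PrimeSpectrum.comap φ))
    (hlift : ∀ p : PrimeSpectrum C, ∃ χ : T →+* p.asIdeal.ResidueField,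
      ∀ c, χ (φ c) = algebraMap C p.asIdeal.ResidueField c)
    (y : PrimeSpectrum T) :
    Function.Bijective
      (Ideal.ResidueField.map (PrimeSpectrum.comap φ y).asIdeal y.asIdeal φ rfl) := by
  refine ⟨RingHom.injective _, ?_⟩
  obtain ⟨χ, hχ⟩ := hlift (PrimeSpectrum.comap φ y)
  have hker : RingHom.ker χ = y.asIdeal := by
    have hprime : (RingHom.ker χ).IsPrime := RingHom.ker_isPrime χ
    have h3 : PrimeSpectrum.comap φ ⟨RingHom.ker χ, hprime⟩ = PrimeSpectrum.comap φ y := by
      apply PrimeSpectrum.ext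
      ext c
      show χ (φ c) = 0 ↔ c ∈ (PrimeSpectrum.comap φ y).asIdeal
      rw [hχ, Ideal.algebraMap_residueField_eq_zero]
    have := hinj h3
    exact congrArg PrimeSpectrum.asIdeal this
  let ρ : y.asIdeal.ResidueField →+* (PrimeSpectrum.comap φ y).asIdeal.ResidueField :=
    Ideal.ResidueField.lift y.asIdeal χ (le_of_eq hker.symm) (by
      intro t ht
      show IsUnit (χ t)
      rw [isUnit_iff_ne_zero]
      intro h0
      apply ht
      rw [← hker]
      exact h0)
  have hρι : ρ.comp (Ideal.ResidueField.map (PrimeSpectrum.comap φ y).asIdeal y.asIdeal φ rfl) =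
      RingHom.id _ := by
    apply Ideal.ResidueField.ringHom_ext
    ext c
    simp only [RingHom.comp_apply, RingHom.id_apply]
    have h := Ideal.ResidueField.map_algebraMap (PrimeSpectrum.comap φ y).asIdeal y.asIdeal φ rfl c
    refine (congrArg ρ h).trans ?_
    rw [Ideal.ResidueField.lift_algebraMap, hχ]
  intro x
  refine ⟨ρ x, ?_⟩
  apply ρ.injective
  exact DFunLike.congr_fun hρι (ρ x)

end RingPart

section Scheme

variable {C T : Type u} [CommRing C] [CommRing T] (φ : C →+* T) (N : ℕ) (hN : 0 < N)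
  (h1 : ∀ x : C, φ x = 0 → x ^ N = 0) (h2 : ∀ y : T, ∃ c : C, φ c = y ^ N)
  (hlift : ∀ p : PrimeSpectrum C, ∃ χ : T →+* p.asIdeal.ResidueField,
      ∀ c, χ (φ c) = algebraMap C p.asIdeal.ResidueField c)

include hN h1 h2 hlift in
theorem isUnivHomeo_and_residue :
    FlatMor.IsUnivHomeo (Spec.map (CommRingCat.ofHom φ)) ∧
      ∀ x : ↥(Spec (CommRingCat.of T)),
        Function.Surjective ((Spec.map (CommRingCat.ofHom φ)).residueFieldMap x).hom := by
  have hinj := comap_injective_of_pow φ N hN h2
  have hsurj := comap_surjective_of_pow φ N hN h1 h2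
  have hres := residueField_bijective_of_lift φ hinj hlift
  refine ⟨UH9.isUnivHomeo_specMap_of φ (isIntegral_of_pow φ N hN h2) ⟨hinj, hsurj⟩ hres, ?_⟩
  intro x
  have hiso := (UH9.isIso_residueFieldMap_iff φ x).mpr (hres x)
  exact ((CategoryTheory.ConcreteCategory.isIso_iff_bijective _).mp hiso).2

end Scheme

end Groth.Agent.Lib.Helper6.ZC
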