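import Mathlib
import Groth.Prelude.Def_PolLaw
import Groth.Agent.Lib.Helper6.ZC.BCRad
import Groth.Agent.Lib.Helper6.ZC.Rel
import Groth.Agent.Lib.Helper6.ZC.CHGen
import Groth.Agent.Lib.Helper6.ZC.GenG

/-!
# The image of a family of zero-cycles is universally open: ring-theoretic part (helper6)
-/

set_option autoImplicit false
set_option linter.unusedSectionVars false
set_option linter.unusedVariables false
set_option linter.unusedSimpArgs false
set_option linter.style.haveILetI false
set_option maxHeartbeats 400000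
universe u
open scoped TensorProduct
open Polynomial

namespace Groth.Agent.Lib.Helper6.ZC

section Nilp

variable {A : Type u} [CommRing A] {B : Type u} [CommRing B] [Algebra A B] {d : ℕ}
variable (F : PolLaw.MulLaw A B A d)
variable (k : Type u) [CommRing k] [IsDomain k] [Algebra A k]

lemma rid_smul' (S : Type u) [CommRing S] [Algebra A S] (s : S) (w : S ⊗[A] A) :
    Algebra.TensorProduct.rid A A S (s • w) = s * Algebra.TensorProduct.rid A A S w := by
  induction w using TensorProduct.induction_on with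
  | zero => simp
  | tmul s' a =>
    rw [TensorProduct.smul_tmul', Algebra.TensorProduct.rid_tmul, Algebra.TensorProduct.rid_tmul,
      smul_eq_mul, mul_smul_comm]
  | add x y hx hy => rw [smul_add, map_add, map_add, hx, hy, mul_add]

lemma Fh_smul (S : Type u) [CommRing S] [Algebra A S] (s : S) (x : S ⊗[A] B) :
    Fh F.law S (s • x) = s ^ d * Fh F.law S x := by
  rw [Fh, F.homog, rid_smul']
  rfl

/-- Over a domain, an element with a power in the kernel has characteristic polynomial
`(-X)^d`. -/
theorem chi_eq_of_pow_inKer (z : k ⊗[A] B) (N : ℕ) (hz : InKer F.law k (z ^ N)) :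
    chi k F.law z = C ((-1 : k) ^ d) * X ^ d := by
  -- we may assume `N ≥ 1`
  have hz' : InKer F.law k (z ^ (N + 1)) := by
    rw [pow_succ]
    exact InKer.mul_right hz z
  let t : Polynomial k ⊗[A] B := (X : Polynomial k) ⊗ₜ[A] (1 : B)
  let zh : Polynomial k ⊗[A] B := toX k z
  let g : Polynomial k ⊗[A] B := ∑ i ∈ Finset.range (N + 1), t ^ i * zh ^ (N + 1 - 1 - i)
  have hg : g * (t - zh) = t ^ (N + 1) - zh ^ (N + 1) := geom_sum₂_mul t zh (N + 1)
  have h1 : Fh F.law (Polynomial k) (t ^ (N + 1) - zh ^ (N + 1)) = (X ^ (N + 1)) ^ d := by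
    have h2 := hz' (Polynomial k) (Polynomial.CAlgHom (R := A) (A := k)) (t ^ (N + 1)) (-1)
    have h3 : bc B (Polynomial.CAlgHom (R := A) (A := k)) (z ^ (N + 1)) = zh ^ (N + 1) := by
      rw [map_pow]
      rfl
    rw [h3] at h2
    have h4 : t ^ (N + 1) - zh ^ (N + 1) = t ^ (N + 1) + -1 * zh ^ (N + 1) := by ring
    rw [h4, (Fh_eq_iff _ _ _ _).mpr h2]
    have h5 : t ^ (N + 1) = ((X : Polynomial k) ^ (N + 1)) ⊗ₜ[A] (1 : B) := by
      show ((X : Polynomial k) ⊗ₜ[A] (1 : B)) ^ (N + 1) = _
      rw [Algebra.TensorProduct.tmul_pow, one_pow]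
    rw [h5, Fh_tmul_one]
  have h6 : chi k F.law z = C ((-1 : k) ^ d) * Fh F.law (Polynomial k) (t - zh) := by
    rw [chi, yX]
    have h7 : toX k z - (X : Polynomial k) ⊗ₜ[A] (1 : B) = (-1 : Polynomial k) • (t - zh) := by
      show zh - t = (-1 : Polynomial k) • (t - zh)
      rw [smul_sub, neg_smul, neg_smul, one_smul, one_smul]
      abel
    rw [h7, Fh_smul, map_pow, map_neg, map_one]
  have h8 : Fh F.law (Polynomial k) g * Fh F.law (Polynomial k) (t - zh) = (X ^ (N + 1)) ^ d := by
    rw [← Fh_mul, hg, h1]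
  -- divisibility
  have hdvd : Fh F.law (Polynomial k) (t - zh) ∣ (X : Polynomial k) ^ ((N + 1) * d) := by
    rw [pow_mul, ← h8]
    exact Dvd.intro_left _ rfl
  obtain ⟨j, hj, hassoc⟩ := (dvd_prime_pow Polynomial.prime_X _).mp hdvd
  obtain ⟨u, hu⟩ := hassoc.symm
  obtain ⟨c, hc, hcu⟩ := Polynomial.isUnit_iff.mp u.isUnit
  have h9 : chi k F.law z = C ((-1 : k) ^ d * c) * X ^ j := by
    rw [h6, ← hu, ← hcu, map_mul]
    ring
  have hd := chi_coeff_d k F z
  have hlt := chi_coeff_of_lt k F z
  rw [h9] at hd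
  rw [Polynomial.coeff_C_mul, Polynomial.coeff_X_pow] at hd
  by_cases hjd : d = j
  · subst hjd
    rw [if_pos rfl, mul_one] at hd
    rw [h9, hd]
  · exfalso
    rw [if_neg hjd, mul_zero] at hd
    rcases subsingleton_or_nontrivial k with hk | hk
    · exact hjd (by
        have : (0 : k) = 1 := Subsingleton.elim _ _
        exact absurd this zero_ne_one)
    · have : ((-1 : k) ^ d) = 0 := hd.symm
      exact absurd this (pow_ne_zero _ (neg_ne_zero.mpr one_ne_zero))

end Nilp

section Open

variable {A : Type u} [CommRing A] {B : Type u} [CommRing B] [Algebra A B] {d : ℕ}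
variable (F : PolLaw.MulLaw A B A d)
variable (S : Type u) [CommRing S] [Algebra A S]

/-- The projection `S ⊗ B → S ⊗ (B / ker F)`. -/
noncomputable def prImg : S ⊗[A] B →ₐ[S] S ⊗[A] (PolLaw.image F.law) :=
  Algebra.TensorProduct.map (AlgHom.id S S) (Ideal.Quotient.mkₐ A (PolLaw.ker F.law))

lemma prImg_tmul (s : S) (b : B) :
    prImg F S (s ⊗ₜ[A] b) = s ⊗ₜ[A] (Ideal.Quotient.mk (PolLaw.ker F.law) b) := rfl

lemma prImg_surjective : Function.Surjective (prImg F S) :=
  Algebra.TensorProduct.map_surjective _ _ Function.surjective_id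
    (Ideal.Quotient.mkₐ_surjective A _)

lemma prImg_eq_zero_iff (z : S ⊗[A] B) : prImg F S z = 0 ↔ z ∈ extKer F.law S := by
  have h := Algebra.TensorProduct.lTensor_ker (A := S)
    (Ideal.Quotient.mkₐ A (PolLaw.ker F.law)) (Ideal.Quotient.mkₐ_surjective A _)
  have hk : RingHom.ker (Ideal.Quotient.mkₐ A (PolLaw.ker F.law)) = PolLaw.ker F.law := by
    ext b
    rw [RingHom.mem_ker]
    exact Ideal.Quotient.eq_zero_iff_mem
  rw [hk] at h
  have hfun : ∀ z : S ⊗[A] B, prImg F S z = Algebra.TensorProduct.map (AlgHom.id A S)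
      (Ideal.Quotient.mkₐ A (PolLaw.ker F.law)) z := by
    intro z
    induction z using TensorProduct.induction_on with
    | zero => simp
    | tmul s b => rfl
    | add x y hx hy => simp only [map_add, hx, hy]
  rw [extKer, ← h, RingHom.mem_ker, hfun]

variable {S} in
lemma prImg_natural {S' : Type u} [CommRing S'] [Algebra A S'] (φ : S →ₐ[A] S') (z : S ⊗[A] B) :
    Algebra.TensorProduct.map φ (AlgHom.id A (PolLaw.image F.law)) (prImg F S z) =
      prImg F S' (bc B φ z) := by
  induction z using TensorProduct.induction_on with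
  | zero => simp
  | tmul s b => rfl
  | add x y hx hy => simp only [map_add, hx, hy]

/-- The image of a basic open set. -/
theorem image_basicOpen (z : S ⊗[A] B) :
    PrimeSpectrum.comap (algebraMap S (S ⊗[A] (PolLaw.image F.law))) ''
        (PrimeSpectrum.basicOpen (prImg F S z) : Set _) =
      ⋃ i ∈ Finset.range d, (PrimeSpectrum.basicOpen ((chi S F.law z).coeff i) : Set _) := by
  apply Set.eq_of_subset_of_subset
  · rintro _ ⟨q, hq, rfl⟩
    simp only [Set.mem_iUnion, SetLike.mem_coe, PrimeSpectrum.mem_basicOpen, exists_prop]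
    by_contra hcon
    push Not at hcon
    have hcon' : ∀ i ∈ Finset.range d,
        algebraMap S (S ⊗[A] (PolLaw.image F.law)) ((chi S F.law z).coeff i) ∈ q.asIdeal := by
      intro i hi
      exact hcon i hi
    have h0 : Polynomial.aeval (prImg F S z) (chi S F.law z) = 0 := by
      rw [Polynomial.aeval_algHom_apply, prImg_eq_zero_iff]
      exact aeval_chi_mem_extKer F S z
    rw [Polynomial.aeval_eq_sum_range' (Nat.lt_succ_of_le (chi_natDegree_le S F z)),
      Finset.sum_range_succ, chi_coeff_d] at h0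
    have h1 : ∑ i ∈ Finset.range d, (chi S F.law z).coeff i • (prImg F S z) ^ i ∈ q.asIdeal := by
      refine Ideal.sum_mem _ fun i hi => ?_
      rw [smul_eq_tmul_one_mul]
      exact Ideal.mul_mem_right _ _ (hcon' i hi)
    have h2 : ((-1 : S) ^ d) • (prImg F S z) ^ d ∈ q.asIdeal := by
      have h3 : ((-1 : S) ^ d) • (prImg F S z) ^ d =
          -(∑ i ∈ Finset.range d, (chi S F.law z).coeff i • (prImg F S z) ^ i) := by
        rw [eq_neg_iff_add_eq_zero, add_comm]
        exact h0
      rw [h3]
      exact Ideal.neg_mem_iff _ |>.mpr h1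
    have h4 : (prImg F S z) ^ d ∈ q.asIdeal := by
      have h5 : (prImg F S z) ^ d = ((-1 : S) ^ d) • (((-1 : S) ^ d) • (prImg F S z) ^ d) := by
        rw [smul_smul, ← mul_pow]
        simp
      rw [h5, smul_eq_tmul_one_mul]
      exact Ideal.mul_mem_left _ _ h2
    exact hq (q.isPrime.mem_of_pow_mem _ h4)
  · intro p hp
    simp only [Set.mem_iUnion, SetLike.mem_coe, PrimeSpectrum.mem_basicOpen, exists_prop] at hp
    obtain ⟨i, hi, hci⟩ := hp
    by_contra hcon
    have hcon' : ∀ q : PrimeSpectrum (S ⊗[A] (PolLaw.image F.law)),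
        PrimeSpectrum.comap (algebraMap S (S ⊗[A] (PolLaw.image F.law))) q = p →
          prImg F S z ∈ q.asIdeal := by
      intro q hqp
      by_contra hq
      exact hcon ⟨q, hq, hqp⟩
    let k := p.asIdeal.ResidueField
    let ψ : S →ₐ[A] k := IsScalarTower.toAlgHom A S k
    let θ : S ⊗[A] (PolLaw.image F.law) →ₐ[A] k ⊗[A] (PolLaw.image F.law) :=
      Algebra.TensorProduct.map ψ (AlgHom.id A _)
    have hnil : IsNilpotent (θ (prImg F S z)) := by
      rw [nilpotent_iff_mem_prime]
      intro q' hq'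
      have hqp : PrimeSpectrum.comap (algebraMap S (S ⊗[A] (PolLaw.image F.law)))
          ⟨q'.comap θ.toRingHom, Ideal.comap_isPrime _ _⟩ = p := by
        ext s
        show algebraMap S _ s ∈ q'.comap θ.toRingHom ↔ s ∈ p.asIdeal
        rw [Ideal.mem_comap]
        have h6 : θ.toRingHom (algebraMap S (S ⊗[A] (PolLaw.image F.law)) s) =
            algebraMap k (k ⊗[A] (PolLaw.image F.law)) (ψ s) := rfl
        rw [h6]
        constructor
        · intro h7
          by_contra hs
          have hu : IsUnit (ψ s) := by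
            rw [isUnit_iff_ne_zero]
            intro h8
            exact hs (Ideal.algebraMap_residueField_eq_zero.mp h8)
          have h9 : IsUnit (algebraMap k (k ⊗[A] (PolLaw.image F.law)) (ψ s)) := hu.map _
          exact hq'.ne_top (Ideal.eq_top_of_isUnit_mem _ h7 h9)
        · intro hs
          have h8 : ψ s = 0 := Ideal.algebraMap_residueField_eq_zero.mpr hs
          rw [h8, map_zero]
          exact Ideal.zero_mem _
      exact hcon' _ hqp
    obtain ⟨N, hN⟩ := hnil
    rw [← map_pow, ← map_pow] at hN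
    have hN' : prImg F k (bc B ψ (z ^ N)) = 0 := by
      rw [← prImg_natural]
      exact hN
    rw [prImg_eq_zero_iff, map_pow] at hN'
    have hin : InKer F.law k ((bc B ψ z) ^ N) := inKer_of_mem_map hN'
    have hchi := chi_eq_of_pow_inKer F k (bc B ψ z) N hin
    rw [← chi_natural] at hchi
    have hcoeff := congrArg (fun P => Polynomial.coeff P i) hchi
    simp only [Polynomial.coeff_map, Polynomial.coeff_C_mul, Polynomial.coeff_X_pow] at hcoeff
    rw [if_neg (ne_of_lt (Finset.mem_range.mp hi)), mul_zero] at hcoeff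
    exact hci (Ideal.algebraMap_residueField_eq_zero.mp hcoeff)

/-- The image of the family is open over every base. -/
theorem isOpenMap_comap_image :
    IsOpenMap (PrimeSpectrum.comap (algebraMap S (S ⊗[A] (PolLaw.image F.law)))) := by
  rw [PrimeSpectrum.isTopologicalBasis_basic_opens.isOpenMap_iff]
  rintro _ ⟨r, rfl⟩
  obtain ⟨z, rfl⟩ := prImg_surjective F S r
  show IsOpen (PrimeSpectrum.comap (algebraMap S (S ⊗[A] (PolLaw.image F.law))) ''
    (PrimeSpectrum.basicOpen (prImg F S z) : Set (PrimeSpectrum (S ⊗[A] (PolLaw.image F.law)))))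
  rw [image_basicOpen]
  exact isOpen_biUnion fun i _ => (PrimeSpectrum.basicOpen _).isOpen

end Open

end Groth.Agent.Lib.Helper6.ZC
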