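import Mathlib
import Groth.Prelude.Def_PolLaw
import Groth.Agent.Lib.Helper4.UnivOpen
import Groth.Agent.Lib.Helper6.ZC.UOpenImg

/-!
# The image of a family of zero-cycles is universally open: scheme part (helper6)
-/

set_option autoImplicit false
set_option linter.unusedSectionVars false
set_option linter.unusedVariables false
set_option linter.unusedSimpArgs false
set_option linter.style.haveILetI false
set_option maxHeartbeats 400000
universe u
open scoped TensorProduct
open AlgebraicGeometry CategoryTheory

namespace Groth.Agent.Lib.Helper6.ZC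

section Sch

variable {A : Type u} [CommRing A] {B : Type u} [CommRing B] [Algebra A B] {d : ℕ}
variable (F : PolLaw.MulLaw A B A d)

theorem isOpenMap_comap_mvPolynomial_map (σ : Type u) :
    IsOpenMap (PrimeSpectrum.comap
      (MvPolynomial.map (σ := σ) (algebraMap A (PolLaw.image F.law)))) := by
  let S := MvPolynomial σ A
  let Bb := PolLaw.image F.law
  let e : S ⊗[A] Bb ≃ₐ[A] MvPolynomial σ Bb :=
    (Algebra.TensorProduct.comm A S Bb).trans
      ((MvPolynomial.algebraTensorAlgEquiv A Bb).restrictScalars A)
  have hg : (MvPolynomial.map (σ := σ) (algebraMap A Bb)) =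
      (e : S ⊗[A] Bb →+* MvPolynomial σ Bb).comp (algebraMap S (S ⊗[A] Bb)) := by
    apply RingHom.ext
    intro p
    show _ = e (p ⊗ₜ[A] (1 : Bb))
    simp only [e, AlgEquiv.trans_apply, Algebra.TensorProduct.comm_tmul,
      AlgEquiv.restrictScalars_apply]
    rw [MvPolynomial.algebraTensorAlgEquiv_tmul, one_smul]
  rw [hg, PrimeSpectrum.comap_comp]
  exact (isOpenMap_comap_image F S).comp
    (PrimeSpectrum.homeomorphOfRingEquiv e.toRingEquiv).symm.isOpenMap

theorem universallyOpen_image :
    UniversallyOpen (Spec.map (CommRingCat.ofHom (algebraMap A (PolLaw.image F.law)))) := by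
  apply Groth.Agent.Lib.Helper4.UOp.universallyOpen_of_affineSpace
  intro n
  rw [AffineSpace.map_SpecMap]
  simp only [Scheme.Hom.comp_base, TopCat.coe_comp]
  refine IsOpenMap.comp (IsOpenMap.comp ?_ ?_) ?_
  · exact (Scheme.Hom.homeomorph
      (AffineSpace.SpecIso (ULift.{u} (Fin n)) (CommRingCat.of A)).inv).isOpenMap
  · show IsOpenMap (Spec.map _).base
    rw [Spec.map_base]
    exact isOpenMap_comap_mvPolynomial_map F (ULift.{u} (Fin n))
  · exact (Scheme.Hom.homeomorph
      (AffineSpace.SpecIso (ULift.{u} (Fin n)) (CommRingCat.of (PolLaw.image F.law))).hom).isOpenMap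

end Sch

end Groth.Agent.Lib.Helper6.ZC
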